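import Groth.Agent.Lib.EtMod.Present

/-!
# Kernels and cokernels of morphisms of modules with base change on affine objects
-/

universe u

set_option backward.isDefEq.respectTransparency false
set_option linter.style.haveILetI false

open CategoryTheory CategoryTheory.Limits AlgebraicGeometry Opposite AlgSp
open TensorProduct

namespace Groth.Agent.Lib.EtMod

variable {S : Scheme.{u}} {X : Sp S}

/-- A morphism of modules on sections over an object over the base. -/
noncomputable def mSecMap {M N : ModEt X} (φ : M ⟶ N) {E V : EtOver X} (g : V ⟶ E) :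
    MSec M g →ₗ[Fn g] MSec N g :=
  secMap φ V

/-- Left exact sequences of sections preserve base change. -/
theorem isCart_of_leftExact {L F G : ModEt X} (a : L ⟶ F) (b : F ⟶ G)
    (hinj : ∀ E, Function.Injective (secMap a E))
    (hex : ∀ E, Function.Exact (secMap a E) (secMap b E)) (hF : IsCart F) (hG : IsCart G) : IsCart L := by
  intro E V _ _ g
  haveI := flat_fn g
  have key : IsBaseChange (Fn g) (mResL L g) :=
    Alg.isBaseChange_of_exact (B := Fn g) (f₀ := mResL L g) (f₁ := mResL F g) (f₂ := mResL G g)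
      (hF g) (hG g) (r := secMap a E) (d := secMap b E) (hinj E) (hex E)
      (s := mSecMap a g) (d' := mSecMap b g) (hinj V) (fun q => (hex V).apply_apply_eq_zero q)
      (fun p => secMap_res a g p) (fun p => secMap_res b g p)
  exact key

theorem exact_secMap_kernel {F G : ModEt X} (φ : F ⟶ G) (E : EtOver X) :
    Function.Exact (secMap (kernel.ι φ) E) (secMap φ E) := by
  refine fun x => ⟨fun hx => SubSheaf.exists_kernel_lift φ x hx, ?_⟩
  rintro ⟨y, rfl⟩
  have hc : kernel.ι φ ≫ φ = 0 := kernel.condition φ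
  exact congrArg (fun ψ : kernel φ ⟶ G => ψ.val.app (op E) y) hc

/-- The kernel of a morphism between quasi-coherent modules. -/
theorem isCart_kernel {F G : ModEt X} (φ : F ⟶ G) (hF : IsCart F) (hG : IsCart G) : IsCart (kernel φ) :=
  isCart_of_leftExact (kernel.ι φ) φ (fun _ => SubSheaf.kernel_ι_injective φ) (exact_secMap_kernel φ) hF hG

section Slice

variable {X₀ E : EtOver X} {P Q R : SliceMod X₀} {f : E ⟶ X₀}

/-- A bijective comparison identifies the module with the sections over the base. -/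
theorem bijective_tens_id_of_bijective {N : Type (u + 1)} [AddCommGroup N] [Module (fn E) N]
    (θ : N →ₗ[fn E] SSec R f) [IsAffine E.obj.left.left]
    (hθ : ∀ ⦃V : EtOver X⦄ [IsAffine V.obj.left.left] (g : V ⟶ E), Function.Bijective (tens θ g)) :
    (∀ ⦃V : EtOver X⦄ [IsAffine V.obj.left.left] (g : V ⟶ E),
      Function.Bijective (tens (LinearMap.id : SSec R f →ₗ[fn E] SSec R f) g)) ∧
    Function.Surjective θ := by
  let r : Fn (𝟙 E) →ₗ[fn E] fn E :=
    { toFun := fun b => (show fn E from b)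
      map_add' := fun _ _ => rfl
      map_smul' := fun a b => by
        change fnMap (𝟙 E) a * (show fn E from b) = a * (show fn E from b)
        rw [fnMap_id_apply] }
  have hθi : Function.Injective θ := by
    rw [injective_iff_map_eq_zero]
    intro a ha
    have h0 : tens θ (𝟙 E) ((1 : Fn (𝟙 E)) ⊗ₜ a) = 0 := by rw [tens_tmul, ha, map_zero, smul_zero]
    have h1 := congrArg (TensorProduct.lid (fn E) N ∘ r.rTensor N)
      ((injective_iff_map_eq_zero _).1 (hθ (𝟙 E)).1 _ h0)
    simpa [r] using h1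
  have hθs : Function.Surjective θ := surjective_of_tens_id (hθ (𝟙 E)).2
  refine ⟨fun V _ g => ?_, hθs⟩
  let e := LinearEquiv.ofBijective θ ⟨hθi, hθs⟩
  rw [show (LinearMap.id : SSec R f →ₗ[fn E] SSec R f) = θ.comp e.symm.toLinearMap from
    LinearMap.ext fun x => (e.apply_symm_apply x).symm]
  rw [show ⇑(tens (θ.comp e.symm.toLinearMap) g) = tens θ g ∘ (e.symm.lTensor (Fn g)) from
    funext fun z => (tens_lTensor e.symm.toLinearMap θ g z).symm]
  exact (hθ g).comp (e.symm.lTensor (Fn g)).bijective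

/-- Elements of a base change mapping into the image of another vanish in the quotient. -/
theorem lTensor_mkQ_eq_zero (φ : P ⟶ Q) {V W : EtOver X} (g : V ⟶ E) (k : W ⟶ V)
    (z' : Fn g ⊗[fn E] SSec Q f) (y : Fn (k ≫ g) ⊗[fn E] SSec P f)
    (hQ : Function.Injective (tens (LinearMap.id : SSec Q f →ₗ[fn E] SSec Q f) (k ≫ g)))
    (hp : secS φ f (k ≫ g) (tens LinearMap.id (k ≫ g) y) = secHom Q f k rfl (tens LinearMap.id g z')) :
    (fnHom k (rfl : k ≫ g = k ≫ g)).toLinearMap.rTensor _
      ((LinearMap.range (sMap φ f)).mkQ.lTensor (Fn g) z') = 0 := by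
  have h1 : tens LinearMap.id (k ≫ g) ((sMap φ f).lTensor (Fn (k ≫ g)) y) =
      tens LinearMap.id (k ≫ g) ((fnHom k (rfl : k ≫ g = k ≫ g)).toLinearMap.rTensor _ z') := by
    rw [tens_lTensor, LinearMap.id_comp, tens_rTensor, ← hp, ← tens_sMap, LinearMap.comp_id]
  rw [← LinearMap.comp_apply, LinearMap.rTensor_comp_lTensor, ← LinearMap.lTensor_comp_rTensor,
    LinearMap.comp_apply, ← hQ h1, ← LinearMap.comp_apply, ← LinearMap.lTensor_comp,
    LinearMap.range_mkQ_comp, LinearMap.lTensor_zero, LinearMap.zero_apply]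

/-- The cokernel of a morphism between base change modules, on a slice. -/
theorem bijective_tens_cokernel (φ : P ⟶ Q) (ψ : Q ⟶ R) [IsAffine E.obj.left.left]
    (hP : ∀ ⦃V : EtOver X⦄ [IsAffine V.obj.left.left] (g : V ⟶ E),
      Function.Surjective (tens (LinearMap.id : SSec P f →ₗ[fn E] SSec P f) g))
    (hQ : ∀ ⦃V : EtOver X⦄ [IsAffine V.obj.left.left] (g : V ⟶ E),
      Function.Bijective (tens (LinearMap.id : SSec Q f →ₗ[fn E] SSec Q f) g))
    (hzero : ∀ x, sMap ψ f (sMap φ f x) = 0)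
    (hsurj : ∀ ⦃V : EtOver X⦄ (g : V ⟶ E) (m : Sec R f g), ∃ T ∈ etTop X V,
      ∀ ⦃W : EtOver X⦄ (k : W ⟶ V), T k → ∃ q, secS ψ f (k ≫ g) q = secHom R f k rfl m)
    (hex : ∀ ⦃V : EtOver X⦄ (g : V ⟶ E) (m : Sec Q f g), secS ψ f g m = 0 → ∃ T ∈ etTop X V,
      ∀ ⦃W : EtOver X⦄ (k : W ⟶ V), T k → ∃ p, secS φ f (k ≫ g) p = secHom Q f k rfl m) :
    (∀ ⦃V : EtOver X⦄ [IsAffine V.obj.left.left] (g : V ⟶ E),
      Function.Bijective (tens (LinearMap.id : SSec R f →ₗ[fn E] SSec R f) g)) ∧
    Function.Surjective (sMap ψ f) := by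
  let I := LinearMap.range (sMap φ f)
  let θ : (SSec Q f ⧸ I) →ₗ[fn E] SSec R f := I.liftQ (sMap ψ f) (by
    rintro _ ⟨x, rfl⟩
    exact hzero x)
  have hθq : θ.comp I.mkQ = sMap ψ f := I.liftQ_mkQ _ _
  have hθ : ∀ ⦃V : EtOver X⦄ [IsAffine V.obj.left.left] (g : V ⟶ E), Function.Bijective (tens θ g) := by
    refine bijective_tens θ (fun V _ g z hz => ?_) (fun V _ g m => ?_)
    · obtain ⟨z', rfl⟩ := LinearMap.lTensor_surjective (Fn g) I.mkQ_surjective z
      have hz' : secS ψ f g (tens LinearMap.id g z') = 0 := by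
        rw [← tens_sMap, LinearMap.comp_id, ← hθq, ← tens_lTensor]
        exact hz
      obtain ⟨T, hT, h⟩ := hex g _ hz'
      refine ⟨T, hT, fun W _ k hk => ?_⟩
      obtain ⟨p, hp⟩ := h k hk
      obtain ⟨y, rfl⟩ := hP (k ≫ g) p
      exact lTensor_mkQ_eq_zero φ g k z' y (hQ (k ≫ g)).1 hp
    · obtain ⟨T, hT, h⟩ := hsurj g m
      refine ⟨T, hT, fun W _ k hk => ?_⟩
      obtain ⟨q, hq⟩ := h k hk
      obtain ⟨y, rfl⟩ := (hQ (k ≫ g)).2 q
      exact ⟨I.mkQ.lTensor _ y, by rw [tens_lTensor, hθq, ← hq, ← tens_sMap, LinearMap.comp_id]⟩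
  obtain ⟨h1, hθs⟩ := bijective_tens_id_of_bijective θ hθ
  refine ⟨h1, fun m => ?_⟩
  obtain ⟨a, rfl⟩ := hθs m
  obtain ⟨q, rfl⟩ := I.mkQ_surjective a
  exact ⟨q, (LinearMap.congr_fun hθq q).symm⟩

theorem isBaseChange_of_bijective_tens {V : EtOver X} (g : V ⟶ E)
    (h : Function.Bijective (tens (LinearMap.id : SSec P f →ₗ[fn E] SSec P f) g)) :
    IsBaseChange (Fn g) (resL P f g) :=
  IsBaseChange.of_equiv (LinearEquiv.ofBijective (tens LinearMap.id g) h)
    fun m => (tens_tmul LinearMap.id g 1 m).trans (one_smul _ _)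

end Slice

set_option maxHeartbeats 1000000 in
theorem isBC_of_bijective_tens {M : ModEt X} {E V : EtOver X} (g : V ⟶ E)
    (h : Function.Bijective (tens (LinearMap.id : SSec (M.over E) (𝟙 E) →ₗ[fn E] SSec (M.over E) (𝟙 E)) g)) :
    IsBC M g :=
  isBaseChange_of_bijective_tens (X₀ := E) (P := M.over E) (f := 𝟙 E) g h

theorem bijective_tens_of_isCart {M : ModEt X} (hM : IsCart M) {E V : EtOver X} [IsAffine E.obj.left.left]
    [IsAffine V.obj.left.left] (g : V ⟶ E) :
    Function.Bijective (tens (LinearMap.id : SSec (M.over E) (𝟙 E) →ₗ[fn E] SSec (M.over E) (𝟙 E)) g) :=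
  bijective_tens_of_isBaseChange g (hM g)

/-- The quotient in a right exact sequence of quasi-coherent modules. -/
theorem cokernel_aux {F G H : ModEt X} (a : F ⟶ G) (b : G ⟶ H) (w : a ≫ b = 0)
    (hEx : (ShortComplex.mk a b w).Exact) [Epi b] (hF : IsCart F) (hG : IsCart G)
    (E : EtOver X) [IsAffine E.obj.left.left] :
    (∀ ⦃V : EtOver X⦄ [IsAffine V.obj.left.left] (g : V ⟶ E), IsBC H g) ∧
      Function.Surjective (secMap b E) := by
  haveI : Epi (kernel.lift b a w) := (ShortComplex.mk a b w).exact_iff_epi_kernel_lift.1 hEx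
  have hsurj : ∀ (V : EtOver X) (m : sectModEt H V), ∃ T ∈ etTop X V,
      ∀ ⦃W : EtOver X⦄ (k : W ⟶ V), T k → ∃ q, secMap b W q = res H k m :=
    fun V m => SubSheaf.exists_local_preimage b m
  have hex : ∀ (V : EtOver X) (m : sectModEt G V), secMap b V m = 0 → ∃ T ∈ etTop X V,
      ∀ ⦃W : EtOver X⦄ (k : W ⟶ V), T k → ∃ p, secMap a W p = res G k m := fun V m hm => by
    obtain ⟨m', rfl⟩ := SubSheaf.exists_kernel_lift b m hm
    obtain ⟨T, hT, h⟩ := SubSheaf.exists_local_preimage (kernel.lift b a w) m'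
    refine ⟨T, hT, fun W k hk => ?_⟩
    obtain ⟨p, hp⟩ := h k hk
    refine ⟨p, ?_⟩
    have hl : kernel.lift b a w ≫ kernel.ι b = a := kernel.lift_ι b a w
    exact ((congrArg (fun ψ : F ⟶ G => secMap ψ W p) hl).symm.trans
      (congrArg (secMap (kernel.ι b) W) hp)).trans (secMap_res (kernel.ι b) k m')
  have hzero : ∀ x, secMap b E (secMap a E x) = 0 := fun x =>
    congrArg (fun ψ : F ⟶ H => ψ.val.app (op E) x) w
  obtain ⟨h1, h2⟩ := bijective_tens_cokernel (X₀ := E) (f := 𝟙 E) (a.over E) (b.over E)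
    (fun _ _ g => (bijective_tens_of_isCart hF g).2) (fun _ _ g => bijective_tens_of_isCart hG g)
    hzero (fun V _ m => hsurj V m) (fun V _ m hm => hex V m hm)
  exact ⟨fun _ _ g => isBC_of_bijective_tens g (h1 g), h2⟩

/-- The quotient in a right exact sequence of quasi-coherent modules is quasi-coherent. -/
theorem isCart_of_exact_epi {F G H : ModEt X} (a : F ⟶ G) (b : G ⟶ H) (w : a ≫ b = 0)
    (hEx : (ShortComplex.mk a b w).Exact) [Epi b] (hF : IsCart F) (hG : IsCart G) : IsCart H :=
  fun E _ _ _ g => (cokernel_aux a b w hEx hF hG E).1 g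

/-- The cokernel of a morphism between quasi-coherent modules. -/
theorem isCart_cokernel {F G : ModEt X} (φ : F ⟶ G) (hF : IsCart F) (hG : IsCart G) : IsCart (cokernel φ) :=
  isCart_of_exact_epi φ (cokernel.π φ) (cokernel.condition φ) (ShortComplex.cokernelSequence_exact φ) hF hG

/-- An epimorphism with quasi-coherent kernel and source is surjective over affine objects. -/
theorem surjective_secMap_of_epi {G H : ModEt X} (b : G ⟶ H) [Epi b] (hG : IsCart G)
    (hK : IsCart (kernel b)) (E : EtOver X) [IsAffine E.obj.left.left] :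
    Function.Surjective (secMap b E) :=
  (cokernel_aux (kernel.ι b) b (kernel.condition b) (ShortComplex.kernelSequence_exact b) hK hG E).2

/-- An epimorphism between quasi-coherent modules is surjective over affine objects. -/
theorem surjective_secMap {G H : ModEt X} (b : G ⟶ H) [Epi b] (hG : IsCart G) (hH : IsCart H)
    (E : EtOver X) [IsAffine E.obj.left.left] : Function.Surjective (secMap b E) :=
  surjective_secMap_of_epi b hG (isCart_kernel b hG hH) E

end Groth.Agent.Lib.EtMod
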