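import Groth.Agent.Lib.EtMod.Exact

/-!
# Extensions of modules with base change on affine objects
-/

universe u w

set_option backward.isDefEq.respectTransparency false
set_option linter.style.haveILetI false

open CategoryTheory CategoryTheory.Limits AlgebraicGeometry Opposite AlgSp
open TensorProduct

namespace Groth.Agent.Lib.EtMod

section Alg

variable {A B : Type u} [CommRing A] [CommRing B] [Algebra A B]
  {P₀ P₁ P₂ Q₀ Q₁ Q₂ : Type w} [AddCommGroup P₀] [AddCommGroup P₁] [AddCommGroup P₂]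
  [Module A P₀] [Module A P₁] [Module A P₂]
  [AddCommGroup Q₀] [AddCommGroup Q₁] [AddCommGroup Q₂]
  [Module A Q₀] [Module A Q₁] [Module A Q₂] [Module B Q₀] [Module B Q₁] [Module B Q₂]
  [IsScalarTower A B Q₀] [IsScalarTower A B Q₁] [IsScalarTower A B Q₂]

/-- Base change of the middle term of an extension. -/
theorem Alg.isBaseChange_of_extension {f₀ : P₀ →ₗ[A] Q₀} {f₁ : P₁ →ₗ[A] Q₁} {f₂ : P₂ →ₗ[A] Q₂}
    (h₀ : IsBaseChange B f₀) (h₂ : IsBaseChange B f₂) {r : P₀ →ₗ[A] P₁} {d : P₁ →ₗ[A] P₂}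
    (hd : Function.Surjective d) (hex : Function.Exact r d)
    {s : Q₀ →ₗ[B] Q₁} {d' : Q₁ →ₗ[B] Q₂} (hs : Function.Injective s) (hex' : Function.Exact s d')
    (c₁ : ∀ p, s (f₀ p) = f₁ (r p)) (c₂ : ∀ p, d' (f₁ p) = f₂ (d p)) : IsBaseChange B f₁ := by
  let Φ₁ : B ⊗[A] P₁ →ₗ[B] Q₁ := LinearMap.liftBaseChange B f₁
  have e₁ : ∀ x, s (h₀.equiv x) = Φ₁ (r.lTensor B x) := fun x => by
    induction x using TensorProduct.induction_on with
    | zero => simp
    | tmul b p => simp [Φ₁, IsBaseChange.equiv_tmul, c₁]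
    | add x y hx hy => simp only [map_add, hx, hy]
  have e₂ : ∀ x, d' (Φ₁ x) = h₂.equiv (d.lTensor B x) := fun x => by
    induction x using TensorProduct.induction_on with
    | zero => simp
    | tmul b p => simp [Φ₁, IsBaseChange.equiv_tmul, c₂]
    | add x y hx hy => simp only [map_add, hx, hy]
  have hsurj : Function.Surjective Φ₁ := fun q => by
    obtain ⟨x, hx⟩ := LinearMap.lTensor_surjective B hd (h₂.equiv.symm (d' q))
    have h : d' (q - Φ₁ x) = 0 := by rw [map_sub, e₂, hx, LinearEquiv.apply_symm_apply, sub_self]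
    obtain ⟨y, hy⟩ := (hex' _).1 h
    refine ⟨r.lTensor B (h₀.equiv.symm y) + x, ?_⟩
    rw [map_add, ← e₁, LinearEquiv.apply_symm_apply, hy, sub_add_cancel]
  have hinj : Function.Injective Φ₁ := by
    rw [injective_iff_map_eq_zero]
    intro x hx
    have h : d.lTensor B x = 0 := h₂.equiv.injective (by rw [← e₂, hx, map_zero, map_zero])
    obtain ⟨y, rfl⟩ := (lTensor_exact B hex hd x).1 h
    rw [← e₁, map_eq_zero_iff s hs, LinearEquiv.map_eq_zero_iff] at hx
    rw [hx, map_zero]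
  exact IsBaseChange.of_equiv (LinearEquiv.ofBijective Φ₁ ⟨hinj, hsurj⟩) fun p =>
    (LinearMap.liftBaseChange_tmul B f₁ 1 p).trans (one_smul B _)

/-- An element of the base that becomes a boundary after base change. -/
theorem Alg.one_tmul_mkQ_eq_zero {f₁ : P₁ →ₗ[A] Q₁} {f₂ : P₂ →ₗ[A] Q₂} (h₁ : IsBaseChange B f₁)
    (h₂ : IsBaseChange B f₂) {d : P₁ →ₗ[A] P₂} {d' : Q₁ →ₗ[B] Q₂} (c : ∀ p, d' (f₁ p) = f₂ (d p))
    {δ : P₂} {y : Q₁} (hy : d' y = f₂ δ) : (1 : B) ⊗ₜ[A] (LinearMap.range d).mkQ δ = 0 := by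
  have e : ∀ x, d' (h₁.equiv x) = h₂.equiv (d.lTensor B x) := fun x => by
    induction x using TensorProduct.induction_on with
    | zero => simp
    | tmul b p => simp [IsBaseChange.equiv_tmul, c]
    | add x y hx hy => simp only [map_add, hx, hy]
  have h : (1 : B) ⊗ₜ[A] δ = d.lTensor B (h₁.equiv.symm y) := h₂.equiv.injective (by
    rw [IsBaseChange.equiv_tmul, one_smul, ← e, LinearEquiv.apply_symm_apply, hy])
  rw [← LinearMap.lTensor_tmul, h, ← LinearMap.comp_apply, ← LinearMap.lTensor_comp,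
    LinearMap.range_mkQ_comp, LinearMap.lTensor_zero, LinearMap.zero_apply]

end Alg

variable {S : Scheme.{u}} {X : Sp S} {E : EtOver X} (C : AffCover E)

/-- The double intersections of a covering. -/
noncomputable abbrev AffCover.dbl (p : Fin C.n × Fin C.n) : EtOver X :=
  EtOver.pullbackObj (C.g p.1) (C.g p.2)

/-- The double intersections over the base. -/
noncomputable abbrev AffCover.dblHom (p : Fin C.n × Fin C.n) : C.dbl p ⟶ E :=
  EtOver.pullbackFst (C.g p.1) (C.g p.2) ≫ C.g p.1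

theorem AffCover.dbl_snd (p : Fin C.n × Fin C.n) :
    EtOver.pullbackSnd (C.g p.1) (C.g p.2) ≫ C.g p.2 = C.dblHom p :=
  (EtOver.pullback_condition _ _).symm

/-- The first projection from a triple intersection. -/
noncomputable def AffCover.tri₁ {V : EtOver X} (g : V ⟶ E) (p : Fin C.n × Fin C.n) :
    EtOver.pullbackObj g (C.dblHom p) ⟶ EtOver.pullbackObj g (C.g p.1) :=
  (EtOver.pullbackIsLimit g (C.g p.1)).lift (PullbackCone.mk (EtOver.pullbackFst g (C.dblHom p))
    (EtOver.pullbackSnd g (C.dblHom p) ≫ EtOver.pullbackFst (C.g p.1) (C.g p.2))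
    (by rw [Category.assoc]; exact EtOver.pullback_condition _ _))

/-- The second projection from a triple intersection. -/
noncomputable def AffCover.tri₂ {V : EtOver X} (g : V ⟶ E) (p : Fin C.n × Fin C.n) :
    EtOver.pullbackObj g (C.dblHom p) ⟶ EtOver.pullbackObj g (C.g p.2) :=
  (EtOver.pullbackIsLimit g (C.g p.2)).lift (PullbackCone.mk (EtOver.pullbackFst g (C.dblHom p))
    (EtOver.pullbackSnd g (C.dblHom p) ≫ EtOver.pullbackSnd (C.g p.1) (C.g p.2))
    (by rw [Category.assoc, C.dbl_snd]; exact EtOver.pullback_condition _ _))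

variable {V : EtOver X} (g : V ⟶ E) (p : Fin C.n × Fin C.n)

theorem AffCover.tri₁_fst :
    C.tri₁ g p ≫ EtOver.pullbackFst g (C.g p.1) = EtOver.pullbackFst g (C.dblHom p) :=
  (EtOver.pullbackIsLimit g (C.g p.1)).fac _ WalkingCospan.left

theorem AffCover.tri₁_snd : C.tri₁ g p ≫ EtOver.pullbackSnd g (C.g p.1) =
    EtOver.pullbackSnd g (C.dblHom p) ≫ EtOver.pullbackFst (C.g p.1) (C.g p.2) :=
  (EtOver.pullbackIsLimit g (C.g p.1)).fac _ WalkingCospan.right

theorem AffCover.tri₂_fst :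
    C.tri₂ g p ≫ EtOver.pullbackFst g (C.g p.2) = EtOver.pullbackFst g (C.dblHom p) :=
  (EtOver.pullbackIsLimit g (C.g p.2)).fac _ WalkingCospan.left

theorem AffCover.tri₂_snd : C.tri₂ g p ≫ EtOver.pullbackSnd g (C.g p.2) =
    EtOver.pullbackSnd g (C.dblHom p) ≫ EtOver.pullbackSnd (C.g p.1) (C.g p.2) :=
  (EtOver.pullbackIsLimit g (C.g p.2)).fac _ WalkingCospan.right

variable (M : ModEt X)

/-- The difference map on sections over a covering. -/
noncomputable def AffCover.diff : (∀ k, MSec M (C.g k)) →ₗ[fn E] ∀ p, MSec M (C.dblHom p) :=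
  LinearMap.pi fun p =>
    (mRes M (EtOver.pullbackFst (C.g p.1) (C.g p.2)) (rfl : _ = C.dblHom p)).comp (LinearMap.proj p.1) -
      (mRes M (EtOver.pullbackSnd (C.g p.1) (C.g p.2)) (C.dbl_snd p)).comp (LinearMap.proj p.2)

/-- The difference map on sections over a covering of an object over the base. -/
noncomputable def AffCover.diff' : (∀ k, PSec M g (C.g k)) →ₗ[Fn g] ∀ p, PSec M g (C.dblHom p) :=
  LinearMap.pi fun p =>
    (pHom M g (c := C.g p.1) (c' := C.dblHom p) (C.tri₁ g p) (C.tri₁_fst g p)).comp (LinearMap.proj p.1) -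
      (pHom M g (c := C.g p.2) (c' := C.dblHom p) (C.tri₂ g p) (C.tri₂_fst g p)).comp (LinearMap.proj p.2)

theorem AffCover.diff'_toPSnd (t : ∀ k, MSec M (C.g k)) :
    C.diff' g M (fun k => toPSnd M g (C.g k) (t k)) = fun p => toPSnd M g (C.dblHom p) (C.diff M t p) :=
  funext fun p => (congrArg₂ (· - ·)
    (pHom_toPSnd M g (C.tri₁ g p) (C.tri₁_fst g p) _ (rfl : _ = C.dblHom p) (C.tri₁_snd g p) (t p.1))
    (pHom_toPSnd M g (C.tri₂ g p) (C.tri₂_fst g p) _ (C.dbl_snd p) (C.tri₂_snd g p) (t p.2))).trans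
      (map_sub _ _ _).symm

/-- A morphism of modules with quasi-coherent kernel that is locally surjective is surjective over
affine objects. -/
theorem surjective_of_cart_kernel {F G H : ModEt X} (a : F ⟶ G) (b : G ⟶ H)
    (hinj : ∀ E, Function.Injective (secMap a E))
    (hex : ∀ E, Function.Exact (secMap a E) (secMap b E)) (hF : IsCart F)
    (hloc : ∀ (V : EtOver X) (m : sectModEt H V), ∃ T ∈ etTop X V,
      ∀ ⦃W : EtOver X⦄ (k : W ⟶ V), T k → ∃ q, secMap b W q = res H k m)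
    (E : EtOver X) [IsAffine E.obj.left.left] : Function.Surjective (secMap b E) := by
  intro m
  obtain ⟨T, hT, h⟩ := hloc E m
  obtain ⟨C, hC⟩ := exists_affCover hT
  choose q hq using fun k => h (C.g k) (hC k)
  let i₁ := fun p : Fin C.n × Fin C.n => EtOver.pullbackFst (C.g p.1) (C.g p.2)
  let i₂ := fun p : Fin C.n × Fin C.n => EtOver.pullbackSnd (C.g p.1) (C.g p.2)
  have hδ : ∀ p : Fin C.n × Fin C.n,
      ∃ δ, secMap a (C.dbl p) δ = res G (i₁ p) (q p.1) - res G (i₂ p) (q p.2) := fun p =>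
    (hex (C.dbl p) _).1 (by
      rw [map_sub, secMap_res, secMap_res, hq, hq, sub_eq_zero]
      exact res_res_eq _ _ _ _ (EtOver.pullback_condition _ _) m)
  choose δ hδ using hδ
  let δ' : ∀ p, MSec F (C.dblHom p) := δ
  have key : ∀ k, (1 : Fn (C.g k)) ⊗ₜ[fn E] (LinearMap.range (C.diff F)).mkQ δ' = 0 := fun k => by
    let g := C.g k
    let y : ∀ l, PSec F g (C.g l) := fun l => -(show PSec F g (C.g l) from δ (k, l))
    refine Alg.one_tmul_mkQ_eq_zero (B := Fn g)
      (IsBaseChange.pi (S := Fn g) (fun l => toPSnd F g (C.g l))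
        fun l => isBaseChange_toPSnd g (C.g l) (hF _))
      (IsBaseChange.pi (S := Fn g) (fun p => toPSnd F g (C.dblHom p))
        fun p => isBaseChange_toPSnd g (C.dblHom p) (hF _))
      (d := C.diff F) (d' := C.diff' g F) (C.diff'_toPSnd g F) (y := y) ?_
    refine funext fun p => ?_
    change res F (C.tri₁ g p) (-δ (k, p.1)) - res F (C.tri₂ g p) (-δ (k, p.2)) =
      res F (EtOver.pullbackSnd g (C.dblHom p)) (δ p)
    refine hinj _ ?_
    have hk : ∀ l, secMap a (EtOver.pullbackObj g (C.g l)) (δ (k, l)) =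
        res G (i₁ (k, l)) (q k) - res G (i₂ (k, l)) (q l) := fun l => hδ (k, l)
    rw [map_sub, map_neg, map_neg, map_neg, map_neg, secMap_res, secMap_res, secMap_res, hk, hk, hδ,
      map_sub, map_sub, map_sub]
    have e₁ := res_res_eq (M := G) (i₁ (k, p.1)) (i₁ (k, p.2)) (C.tri₁ g p) (C.tri₂ g p)
      ((C.tri₁_fst g p).trans (C.tri₂_fst g p).symm) (q k)
    have e₂ := res_res_eq (M := G) (i₂ (k, p.1)) (i₁ p) (C.tri₁ g p) (EtOver.pullbackSnd g (C.dblHom p))
      (C.tri₁_snd g p) (q p.1)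
    have e₃ := res_res_eq (M := G) (i₂ (k, p.2)) (i₂ p) (C.tri₂ g p) (EtOver.pullbackSnd g (C.dblHom p))
      (C.tri₂_snd g p) (q p.2)
    rw [e₁, e₂, e₃]
    abel
  have hmem : δ' ∈ LinearMap.range (C.diff F) := by
    rw [← Submodule.Quotient.mk_eq_zero]
    exact Alg.IsFFFamily.eq_zero (B := fun k => Fn (C.g k))
      ⟨fun k => flat_fnMap (C.g k), C.covers⟩ key
  obtain ⟨t, ht⟩ := hmem
  obtain ⟨n, hn⟩ := exists_glue C.V C.g C.cov
    (fun k => q k - secMap a (C.V k) (t k)) (fun i j => by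
      have h := (congrArg (secMap a (C.dbl (i, j))) (congrFun ht (i, j))).trans (hδ (i, j))
      change secMap a _ (res F (i₁ (i, j)) (t i) - res F (i₂ (i, j)) (t j)) = _ at h
      rw [map_sub, secMap_res, secMap_res] at h
      change res G (i₁ (i, j)) _ = res G (i₂ (i, j)) _
      rw [map_sub, map_sub]
      exact sub_eq_sub_iff_sub_eq_sub.1 h.symm)
  refine ⟨n, eq_of_cover C.V C.g C.cov fun k => ?_⟩
  rw [← secMap_res, hn, map_sub, hq, (hex (C.V k)).apply_apply_eq_zero, sub_zero]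

/-- An extension of quasi-coherent modules is quasi-coherent. -/
theorem isCart_of_extension {F G H : ModEt X} (a : F ⟶ G) (b : G ⟶ H)
    (hinj : ∀ E, Function.Injective (secMap a E))
    (hex : ∀ E, Function.Exact (secMap a E) (secMap b E)) (hF : IsCart F) (hH : IsCart H)
    (hloc : ∀ (V : EtOver X) (m : sectModEt H V), ∃ T ∈ etTop X V,
      ∀ ⦃W : EtOver X⦄ (k : W ⟶ V), T k → ∃ q, secMap b W q = res H k m) : IsCart G := by
  intro E V _ _ g
  have key : IsBaseChange (Fn g) (mResL G g) :=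
    Alg.isBaseChange_of_extension (B := Fn g) (f₀ := mResL F g) (f₁ := mResL G g) (f₂ := mResL H g)
      (hF g) (hH g) (r := secMap a E) (d := secMap b E)
      (surjective_of_cart_kernel a b hinj hex hF hloc E) (hex E)
      (s := mSecMap a g) (d' := mSecMap b g) (hinj V) (hex V)
      (fun p => secMap_res a g p) (fun p => secMap_res b g p)
  exact key

end Groth.Agent.Lib.EtMod
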