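import Groth.Agent.Lib.EtMod.Coherent
import Mathlib.RingTheory.Finiteness.Descent
import Mathlib.RingTheory.Finiteness.ModuleFinitePresentation

/-!
# Finitely presented modules of sections
-/

universe u

set_option backward.isDefEq.respectTransparency false

open CategoryTheory CategoryTheory.Limits AlgebraicGeometry Opposite AlgSp
open TensorProduct

namespace Groth.Agent.Lib.EtMod

variable {S : Scheme.{u}} {X : Sp S} {X₀ E : EtOver X} {P Q : SliceMod X₀} {f : E ⟶ X₀}
  {N : Type (u + 1)} [AddCommGroup N] [Module (fn E) N]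

/-- Injectivity downstairs. -/
theorem injective_of_tens_id {θ : N →ₗ[fn E] SSec P f} (h : Function.Injective (tens θ (𝟙 E))) :
    Function.Injective θ := fun a b hab => by
  have e : (1 : Fn (𝟙 E)) ⊗ₜ[fn E] a = 1 ⊗ₜ b := h (by rw [tens_tmul, tens_tmul, hab])
  have hb : Function.Bijective (algebraMap (fn E) (Fn (𝟙 E))) := by
    rw [show ⇑(algebraMap (fn E) (Fn (𝟙 E))) = id from funext fun x => (algebraMap_fn (𝟙 E) x).trans (fnMap_id_apply E x)]
    exact Function.bijective_id
  let α := AlgEquiv.ofBijective (Algebra.ofId (fn E) (Fn (𝟙 E))) hb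
  have e' := congrArg (TensorProduct.lid (fn E) N ∘ (α.symm.toLinearMap.rTensor N)) e
  simpa using e'

/-- The part of a base change killed by a morphism comes locally from any submodule containing the relations. -/
theorem local_zero_of_relations (π : P ⟶ Q) (θ₀ : N →ₗ[fn E] SSec P f)
    (hinj : ∀ ⦃W : EtOver X⦄ [IsAffine W.obj.left.left] (g : W ⟶ E), Function.Injective (tens θ₀ g))
    {ι' : Type (u + 1)} (t : ι' → (kernel π).sections) [Epi ((kernel π).freeHomEquiv.symm t)]
    (K : Submodule (fn E) N) (hK : ∀ n ∈ K, sMap π f (θ₀ n) = 0)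
    (hgen : ∀ j, ∃ n ∈ K, θ₀ n =
      PresheafOfModules.sections.eval (SheafOfModules.sectionsMap (kernel.ι π) (t j)) (op (Over.mk f)))
    {V : EtOver X} (g : V ⟶ E) (z : Fn g ⊗[fn E] N) (hz : secS π f g (tens θ₀ g z) = 0) :
    ∃ R ∈ etTop X V, ∀ ⦃W : EtOver X⦄ [IsAffine W.obj.left.left] (k : W ⟶ V), R k →
      (fnHom k (rfl : k ≫ g = k ≫ g)).toLinearMap.rTensor _ (K.mkQ.lTensor (Fn g) z) = 0 := by
  let ψ : ↥K →ₗ[fn E] SSec P f := θ₀.comp K.subtype
  have hψ : ∀ n : ↥K, sMap π f (ψ n) = 0 := fun n => hK n n.2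
  have hgen' : ∀ j, ∃ n : ↥K, ψ n =
      PresheafOfModules.sections.eval (SheafOfModules.sectionsMap (kernel.ι π) (t j)) (op (Over.mk f)) :=
    fun j => by
      obtain ⟨n, hn, hn'⟩ := hgen j
      exact ⟨⟨n, hn⟩, hn'⟩
  obtain ⟨R, hR, h⟩ := local_lift_kernel (N := ↥K) (f := f) π t ψ hψ hgen' g (tens θ₀ g z) hz
  refine ⟨R, hR, fun W _ k hk => ?_⟩
  obtain ⟨y, hy⟩ := h k hk
  have h1 : tens θ₀ (k ≫ g) (K.subtype.lTensor (Fn (k ≫ g)) y) = tens θ₀ (k ≫ g)
      ((fnHom k (rfl : k ≫ g = k ≫ g)).toLinearMap.rTensor _ z) :=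
    (tens_lTensor K.subtype θ₀ (k ≫ g) y).trans (hy.trans (tens_rTensor θ₀ k rfl z).symm)
  rw [← LinearMap.comp_apply, LinearMap.rTensor_comp_lTensor, ← LinearMap.lTensor_comp_rTensor,
    LinearMap.comp_apply, ← hinj (k ≫ g) h1, ← LinearMap.comp_apply, ← LinearMap.lTensor_comp,
    show K.mkQ.comp K.subtype = 0 from LinearMap.ext fun n => (Submodule.Quotient.mk_eq_zero K).2 n.2,
    LinearMap.lTensor_zero, LinearMap.zero_apply]

/-- A finitely presented slice module has finitely presented sections over affine objects. -/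
theorem finitePresentation_of_presented [IsAffine E.obj.left.left] {ι ι' : Type (u + 1)} [Finite ι] [Finite ι']
    (π : sfree ι ⟶ Q) (s : ι → Q.sections) [Epi (Q.freeHomEquiv.symm s)]
    (hs : ∀ i, SheafOfModules.sectionsMap π (SheafOfModules.freeSection i) = s i)
    (t : ι' → (kernel π).sections) [Epi ((kernel π).freeHomEquiv.symm t)] :
    Module.FinitePresentation (fn E) (SSec Q f) := by
  let θ₁ := (sMap π f).comp (combBase f ι)
  choose n hn using fun j => surjective_of_tens_id (bijective_tens_combBase (ι := ι) (f := f) (𝟙 E)).2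
    (PresheafOfModules.sections.eval (SheafOfModules.sectionsMap (kernel.ι π) (t j)) (op (Over.mk f)))
  let K : Submodule (fn E) (ι →₀ fn E) := Submodule.span (fn E) (Set.range n)
  have hK : K ≤ LinearMap.ker θ₁ := Submodule.span_le.2 (by
    rintro _ ⟨j, rfl⟩
    exact (congrArg (sMap π f) (hn j)).trans (sMap_eval_kernel π (t j) f))
  let θ : (_ ⧸ K) →ₗ[fn E] SSec Q f := K.liftQ θ₁ hK
  have hθ : ∀ ⦃V : EtOver X⦄ [IsAffine V.obj.left.left] (g : V ⟶ E), Function.Bijective (tens θ g) := by
    refine bijective_tens θ (fun V _ g z hz => ?_) (fun V _ g m => ?_)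
    · obtain ⟨z', rfl⟩ := LinearMap.lTensor_surjective (Fn g) K.mkQ_surjective z
      rw [tens_lTensor, show θ.comp K.mkQ = θ₁ from K.liftQ_mkQ _ _, tens_sMap] at hz
      exact local_zero_of_relations π (combBase f ι) (fun W _ k => (bijective_tens_combBase k).1) t K
        (fun x hx => hK hx) (fun j => ⟨n j, Submodule.subset_span ⟨j, rfl⟩, hn j⟩) g z' hz
    · obtain ⟨R, hR, h⟩ := local_surj_of_sections s θ (fun i => by
        refine ⟨K.mkQ (Finsupp.single i 1), ?_⟩
        change sMap π f (combBase f ι (Finsupp.single i 1)) = _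
        rw [combBase_single, sMap_eval, hs]) g m
      exact ⟨R, hR, fun W _ k hk => h k hk⟩
  have hsurj : Function.Surjective θ := surjective_of_tens_id (hθ (𝟙 E)).2
  have hinj : Function.Injective θ := injective_of_tens_id (hθ (𝟙 E)).1
  haveI : Module.FinitePresentation (fn E) (ι →₀ fn E) := inferInstance
  haveI : Module.FinitePresentation (fn E) ((ι →₀ fn E) ⧸ K) :=
    Module.finitePresentation_of_surjective K.mkQ K.mkQ_surjective
      (by rw [Submodule.ker_mkQ]; exact Submodule.fg_span (Set.finite_range n))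
  exact Module.FinitePresentation.of_equiv (LinearEquiv.ofBijective θ ⟨hinj, hsurj⟩)

section Descent

variable {A : Type u} [CommRing A] {κ : Type} [Finite κ] {B : κ → Type u} [∀ k, CommRing (B k)]
  [∀ k, Algebra A (B k)]

/-- Finite presentation descends along covering families. -/
theorem Alg.finitePresentation_of_family (hB : Alg.IsFFFamily (A := A) B) {N : Type (u + 1)} [AddCommGroup N]
    [Module A N] [Module.Finite A N] (h : ∀ k, Module.FinitePresentation (B k) (B k ⊗[A] N)) :
    Module.FinitePresentation A N := by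
  classical
  cases nonempty_fintype κ
  obtain ⟨n, f, hf⟩ := Module.Finite.exists_fin' A N
  refine Module.finitePresentation_of_surjective f hf ?_
  let K := LinearMap.ker f
  have hfin : ∀ k, Module.Finite (B k) (B k ⊗[A] K) := fun k => by
    haveI := hB.flat k
    haveI := h k
    let ι := K.subtype.baseChange (B k)
    have hι : Function.Injective ι :=
      Module.Flat.lTensor_preserves_injective_linearMap _ Subtype.val_injective
    have hk : (LinearMap.ker (f.baseChange (B k))).FG :=
      Module.FinitePresentation.fg_ker _ (LinearMap.lTensor_surjective (B k) hf)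
    have hr : LinearMap.range ι = LinearMap.ker (f.baseChange (B k)) := by
      ext x
      exact (lTensor_exact (B k) (LinearMap.exact_subtype_ker_map f) hf x).symm
    have : Module.Finite (B k) (LinearMap.range ι) := by rw [hr]; exact Module.Finite.iff_fg.2 hk
    exact Module.Finite.equiv (LinearEquiv.ofInjective ι hι).symm
  have hG : ∀ k, ∃ G : Finset K, Submodule.span (B k) (TensorProduct.mk A (B k) K 1 '' (G : Set K)) = ⊤ := fun k => by
    obtain ⟨T, hT⟩ := (hfin k).fg_top
    have hall : ∀ z : B k ⊗[A] K, z ∈ Submodule.span (B k) (Set.range (TensorProduct.mk A (B k) K 1)) := fun z => by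
      induction z using TensorProduct.induction_on with
      | zero => simp
      | tmul b x =>
        rw [show b ⊗ₜ[A] x = b • ((1 : B k) ⊗ₜ[A] x) by rw [TensorProduct.smul_tmul', smul_eq_mul, mul_one]]
        exact Submodule.smul_mem _ b (Submodule.subset_span ⟨x, rfl⟩)
      | add a b ha hb => exact Submodule.add_mem _ ha hb
    have : ∀ t : T, ∃ G : Finset K, (t : B k ⊗[A] K) ∈
        Submodule.span (B k) (TensorProduct.mk A (B k) K 1 '' (G : Set K)) := fun t => by
      obtain ⟨G', hG', ht⟩ := Submodule.mem_span_finite_of_mem_span (hall t)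
      choose p hp using fun x : G' => hG' x.2
      refine ⟨Finset.univ.image p, Submodule.span_mono (fun x hx => ?_) ht⟩
      exact ⟨p ⟨x, hx⟩, by simp, hp ⟨x, hx⟩⟩
    choose G hG using this
    refine ⟨Finset.univ.biUnion G, eq_top_iff.2 ?_⟩
    rw [← hT, Submodule.span_le]
    intro t ht
    refine Submodule.span_mono (Set.image_mono ?_) (hG ⟨t, ht⟩)
    intro x hx
    exact Finset.mem_biUnion.2 ⟨⟨t, ht⟩, Finset.mem_univ _, hx⟩
  choose G hG using hG
  suffices Module.Finite A K from Module.Finite.iff_fg.1 this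
  refine ⟨Submodule.fg_def.2 ⟨⋃ k, (G k : Set K), Set.finite_iUnion fun k => (G k).finite_toSet,
    eq_top_iff.2 fun x _ => ?_⟩⟩
  rw [← Submodule.Quotient.mk_eq_zero]
  refine hB.eq_zero fun k => ?_
  let P := Submodule.span A (⋃ k, (G k : Set K))
  have hle : Submodule.span (B k) (TensorProduct.mk A (B k) K 1 '' (G k : Set K)) ≤
      LinearMap.ker (P.mkQ.baseChange (B k)) := by
    rw [Submodule.span_le]
    rintro _ ⟨y, hy, rfl⟩
    change P.mkQ.baseChange (B k) (1 ⊗ₜ y) = 0
    rw [LinearMap.baseChange_tmul, Submodule.mkQ_apply,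
      (Submodule.Quotient.mk_eq_zero P).2 (Submodule.subset_span (Set.mem_iUnion_of_mem k hy)), tmul_zero]
  have h0 : P.mkQ.baseChange (B k) ((1 : B k) ⊗ₜ x) = 0 := hle (hG k ▸ trivial)
  rwa [LinearMap.baseChange_tmul] at h0

end Descent

/-- Modules of finite presentation have finitely presented modules of sections over affine objects. -/
theorem finitePresentation_sect {M : ModEt X} [M.IsFinitePresentation] (E : EtOver X)
    [IsAffine E.obj.left.left] : Module.FinitePresentation (fn E) (sectModEt M E) := by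
  have hM : IsCart M := isCart_of_isQuasicoherent M
  have := finite_of_isFinitePresentation (M := M) E
  obtain ⟨q, hq⟩ := SheafOfModules.IsFinitePresentation.exists_quasicoherentData (M := M)
  obtain ⟨C, hC⟩ := exists_affCover (E := E) (q.coversTop E)
  refine Alg.finitePresentation_of_family (B := fun k => Fn (C.g k))
    ⟨fun k => flat_fnMap (C.g k), C.covers⟩ fun k => ?_
  obtain ⟨i, ⟨b⟩⟩ := (Sieve.mem_ofObjects_iff ..).mp (hC k)
  have hfi := hq.isFinite_presentation i
  let σ := q.presentation i
  have := σ.generators.epi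
  have := σ.relations.epi
  have := hfi.isFiniteType_generators.finite
  have := hfi.isFiniteType_relations.finite
  have h : Module.FinitePresentation (fn (C.V k)) (SSec (M.over (q.X i)) b) :=
    finitePresentation_of_presented σ.generators.π σ.generators.s
      (SheafOfModules.sectionsMap_freeHomEquiv_symm_freeSection σ.generators.s) σ.relations.s
  haveI : Module.FinitePresentation (Fn (C.g k)) (MSec M (C.g k)) := h
  exact Module.FinitePresentation.of_equiv
    (IsBaseChange.equiv (R := fn E) (S := Fn (C.g k)) (f := mResL M (C.g k)) (hM (C.g k))).symm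

/-- The generators map to the chosen sections. -/
theorem sMap_comb_single {E : EtOver X} {P : SliceMod E} {ι : Type (u + 1)} (σ : ι → SSec P (𝟙 E)) (i : ι) :
    sMap (P.freeHomEquiv.symm fun i => genAll P (σ i)) (𝟙 E) (combBase (𝟙 E) ι (Finsupp.single i 1)) = σ i := by
  rw [combBase_single, sMap_eval, SheafOfModules.sectionsMap_freeHomEquiv_symm_freeSection]
  exact eval_genAll P (σ i)

/-- The generators map onto the sections. -/
theorem surjective_sMap_comb {E : EtOver X} {P : SliceMod E} {ι : Type (u + 1)} (σ : ι → SSec P (𝟙 E))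
    (hσ : Function.Surjective (Finsupp.linearCombination (fn E) σ)) :
    Function.Surjective ((sMap (P.freeHomEquiv.symm fun i => genAll P (σ i)) (𝟙 E)).comp (combBase (𝟙 E) ι)) := by
  rw [← LinearMap.range_eq_top, eq_top_iff, ← LinearMap.range_eq_top.2 hσ, Finsupp.range_linearCombination,
    Submodule.span_le]
  rintro _ ⟨i, rfl⟩
  exact ⟨Finsupp.single i 1, sMap_comb_single σ i⟩

theorem exists_kernel_sMap {E : EtOver X} {P F : SliceMod E} (π : F ⟶ P) (x : SSec F (𝟙 E))
    (h : sMap π (𝟙 E) x = 0) : ∃ y, sMap (kernel.ι π) (𝟙 E) y = x :=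
  SubSheaf.exists_kernel_lift π (X := Over.mk (𝟙 E)) x h

theorem range_ν_eq {E : EtOver X} {P F : SliceMod E} {N : Type (u + 1)} [AddCommGroup N] [Module (fn E) N]
    (π : F ⟶ P) (c : N →ₗ[fn E] SSec F (𝟙 E)) (hc : Function.Surjective c) :
    LinearMap.range (sMap (kernel.ι π) (𝟙 E)) = (LinearMap.ker ((sMap π (𝟙 E)).comp c)).map c := by
  refine le_antisymm ?_ ?_
  · intro x hx
    obtain ⟨y, hy⟩ := LinearMap.mem_range.1 hx
    obtain ⟨n, hn⟩ := hc x
    refine Submodule.mem_map.2 ⟨n, LinearMap.mem_ker.2 ?_, hn⟩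
    rw [LinearMap.comp_apply, hn, ← hy]
    exact sMap_comp_zero _ π (kernel.condition π) _ y
  · intro x hx
    obtain ⟨n, hn, rfl⟩ := Submodule.mem_map.1 hx
    exact LinearMap.mem_range.2 (exists_kernel_sMap π (c n)
      ((LinearMap.comp_apply _ _ _).symm.trans (LinearMap.mem_ker.1 hn)))

/-- The sections of a kernel from a finite module onto finitely presented sections are finite. -/
theorem finite_kernel_of_fp {E : EtOver X} {P F : SliceMod E} [Module.FinitePresentation (fn E) (SSec P (𝟙 E))]
    {N : Type (u + 1)} [AddCommGroup N] [Module (fn E) N] [Module.Finite (fn E) N]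
    (π : F ⟶ P) (c : N →ₗ[fn E] SSec F (𝟙 E)) (hc : Function.Surjective c)
    (hπ : Function.Surjective ((sMap π (𝟙 E)).comp c)) :
    Module.Finite (fn E) (SSec (kernel π) (𝟙 E)) := by
  have hfg : ((LinearMap.ker ((sMap π (𝟙 E)).comp c)).map c).FG :=
    (Module.FinitePresentation.fg_ker _ hπ).map _
  rw [← range_ν_eq π c hc] at hfg
  have := Module.Finite.iff_fg.2 hfg
  exact Module.Finite.equiv (LinearEquiv.ofInjective (sMap (kernel.ι π) (𝟙 E))
    (fun a b h => SubSheaf.kernel_ι_injective π (X := Over.mk (𝟙 E)) h)).symm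

/-- A finite presentation from finitely presented modules of sections over an affine object. -/
theorem exists_finitePresentation_of_fp {M : ModEt X} (hM : IsCart M) (E : EtOver X) [IsAffine E.obj.left.left]
    [Module.FinitePresentation (fn E) (sectModEt M E)] :
    ∃ σ : (M.over E).Presentation, σ.IsFinite := by
  haveI : Module.FinitePresentation (fn E) (SSec (M.over E) (𝟙 E)) :=
    ‹Module.FinitePresentation (fn E) (sectModEt M E)›
  obtain ⟨ι, _, σ, hσ⟩ := exists_fin_surjective (A := fn E) (N := SSec (M.over E) (𝟙 E))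
  have hb : ∀ ⦃V : EtOver X⦄ [IsAffine V.obj.left.left] (g : V ⟶ E), Function.Bijective
      (tens (LinearMap.id : SSec (M.over E) (𝟙 E) →ₗ[fn E] SSec (M.over E) (𝟙 E)) g) :=
    fun _ _ g => bijective_tens_of_isCart hM g
  let π := (M.over E).freeHomEquiv.symm fun i => genAll (M.over E) (σ i)
  have : Module.Finite (fn E) (SSec (kernel π) (𝟙 E)) := finite_kernel_of_fp π (combBase (𝟙 E) ι) (surjective_of_tens_id (bijective_tens_combBase (𝟙 E)).2)
    (surjective_sMap_comb σ hσ)
  obtain ⟨ι', _, τ, hτ⟩ := exists_fin_surjective (A := fn E) (N := SSec (kernel π) (𝟙 E))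
  have e : Epi ((kernel π).freeHomEquiv.symm fun j => genAll (kernel π) (τ j)) :=
    epi_genFam τ hτ fun _ _ g =>
      surjective_tens_kernel π (combBase (𝟙 E) ι) g (bijective_tens_combBase g).2 (hb g).1
  exact ⟨{ generators := ⟨ι, fun i => genAll (M.over E) (σ i), epi_genFam σ hσ fun _ _ g => (hb g).2⟩
           relations := ⟨ι', fun j => genAll (kernel π) (τ j), e⟩ },
    { isFiniteType_generators := ⟨‹Finite ι›⟩, isFiniteType_relations := ⟨‹Finite ι'›⟩ }⟩

/-- Finitely presented modules of sections on a covering give finite presentation. -/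
theorem isFinitePresentation_of_fp {M : ModEt X} (hM : IsCart M) {I : Type (u + 1)} (W : I → EtOver X)
    [∀ i, IsAffine (W i).obj.left.left] (hW : (etTop X).CoversTop W)
    (h : ∀ i, Module.FinitePresentation (fn (W i)) (sectModEt M (W i))) : M.IsFinitePresentation := by
  have h' : ∀ i, ∃ σ : (M.over (W i)).Presentation, σ.IsFinite := fun i =>
    have := h i
    exists_finitePresentation_of_fp hM (W i)
  choose σ hσ using h'
  let q : M.QuasicoherentData := { I := I, X := W, coversTop := hW, presentation := σ }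
  haveI : q.IsFinitePresentation := { isFinite_presentation := fun i => hσ i }
  exact { exists_quasicoherentData := ⟨q, ‹q.IsFinitePresentation›⟩ }

end Groth.Agent.Lib.EtMod
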