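import Groth.Agent.Lib.EtMod.Alg
import Mathlib.RingTheory.Unramified.LocalRing
import Mathlib.RingTheory.Ideal.MinimalPrime.Localization
import Mathlib.RingTheory.Localization.BaseChange
import Mathlib.FieldTheory.PrimitiveElement
import Mathlib.RingTheory.AdjoinRoot
import Mathlib.RingTheory.Flat.Localization

/-!
# Weakly associated primes along etale ring maps
-/

universe u w

set_option linter.style.haveILetI false

open TensorProduct IsLocalRing

namespace Groth.Agent.Lib.EtMod.WeakAssAlg

section Ann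

variable {A : Type*} [CommRing A] {M : Type*} [AddCommGroup M] [Module A M]

/-- The annihilator of an element. -/
def Ann (x : M) : Ideal A := LinearMap.ker (LinearMap.toSpanSingleton A M x)

theorem mem_Ann {x : M} {a : A} : a ∈ Ann x ↔ a • x = 0 :=
  Iff.rfl

theorem Ann_eq_top {x : M} : Ann (A := A) x = ⊤ ↔ x = 0 := by
  rw [Ideal.eq_top_iff_one, mem_Ann, one_smul]

variable (M) in
/-- A weakly associated prime of a module. -/
def IsWA (p : Ideal A) : Prop := ∃ x : M, p ∈ (Ann (A := A) x).minimalPrimes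

/-- Killed by a power of each element of an ideal. -/
def Killed (I : Ideal A) (x : M) : Prop := I ≤ (Ann (A := A) x).radical

theorem Killed.zero (I : Ideal A) : Killed I (0 : M) := by
  simp [Killed, (Ann_eq_top (A := A)).2 (rfl : (0 : M) = 0), Ideal.radical_top]

theorem Killed.exists_pow {I : Ideal A} {x : M} (h : Killed I x) {a : A} (ha : a ∈ I) :
    ∃ k : ℕ, a ^ k • x = 0 :=
  h ha

theorem killed_of_pow {I : Ideal A} {x : M} (h : ∀ a ∈ I, ∃ k : ℕ, a ^ k • x = 0) : Killed I x :=
  fun a ha => h a ha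

theorem Killed.map_linear {N : Type*} [AddCommGroup N] [Module A N] {I : Ideal A} {x : M}
    (h : Killed I x) (f : M →ₗ[A] N) : Killed I (f x) :=
  killed_of_pow fun a ha => (h.exists_pow ha).imp fun k hk => by rw [← map_smul, hk, map_zero]

theorem Killed.of_injective {N : Type*} [AddCommGroup N] [Module A N] {I : Ideal A} {x : M}
    (f : M →ₗ[A] N) (hf : Function.Injective f) (h : Killed I (f x)) : Killed I x :=
  killed_of_pow fun a ha => (h.exists_pow ha).imp fun k hk => hf (by rw [map_smul, hk, map_zero])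

theorem killed_map_iff {B : Type*} [CommRing B] [Algebra A B] [Module B M] [IsScalarTower A B M]
    {I : Ideal A} {x : M} : Killed (I.map (algebraMap A B)) x ↔ Killed I x := by
  have h : (Ann (A := B) x).comap (algebraMap A B) = Ann (A := A) x :=
    Ideal.ext fun a => by rw [Ideal.mem_comap, mem_Ann, mem_Ann, algebraMap_smul]
  rw [Killed, Killed, Ideal.map_le_iff_le_comap, Ideal.comap_radical, h]

end Ann

section Localization

variable {A : Type*} [CommRing A] {N : Type*} [AddCommGroup N] [Module A N] (p : Ideal A) [p.IsPrime]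
  {L : Type*} [AddCommGroup L] [Module A L] (f : N →ₗ[A] L) [IsLocalizedModule p.primeCompl f]

include f in
/-- A prime is weakly associated iff the localization has a nonzero element killed by powers of its
elements. -/
theorem isWA_iff : IsWA N p ↔ ∃ x : L, x ≠ 0 ∧ Killed p x := by
  constructor
  · rintro ⟨n, hn⟩
    refine ⟨f n, fun h => ?_, killed_of_pow fun a ha => ?_⟩
    · obtain ⟨⟨s, hs⟩, hsn⟩ := (IsLocalizedModule.eq_zero_iff p.primeCompl f).1 h
      exact hs (hn.1.2 hsn)
    · by_contra hk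
      push Not at hk
      let T : Submonoid A :=
        { carrier := {t | ∃ s ∈ p.primeCompl, ∃ k : ℕ, t = s * a ^ k}
          one_mem' := ⟨1, one_mem _, 0, by simp⟩
          mul_mem' := fun {x y} ⟨s, hs, k, hx⟩ ⟨s', hs', k', hy⟩ =>
            ⟨s * s', mul_mem hs hs', k + k', by rw [hx, hy]; ring⟩ }
      have hd : Disjoint (Ann (A := A) n : Set A) (T : Set A) := by
        refine Set.disjoint_right.2 ?_
        rintro t ⟨s, hs, k, rfl⟩ ht
        refine hk k ?_
        rw [← map_smul, IsLocalizedModule.eq_zero_iff p.primeCompl f]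
        exact ⟨⟨s, hs⟩, by rw [Submonoid.smul_def, smul_smul]; exact ht⟩
      obtain ⟨q, hq, hle, hdq⟩ := Ideal.exists_le_prime_disjoint (Ann (A := A) n) T hd
      have hqp : q ≤ p := fun t ht => by
        by_contra htp
        exact Set.disjoint_left.1 hdq ht ⟨t, htp, 0, by simp⟩
      exact Set.disjoint_left.1 hdq (hn.2 ⟨hq, hle⟩ hqp ha) ⟨1, one_mem _, 1, by simp⟩
  · rintro ⟨x, hx, hk⟩
    obtain ⟨⟨n, s⟩, hs⟩ := IsLocalizedModule.surj p.primeCompl f x
    refine ⟨n, ⟨inferInstance, fun a ha => ?_⟩, fun q hq hqp a ha => ?_⟩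
    · by_contra hap
      apply hx
      have h1 : s • x = 0 := by
        rw [show s • x = f n from hs, IsLocalizedModule.eq_zero_iff p.primeCompl f]
        exact ⟨⟨a, hap⟩, ha⟩
      exact IsLocalizedModule.smul_injective f s (h1.trans (smul_zero s).symm)
    · obtain ⟨k, hk'⟩ := hk.exists_pow ha
      have h0 : f (a ^ k • n) = 0 := by
        rw [map_smul, ← show s • x = f n from hs, smul_comm, hk', smul_zero]
      obtain ⟨t, ht⟩ := (IsLocalizedModule.eq_zero_iff p.primeCompl f).1 h0
      rw [Submonoid.smul_def, smul_smul] at ht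
      exact hq.1.mem_of_pow_mem k ((hq.1.mem_or_mem (hq.2 ht)).resolve_left fun h => t.2 (hqp h))

end Localization

section Trivial

variable {A B : Type u} [CommRing A] [CommRing B] [Algebra A B] [IsLocalRing A] [IsLocalRing B]
  [IsLocalHom (algebraMap A B)] [Module.Flat A B] [Algebra.FormallyUnramified A B] [Algebra.EssFiniteType A B]
  {N : Type w} [AddCommGroup N] [Module A N]

/-- Torsion at the closed point does not appear along an unramified flat map with the same residue
field. -/
theorem eq_zero_of_killed_aux (hres : ∀ b : B, ∃ a : A, b - algebraMap A B a ∈ maximalIdeal B)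
    (hN : ∀ n : N, Killed (maximalIdeal A) n → n = 0) {x : B ⊗[A] N}
    (hx : Killed (maximalIdeal A) x) : x = 0 := by
  let i₁ : B →ₐ[A] B ⊗[A] B := Algebra.TensorProduct.includeLeft
  let i₂ : B →ₐ[A] B ⊗[A] B := Algebra.TensorProduct.includeRight
  obtain ⟨e, he, hsp⟩ := (Ideal.isIdempotentElem_iff_of_fg _ (KaehlerDifferential.ideal_fg A B)).mp
    ((Ideal.cotangent_subsingleton_iff _).mp (inferInstanceAs (Subsingleton Ω[B⁄A])))
  let δ := i₁.toLinearMap.rTensor N x - i₂.toLinearMap.rTensor N x
  have hδ : Killed (maximalIdeal A) δ :=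
    hx.map_linear (i₁.toLinearMap.rTensor N - i₂.toLinearMap.rTensor N)
  have hi : ∀ b, (1 - e) * (i₁ b - i₂ b) = 0 := fun b => by
    have hb : i₁ b - i₂ b ∈ KaehlerDifferential.ideal A B := by
      change Algebra.TensorProduct.lmul' A (i₁ b - i₂ b) = 0
      simp [i₁, i₂]
    rw [hsp, Submodule.mem_span_singleton] at hb
    obtain ⟨c, hc⟩ := hb
    rw [← hc, smul_eq_mul, sub_mul, one_mul, mul_left_comm, he.eq, sub_self]
  have he1 : (1 - e) • δ = 0 := by
    simp only [δ]
    clear hδ hx
    induction x using TensorProduct.induction_on with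
    | zero => simp
    | tmul b n =>
      rw [LinearMap.rTensor_tmul, LinearMap.rTensor_tmul, ← TensorProduct.sub_tmul,
        TensorProduct.smul_tmul', smul_eq_mul]
      change ((1 - e) * (i₁ b - i₂ b)) ⊗ₜ[A] n = 0
      rw [hi, TensorProduct.zero_tmul]
    | add x y hx hy => rw [map_add, map_add, add_sub_add_comm, smul_add, hx, hy, add_zero]
  have hδ0 : δ = 0 := by
    by_contra h
    obtain ⟨P, hP, hle⟩ := Ideal.exists_le_maximal (Ann (A := B ⊗[A] B) δ) (mt Ann_eq_top.1 h)
    have hm : maximalIdeal A ≤ P.comap (algebraMap A (B ⊗[A] B)) := fun a ha => by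
      obtain ⟨k, hk⟩ := hδ.exists_pow ha
      refine hP.isPrime.mem_of_pow_mem k (hle ?_)
      rw [mem_Ann, ← map_pow, algebraMap_smul, hk]
    have hQ : ∀ i : B →ₐ[A] B ⊗[A] B, maximalIdeal B ≤ P.comap i.toRingHom := fun i => by
      rw [← Algebra.FormallyUnramified.map_maximalIdeal (R := A) (S := B), Ideal.map_le_iff_le_comap,
        Ideal.comap_comap]
      intro a ha
      rw [Ideal.mem_comap]
      simpa using hm ha
    have hI : KaehlerDifferential.ideal A B ≤ P := by
      rw [← KaehlerDifferential.span_range_eq_ideal, Ideal.span_le]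
      rintro _ ⟨b, rfl⟩
      obtain ⟨a, ha⟩ := hres b
      have h1 : i₁ (b - algebraMap A B a) ∈ P := hQ i₁ ha
      have h2 : i₂ (b - algebraMap A B a) ∈ P := hQ i₂ ha
      have := P.sub_mem h2 h1
      rw [map_sub, map_sub, AlgHom.commutes, AlgHom.commutes, sub_sub_sub_cancel_right] at this
      exact this
    have h1e : 1 - e ∈ P := hle he1
    have hemem : e ∈ P := hI (by rw [hsp]; exact Submodule.subset_span rfl)
    exact hP.ne_top ((Ideal.eq_top_iff_one _).2 (by simpa using P.add_mem h1e hemem))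
  haveI : Module.FaithfullyFlat A B := Module.FaithfullyFlat.of_flat_of_isLocalHom
  obtain ⟨n, hn⟩ := Alg.amitsur i₁ i₂ (by
    have : Algebra.TensorProduct.productMap i₁ i₂ = AlgHom.id A (B ⊗[A] B) := by
      ext b <;> simp [i₁, i₂]
    rw [this]
    exact Function.bijective_id) x (sub_eq_zero.1 hδ0)
  subst hn
  have hinj : Function.Injective (TensorProduct.mk A B N 1) := by
    rw [injective_iff_map_eq_zero]
    exact fun m hm => (Module.FaithfullyFlat.one_tmul_eq_zero_iff A _ (A := B) m).1 hm
  rw [hN n (hx.of_injective (TensorProduct.mk A B N 1) hinj), TensorProduct.tmul_zero]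

end Trivial

section General

open Polynomial

variable {A B : Type u} [CommRing A] [CommRing B] [Algebra A B] [IsLocalRing A] [IsLocalRing B]
  [IsLocalHom (algebraMap A B)] [Module.Flat A B] [Algebra.FormallyUnramified A B] [Algebra.EssFiniteType A B]
  {N : Type w} [AddCommGroup N] [Module A N]

/-- Torsion at the closed point does not appear in a free extension. -/
theorem eq_zero_of_killed_free {A₁ : Type u} [CommRing A₁] [Algebra A A₁] [Module.Free A A₁]
    (hN : ∀ n : N, Killed (maximalIdeal A) n → n = 0) {x : A₁ ⊗[A] N}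
    (hx : Killed (maximalIdeal A) x) : x = 0 := by
  let e := TensorProduct.equivFinsuppOfBasisLeft (N := N) (Module.Free.chooseBasis A A₁)
  refine e.injective ?_
  rw [map_zero]
  ext i
  exact hN _ (hx.map_linear ((Finsupp.lapply i).comp e.toLinearMap))

omit [IsLocalRing B] [IsLocalHom (algebraMap A B)] [Module.Flat A B] [Algebra.FormallyUnramified A B]
  [Algebra.EssFiniteType A B] in
/-- Reduction to an extension with the same residue field. -/
theorem eq_zero_of_killed_cover (A₁ B₁ : Type u) [CommRing A₁] [CommRing B₁] [Algebra A A₁] [Algebra A B₁]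
    [Algebra A₁ B₁] [IsScalarTower A A₁ B₁] [Algebra B B₁] [IsScalarTower A B B₁]
    [Module.Free A A₁] [IsLocalRing A₁] [IsLocalRing B₁] [IsLocalHom (algebraMap A₁ B₁)] [Module.Flat A₁ B₁]
    [Algebra.FormallyUnramified A₁ B₁] [Algebra.EssFiniteType A₁ B₁] [Module.FaithfullyFlat B B₁]
    (hm₁ : maximalIdeal A₁ = (maximalIdeal A).map (algebraMap A A₁))
    (hres : ∀ b : B₁, ∃ a : A₁, b - algebraMap A₁ B₁ a ∈ maximalIdeal B₁)
    (hN : ∀ n : N, Killed (maximalIdeal A) n → n = 0) {x : B ⊗[A] N}
    (hx : Killed (maximalIdeal A) x) : x = 0 := by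
  let c := TensorProduct.AlgebraTensorModule.cancelBaseChange A A₁ A₁ B₁ N
  let y : B₁ ⊗[A] N := (IsScalarTower.toAlgHom A B B₁).toLinearMap.rTensor N x
  have hy : Killed (maximalIdeal A₁) (c.symm y) := by
    rw [hm₁, killed_map_iff]
    exact (hx.map_linear ((IsScalarTower.toAlgHom A B B₁).toLinearMap.rTensor N)).map_linear
      (c.symm.toLinearMap.restrictScalars A)
  have h0 : c.symm y = 0 := eq_zero_of_killed_aux hres (fun n hn => eq_zero_of_killed_free hN
    (killed_map_iff.1 (hm₁ ▸ hn))) hy
  refine (Module.FaithfullyFlat.one_tmul_eq_zero_iff B (B ⊗[A] N) (A := B₁) x).1 ?_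
  refine (TensorProduct.AlgebraTensorModule.cancelBaseChange A B B B₁ N).injective ?_
  rw [map_zero, ← c.symm.map_eq_zero_iff.1 h0]
  exact Alg.cancel_one_tmul (Bk := fun _ : Unit => B₁) () x

/-- Torsion at the closed point does not appear along an unramified flat local map. -/
theorem eq_zero_of_killed (hN : ∀ n : N, Killed (maximalIdeal A) n → n = 0) {x : B ⊗[A] N}
    (hx : Killed (maximalIdeal A) x) : x = 0 := by
  obtain ⟨θ, hθ⟩ := Field.exists_primitive_element (ResidueField A) (ResidueField B)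
  have hθi : IsIntegral (ResidueField A) θ := IsIntegral.of_finite _ θ
  obtain ⟨f, hf, -, hfm⟩ := Polynomial.lifts_and_degree_eq_and_monic
    (f := residue A) (p := minpoly (ResidueField A) θ)
    (by
      rw [Polynomial.mem_lifts]
      exact Polynomial.map_surjective _ residue_surjective _)
    (minpoly.monic hθi)
  let A₁ := AdjoinRoot f
  haveI : Module.Free A A₁ := Module.Free.of_basis (AdjoinRoot.powerBasis' hfm).basis
  haveI : Module.Finite A A₁ := Module.Finite.of_basis (AdjoinRoot.powerBasis' hfm).basis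
  have hroot : f.aeval θ = 0 := by
    rw [← Polynomial.aeval_map_algebraMap (ResidueField A), ResidueField.algebraMap_eq, hf, minpoly.aeval]
  let φ₀ : A₁ →ₐ[A] ResidueField B := AdjoinRoot.liftAlgHom f (Algebra.ofId A _) θ (by
    simpa [Polynomial.aeval_def] using hroot)
  have hφ₀ : ∀ p : A[X], φ₀ (AdjoinRoot.mk f p) = p.aeval θ := fun p => rfl
  have hsurj : Function.Surjective φ₀ := fun c => by
    have hc : c ∈ Algebra.adjoin (ResidueField A) {θ} := by
      rw [← IntermediateField.adjoin_simple_toSubalgebra_of_isAlgebraic hθi.isAlgebraic, hθ,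
        IntermediateField.top_toSubalgebra]
      trivial
    rw [Algebra.adjoin_singleton_eq_range_aeval] at hc
    obtain ⟨q, rfl⟩ := hc
    obtain ⟨p, rfl⟩ := Polynomial.map_surjective _ residue_surjective q
    exact ⟨AdjoinRoot.mk f p, by
      rw [hφ₀, ← Polynomial.aeval_map_algebraMap (ResidueField A) θ p, ResidueField.algebraMap_eq]
      rfl⟩
  have hmax : (RingHom.ker φ₀).IsMaximal := RingHom.ker_isMaximal_of_surjective φ₀ hsurj
  have hker : RingHom.ker φ₀ ≤ (maximalIdeal A).map (algebraMap A A₁) := fun z hz => by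
    obtain ⟨p, rfl⟩ := AdjoinRoot.mk_surjective z
    rw [RingHom.mem_ker, hφ₀, ← Polynomial.aeval_map_algebraMap (ResidueField A) θ p,
      ResidueField.algebraMap_eq] at hz
    obtain ⟨q, hq⟩ := minpoly.dvd _ _ hz
    obtain ⟨q', rfl⟩ := Polynomial.map_surjective _ residue_surjective q
    rw [← hf, ← Polynomial.map_mul] at hq
    have hr : p - f * q' ∈ (maximalIdeal A).map (Polynomial.C : A →+* A[X]) := by
      rw [Ideal.mem_map_C_iff]
      intro n
      rw [← IsLocalRing.residue_eq_zero_iff, ← Polynomial.coeff_map, Polynomial.map_sub, hq, sub_self,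
        Polynomial.coeff_zero]
    have := Ideal.mem_map_of_mem (AdjoinRoot.mk f) hr
    rw [Ideal.map_map, map_sub, map_mul, AdjoinRoot.mk_self, zero_mul, sub_zero] at this
    exact this
  have huniq : ∀ M : Ideal A₁, M.IsMaximal → M = RingHom.ker φ₀ := fun M hM => by
    refine (hmax.eq_of_le hM.ne_top (hker.trans (Ideal.map_le_iff_le_comap.2 ?_))).symm
    rw [IsLocalRing.eq_maximalIdeal (Ideal.isMaximal_comap_of_isIntegral_of_isMaximal (R := A) M)]
  haveI : IsLocalRing A₁ := IsLocalRing.of_unique_max_ideal ⟨_, hmax, huniq⟩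
  have hm₁ : maximalIdeal A₁ = RingHom.ker φ₀ := huniq _ inferInstance
  have hm₁' : maximalIdeal A₁ = (maximalIdeal A).map (algebraMap A A₁) := by
    refine le_antisymm (hm₁.trans_le hker) (Ideal.map_le_iff_le_comap.2 ?_)
    rw [IsLocalRing.eq_maximalIdeal
      (Ideal.isMaximal_comap_of_isIntegral_of_isMaximal (R := A) (maximalIdeal A₁))]
  let C := A₁ ⊗[A] B
  let φ : C →ₐ[A] ResidueField B :=
    Algebra.TensorProduct.productMap φ₀ (IsScalarTower.toAlgHom A B (ResidueField B))
  have hφl : ∀ a, φ (a ⊗ₜ 1) = φ₀ a := fun a => Algebra.TensorProduct.productMap_left_apply _ _ a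
  have hφsurj : Function.Surjective φ := fun c => (hsurj c).elim fun a ha => ⟨a ⊗ₜ 1, (hφl a).trans ha⟩
  let P := RingHom.ker φ
  haveI hP : P.IsMaximal := RingHom.ker_isMaximal_of_surjective φ hφsurj
  let B₁ := Localization.AtPrime P
  haveI : Module.Flat C B₁ := IsLocalization.flat B₁ P.primeCompl
  haveI : Module.Flat A₁ B₁ := Module.Flat.trans A₁ C B₁
  haveI : Algebra.FormallyUnramified C B₁ := Algebra.FormallyUnramified.of_isLocalization P.primeCompl
  haveI : Algebra.FormallyUnramified A₁ B₁ := Algebra.FormallyUnramified.comp A₁ C B₁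
  haveI : IsLocalHom (algebraMap A₁ B₁) := by
    refine ⟨fun a ha => ?_⟩
    by_contra h
    have ha' : φ₀ a = 0 := RingHom.mem_ker.1 (hm₁ ▸ (mem_maximalIdeal a).2 h : a ∈ RingHom.ker φ₀)
    rw [IsScalarTower.algebraMap_apply A₁ C B₁, IsLocalization.AtPrime.isUnit_to_map_iff B₁ P] at ha
    exact ha ((RingHom.mem_ker (f := φ)).2 ((hφl a).trans ha'))
  have hres : ∀ b : B₁, ∃ a : A₁, b - algebraMap A₁ B₁ a ∈ maximalIdeal B₁ := fun b => by
    obtain ⟨⟨c, t⟩, hbt⟩ := IsLocalization.surj P.primeCompl b
    obtain ⟨a, ha⟩ := hsurj (φ c / φ t.1)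
    refine ⟨a, (Ideal.mul_unit_mem_iff_mem _ (IsLocalization.map_units B₁ t)).1 ?_⟩
    rw [sub_mul, hbt, IsScalarTower.algebraMap_apply A₁ C B₁, ← map_mul, ← map_sub,
      IsLocalization.AtPrime.to_map_mem_maximal_iff B₁ P]
    have ht : φ t.1 ≠ 0 := fun h => t.2 ((RingHom.mem_ker (f := φ)).2 h)
    change φ (c - a ⊗ₜ 1 * t.1) = 0
    rw [map_sub, map_mul, hφl, ha, div_mul_cancel₀ _ ht, sub_self]
  letI : Algebra B C := Algebra.TensorProduct.rightAlgebra
  haveI : IsScalarTower A B C := .of_algebraMap_eq fun a =>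
    ((Algebra.TensorProduct.includeRight : B →ₐ[A] C).commutes a).symm
  haveI : Module.Flat B C := Module.Flat.isBaseChange A B A₁ C
    (Algebra.IsPushout.out : IsBaseChange B (IsScalarTower.toAlgHom A A₁ C).toLinearMap)
  haveI : IsScalarTower A B B₁ := .of_algebraMap_eq fun a => by
    rw [IsScalarTower.algebraMap_apply A C B₁, IsScalarTower.algebraMap_apply B C B₁,
      IsScalarTower.algebraMap_apply A B C]
  haveI : Module.Flat B B₁ := Module.Flat.trans B C B₁
  haveI : IsLocalHom (algebraMap B B₁) := by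
    refine ⟨fun b hb => ?_⟩
    rw [IsScalarTower.algebraMap_apply B C B₁] at hb
    change IsUnit (algebraMap C B₁ ((1 : A₁) ⊗ₜ b)) at hb
    rw [IsLocalization.AtPrime.isUnit_to_map_iff B₁ P] at hb
    have hb' : φ ((1 : A₁) ⊗ₜ b) = residue B b := Algebra.TensorProduct.productMap_right_apply _ _ b
    by_contra h
    exact hb ((RingHom.mem_ker (f := φ)).2 (hb'.trans ((residue_eq_zero_iff b).2 ((mem_maximalIdeal b).2 h))))
  haveI : Module.FaithfullyFlat B B₁ := Module.FaithfullyFlat.of_flat_of_isLocalHom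
  exact eq_zero_of_killed_cover A₁ B₁ hm₁' hres hN hx

end General

section Global

variable {A B : Type u} [CommRing A] [CommRing B] [Algebra A B] [Module.Flat A B]
  [Algebra.FormallyUnramified A B] [Algebra.EssFiniteType A B]
  {N : Type w} [AddCommGroup N] [Module A N] {M : Type w} [AddCommGroup M] [Module A M] [Module B M]
  [IsScalarTower A B M]

theorem isLocalizedModule_mk (p : Ideal A) [p.IsPrime] :
    IsLocalizedModule p.primeCompl (TensorProduct.mk A (Localization.AtPrime p) N 1) :=
  (isLocalizedModule_iff_isBaseChange p.primeCompl (Localization.AtPrime p) _).2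
    (TensorProduct.isBaseChange A N (Localization.AtPrime p))

/-- Weakly associated primes correspond along etale base change. -/
theorem isWA_iff_of_isBaseChange {f : N →ₗ[A] M} (hf : IsBaseChange B f) (q : Ideal B) [q.IsPrime] :
    IsWA M q ↔ IsWA N (q.comap (algebraMap A B)) := by
  let p := q.comap (algebraMap A B)
  haveI hp : p.IsPrime := inferInstanceAs (q.comap _).IsPrime
  let Ap := Localization.AtPrime p
  let Bq := Localization.AtPrime q
  letI : Algebra Ap Bq := (Localization.localRingHom p q (algebraMap A B) rfl).toAlgebra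
  haveI : IsScalarTower A Ap Bq := .of_algebraMap_eq fun a => by
    rw [RingHom.algebraMap_toAlgebra, Localization.localRingHom_to_map, ← IsScalarTower.algebraMap_apply]
  haveI : IsLocalHom (algebraMap Ap Bq) := Localization.isLocalHom_localRingHom p q (algebraMap A B) rfl
  haveI : Module.Flat B Bq := IsLocalization.flat Bq q.primeCompl
  haveI : Module.Flat A Bq := Module.Flat.trans A B Bq
  haveI : Module.Flat Ap Bq := (Module.flat_iff_of_isLocalization Ap p.primeCompl Bq).2 inferInstance
  haveI : Algebra.FormallyUnramified B Bq := Algebra.FormallyUnramified.of_isLocalization q.primeCompl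
  haveI : Algebra.FormallyUnramified A Bq := Algebra.FormallyUnramified.comp A B Bq
  haveI : Algebra.FormallyUnramified Ap Bq := Algebra.FormallyUnramified.of_restrictScalars A Ap Bq
  haveI : Algebra.EssFiniteType Ap Bq := Algebra.EssFiniteType.of_comp A Ap Bq
  haveI : Module.FaithfullyFlat Ap Bq := Module.FaithfullyFlat.of_flat_of_isLocalHom
  haveI := isLocalizedModule_mk (N := N) p
  let g : M →ₗ[B] Bq ⊗[A] N := hf.lift (TensorProduct.mk A Bq N 1)
  have hg : (g.restrictScalars A).comp f = TensorProduct.mk A Bq N 1 := hf.lift_comp _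
  have hbc : IsBaseChange Bq g := IsBaseChange.of_comp hf (by
    rw [hg]
    exact TensorProduct.isBaseChange A N Bq)
  haveI : IsLocalizedModule q.primeCompl g := (isLocalizedModule_iff_isBaseChange q.primeCompl Bq g).2 hbc
  rw [isWA_iff q g, isWA_iff p (TensorProduct.mk A Ap N 1)]
  let c := TensorProduct.AlgebraTensorModule.cancelBaseChange A Ap Ap Bq N
  constructor
  · rintro ⟨y, hy, hk⟩
    by_contra hcon
    push Not at hcon
    have hy' : Killed p y := killed_of_pow fun a ha =>
      (hk.exists_pow (show algebraMap A B a ∈ q from ha)).imp fun k h => by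
        rwa [← map_pow, algebraMap_smul] at h
    have h1 : Killed (maximalIdeal Ap) (c.symm y) := by
      rw [← Localization.AtPrime.map_eq_maximalIdeal, killed_map_iff]
      exact hy'.map_linear (c.symm.toLinearMap.restrictScalars A)
    refine hy (c.symm.map_eq_zero_iff.1 (eq_zero_of_killed (fun n hn => ?_) h1))
    by_contra hn0
    rw [← Localization.AtPrime.map_eq_maximalIdeal, killed_map_iff] at hn
    exact hcon n hn0 hn
  · rintro ⟨x, hx, hk⟩
    refine ⟨c ((1 : Bq) ⊗ₜ x), fun h => hx ?_, ?_⟩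
    · exact (Module.FaithfullyFlat.one_tmul_eq_zero_iff Ap _ (A := Bq) x).1 (c.map_eq_zero_iff.1 h)
    have h1 : Killed (maximalIdeal Ap) ((1 : Bq) ⊗ₜ[Ap] x) := by
      refine Killed.map_linear ?_ (TensorProduct.mk Ap Bq (Ap ⊗[A] N) 1)
      rw [← Localization.AtPrime.map_eq_maximalIdeal, killed_map_iff]
      exact hk
    have h2 : Killed (maximalIdeal Bq) (c ((1 : Bq) ⊗ₜ x)) := by
      rw [← Algebra.FormallyUnramified.map_maximalIdeal (R := Ap) (S := Bq), killed_map_iff]
      exact h1.map_linear c.toLinearMap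
    rw [← Localization.AtPrime.map_eq_maximalIdeal, killed_map_iff] at h2
    exact h2

end Global

section Flat

variable {A B : Type u} [CommRing A] [CommRing B] [Algebra A B] [Module.Flat A B]
  {N : Type w} [AddCommGroup N] [Module A N] {M : Type w} [AddCommGroup M] [Module A M] [Module B M]
  [IsScalarTower A B M]

/-- An element killed by flat base change is killed outside the image of the spectrum. -/
theorem exists_notMem_smul_eq_zero {f : N →ₗ[A] M} (hf : IsBaseChange B f) (q : Ideal B) [q.IsPrime]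
    {n : N} (h : f n = 0) : ∃ t ∉ q.comap (algebraMap A B), t • n = 0 := by
  let p := q.comap (algebraMap A B)
  haveI hp : p.IsPrime := inferInstanceAs (q.comap _).IsPrime
  let Ap := Localization.AtPrime p
  let Bq := Localization.AtPrime q
  letI : Algebra Ap Bq := (Localization.localRingHom p q (algebraMap A B) rfl).toAlgebra
  haveI : IsScalarTower A Ap Bq := .of_algebraMap_eq fun a => by
    rw [RingHom.algebraMap_toAlgebra, Localization.localRingHom_to_map, ← IsScalarTower.algebraMap_apply]
  haveI : IsLocalHom (algebraMap Ap Bq) := Localization.isLocalHom_localRingHom p q (algebraMap A B) rfl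
  haveI : Module.Flat B Bq := IsLocalization.flat Bq q.primeCompl
  haveI : Module.Flat A Bq := Module.Flat.trans A B Bq
  haveI : Module.Flat Ap Bq := (Module.flat_iff_of_isLocalization Ap p.primeCompl Bq).2 inferInstance
  haveI : Module.FaithfullyFlat Ap Bq := Module.FaithfullyFlat.of_flat_of_isLocalHom
  haveI := isLocalizedModule_mk (N := N) p
  let g : M →ₗ[B] Bq ⊗[A] N := hf.lift (TensorProduct.mk A Bq N 1)
  have h0 : (1 : Bq) ⊗ₜ[A] n = 0 := by
    have hg : g (f n) = (1 : Bq) ⊗ₜ[A] n :=
      LinearMap.congr_fun (hf.lift_comp (TensorProduct.mk A Bq N 1)) n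
    rw [← hg, h, map_zero]
  let c := TensorProduct.AlgebraTensorModule.cancelBaseChange A Ap Ap Bq N
  have h1 : (1 : Bq) ⊗ₜ[Ap] ((1 : Ap) ⊗ₜ[A] n) = 0 := c.map_eq_zero_iff.1 (by
    rw [TensorProduct.AlgebraTensorModule.cancelBaseChange_tmul, one_smul]
    exact h0)
  obtain ⟨⟨t, ht⟩, htn⟩ := (IsLocalizedModule.eq_zero_iff p.primeCompl (TensorProduct.mk A Ap N 1)).1
    ((Module.FaithfullyFlat.one_tmul_eq_zero_iff Ap _ (A := Bq) _).1 h1)
  exact ⟨t, ht, htn⟩

end Flat

section Exact

variable {A : Type*} [CommRing A] {M₁ M₂ M₃ : Type*} [AddCommGroup M₁] [AddCommGroup M₂] [AddCommGroup M₃]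
  [Module A M₁] [Module A M₂] [Module A M₃]

/-- Weakly associated primes of a submodule. -/
theorem IsWA.of_injective {f : M₁ →ₗ[A] M₂} (hf : Function.Injective f) {p : Ideal A} (h : IsWA M₁ p) :
    IsWA M₂ p := by
  obtain ⟨x, hx⟩ := h
  refine ⟨f x, ?_⟩
  have : Ann (A := A) (f x) = Ann (A := A) x :=
    Ideal.ext fun a => by rw [mem_Ann, mem_Ann, ← map_smul, map_eq_zero_iff f hf]
  rwa [this]

/-- Weakly associated primes of the middle term of a left exact sequence. -/
theorem IsWA.of_exact {f : M₁ →ₗ[A] M₂} {g : M₂ →ₗ[A] M₃} (hf : Function.Injective f)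
    (hfg : Function.Exact f g) {p : Ideal A} (h : IsWA M₂ p) : IsWA M₁ p ∨ IsWA M₃ p := by
  obtain ⟨n, hn⟩ := h
  have hle : Ann (A := A) n ≤ Ann (A := A) (g n) := fun a ha => by
    rw [mem_Ann, ← map_smul, mem_Ann.1 ha, map_zero]
  haveI := hn.1.1
  by_cases hp : Ann (A := A) (g n) ≤ p
  · exact Or.inr ⟨g n, ⟨hn.1.1, hp⟩, fun q hq hqp => hn.2 ⟨hq.1, hle.trans hq.2⟩ hqp⟩
  · obtain ⟨t, ht, htp⟩ := SetLike.not_le_iff_exists.1 hp
    rw [mem_Ann, ← map_smul] at ht
    obtain ⟨m, hm⟩ := (hfg _).1 ht
    refine Or.inl ⟨m, ⟨hn.1.1, fun a ha => ?_⟩, fun q hq hqp => hn.2 ⟨hq.1, fun a ha => hq.2 ?_⟩ hqp⟩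
    · have : (a * t) • n = 0 := by rw [mul_smul, ← hm, ← map_smul, mem_Ann.1 ha, map_zero]
      exact (hn.1.1.mem_or_mem (hn.1.2 this)).resolve_right htp
    · refine hf ?_
      rw [map_zero, LinearMap.toSpanSingleton_apply, map_smul, hm, smul_comm, mem_Ann.1 ha, smul_zero]

/-- A nonzero element has a weakly associated prime containing its annihilator. -/
theorem exists_isWA {n : M₁} (h : n ≠ 0) : ∃ p : Ideal A, Ann n ≤ p ∧ IsWA M₁ p := by
  obtain ⟨m, hm, hle⟩ := Ideal.exists_le_maximal (Ann (A := A) n) (mt Ann_eq_top.1 h)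
  haveI := hm.isPrime
  obtain ⟨p, hp, -⟩ := Ideal.exists_minimalPrimes_le hle
  exact ⟨p, hp.1.2, n, hp⟩

end Exact

end Groth.Agent.Lib.EtMod.WeakAssAlg
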