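import Groth.Agent.Lib.EtMod.Exact
import Groth.Agent.Lib.EtMod.WeakAssAlg
import Groth.Agent.Lib.AlgSpDecent.Core

/-!
# Weakly associated points of quasi-coherent modules on algebraic spaces
-/

universe u

set_option backward.isDefEq.respectTransparency false
set_option linter.style.haveILetI false

open CategoryTheory CategoryTheory.Limits AlgebraicGeometry Opposite AlgSp
open Groth.Agent.Lib.EtMod.WeakAssAlg

namespace Groth.Agent.Lib.EtMod

variable {S : Scheme.{u}} {X : Sp S} {M : ModEt X}

theorem isWeakAssOn_iff (E : EtOver X) [IsAffine E.obj.left.left] (u : E.obj.left.left) :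
    IsWeakAssOn M E u ↔ IsWA (A := fn E) (sectModEt M E) (primeAtPt E.obj.left.left u) :=
  Iff.rfl

theorem primeAtPt_comap {U V : Scheme.{u}} (h : V ⟶ U) (v : V) :
    (primeAtPt V v).comap h.appTop.hom = primeAtPt U (h v) := by
  ext a
  simp only [primeAtPt, Ideal.mem_comap, IsLocalRing.mem_maximalIdeal, mem_nonunits_iff]
  refine not_congr ?_
  have e := Scheme.Hom.germ_stalkMap_apply h ⊤ v trivial a
  constructor
  · intro hu
    refine IsUnit.of_map (h.stalkMap v).hom _ ?_
    change IsUnit (h.stalkMap v (U.presheaf.germ ⊤ (h v) trivial a))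
    rw [e]
    exact hu
  · intro hu
    have h2 := hu.map (h.stalkMap v).hom
    change IsUnit (h.stalkMap v (U.presheaf.germ ⊤ (h v) trivial a)) at h2
    rwa [e] at h2

theorem primeAtPt_eq {U : Scheme.{u}} [IsAffine U] (v : U) :
    primeAtPt U v = ((isAffineOpen_top U).primeIdealOf ⟨v, trivial⟩).asIdeal := by
  rw [IsAffineOpen.primeIdealOf_eq_map_closedPoint]
  rfl

theorem exists_primeAtPt_eq {U : Scheme.{u}} [IsAffine U] (p : Ideal Γ(U, ⊤)) [p.IsPrime] :
    ∃ v : U, primeAtPt U v = p := by
  refine ⟨(isAffineOpen_top U).fromSpec ⟨p, inferInstance⟩, ?_⟩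
  rw [primeAtPt_eq]
  refine congrArg PrimeSpectrum.asIdeal ((isAffineOpen_top U).fromSpec.isOpenEmbedding.injective
    (a₂ := (⟨p, inferInstance⟩ : PrimeSpectrum Γ(U, ⊤))) ?_)
  exact (isAffineOpen_top U).fromSpec_primeIdealOf _

/-- Functions along a morphism of affine objects form an etale algebra. -/
theorem etale_fnMap {E V : EtOver X} (g : V ⟶ E) [IsAffine E.obj.left.left] [IsAffine V.obj.left.left] :
    (fnMap g).Etale := by
  have : Etale g.hom.left.left := EtOver.etale_left g
  exact HasRingHomProperty.iff_of_isAffine.mp this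

theorem etale_fn {E V : EtOver X} (g : V ⟶ E) [IsAffine E.obj.left.left] [IsAffine V.obj.left.left] :
    Algebra.Etale (fn E) (Fn g) :=
  etale_fnMap g

/-- Weak associatedness is invariant along morphisms between affine charts. -/
theorem isWeakAssOn_comp_iff (hM : IsCart M) {E V : EtOver X} [IsAffine E.obj.left.left]
    [IsAffine V.obj.left.left] (g : V ⟶ E) (v : V.obj.left.left) :
    IsWeakAssOn M V v ↔ IsWeakAssOn M E (g.hom.left.left v) := by
  haveI := etale_fn g
  haveI : (primeAtPt V.obj.left.left v : Ideal (Fn g)).IsPrime := isPrime_primeAtPt _ v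
  have h := isWA_iff_of_isBaseChange (A := fn E) (B := Fn g) (f := mResL M g) (hM g)
    (primeAtPt V.obj.left.left v)
  have e : (primeAtPt V.obj.left.left v : Ideal (Fn g)).comap (algebraMap (fn E) (Fn g)) =
      primeAtPt E.obj.left.left (g.hom.left.left v) := primeAtPt_comap g.hom.left.left v
  rw [e] at h
  exact h

theorem ofPt_comp_left {E V : EtOver X} (g : V ⟶ E) (v : V.obj.left.left) :
    Points.ofPt E.obj.hom (g.hom.left.left v) = Points.ofPt V.obj.hom v := by
  rw [← Groth.Agent.Lib.AlgSpDecent.Core.ofPt_map_comp, EtOver.w g]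

/-- Two charts through a point have a common affine refinement. -/
theorem exists_common_chart {E E' : EtOver X} {u : E.obj.left.left} {u' : E'.obj.left.left}
    (h : Points.ofPt E.obj.hom u = Points.ofPt E'.obj.hom u') :
    ∃ (W : EtOver X) (_ : IsAffine W.obj.left.left) (a : W ⟶ E) (b : W ⟶ E') (w : W.obj.left.left),
      a.hom.left.left w = u ∧ b.hom.left.left w = u' := by
  obtain ⟨z, hz', hz⟩ := Groth.Agent.Lib.AlgSpDecent.Core.exists_point_of_scheme_isPullback
    (E'.property.1.isPullback E.obj.hom |> fun sq => by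
      rw [← Functor.relativelyRepresentable.map_fst'] at sq; exact sq) u' u h.symm
  obtain ⟨W, j, hW, w, hw⟩ := exists_affine_open_obj (V := EtOver.prodObj E E') z
  refine ⟨W, hW, j ≫ EtOver.prodFst E E', j ≫ EtOver.prodSnd E E', w, ?_, ?_⟩
  · change (E'.property.1.snd E.obj.hom).left (j.hom.left.left w) = u
    rw [hw]
    exact hz
  · change (E'.property.1.fst' E.obj.hom).left (j.hom.left.left w) = u'
    rw [hw]
    exact hz'

/-- Weak associatedness at a point is independent of the chart. -/
theorem isWeakAssOn_of_eq (hM : IsCart M) {E E' : EtOver X} [IsAffine E.obj.left.left]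
    [IsAffine E'.obj.left.left] {u : E.obj.left.left} {u' : E'.obj.left.left}
    (h : Points.ofPt E.obj.hom u = Points.ofPt E'.obj.hom u') :
    IsWeakAssOn M E u ↔ IsWeakAssOn M E' u' := by
  obtain ⟨W, hW, a, b, w, ha, hb⟩ := exists_common_chart h
  rw [← ha, ← hb, ← isWeakAssOn_comp_iff hM a w, ← isWeakAssOn_comp_iff hM b w]

theorem mem_weakAssEt_iff (hM : IsCart M) (E : EtOver X) [IsAffine E.obj.left.left] (u : E.obj.left.left) :
    Points.ofPt E.obj.hom u ∈ WeakAssEt M ↔ IsWeakAssOn M E u :=
  ⟨fun ⟨_, _, _, h, hw⟩ => (isWeakAssOn_of_eq hM h).1 hw, fun h => ⟨E, inferInstance, u, rfl, h⟩⟩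

/-- Every nonzero section over an affine chart has a weakly associated point in its support. -/
theorem exists_weakAss_of_ne_zero {E : EtOver X} [IsAffine E.obj.left.left] {s : sectModEt M E}
    (h : s ≠ 0) :
    ∃ v : E.obj.left.left, annSect s ≤ primeAtPt E.obj.left.left v ∧ IsWeakAssOn M E v := by
  obtain ⟨p, hle, hp⟩ := exists_isWA (A := fn E) h
  haveI : p.IsPrime := hp.choose_spec.1.1
  obtain ⟨v, rfl⟩ := exists_primeAtPt_eq p
  exact ⟨v, hle, hp⟩

/-- A section vanishing near a point is killed by a function invertible there. -/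
theorem annSect_not_le (hM : IsCart M) {E V : EtOver X} [IsAffine E.obj.left.left]
    [IsAffine V.obj.left.left] (g : V ⟶ E) (v : V.obj.left.left) {s : sectModEt M E}
    (h : res M g s = 0) : ¬ annSect s ≤ primeAtPt E.obj.left.left (g.hom.left.left v) := by
  haveI := flat_fn g
  haveI : (primeAtPt V.obj.left.left v : Ideal (Fn g)).IsPrime := isPrime_primeAtPt _ v
  obtain ⟨t, ht, hts⟩ := exists_notMem_smul_eq_zero (A := fn E) (B := Fn g) (f := mResL M g) (hM g)
    (primeAtPt V.obj.left.left v) (n := s) h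
  intro hle
  exact ht ((primeAtPt_comap g.hom.left.left v).symm ▸ hle hts)

theorem exists_affine_cover_obj (V : EtOver X) :
    ∃ (ι : Type u) (W : ι → EtOver X) (j : ∀ i, W i ⟶ V), (∀ i, IsAffine (W i).obj.left.left) ∧
      ∀ x : V.obj.left.left, ∃ i, x ∈ Set.range (j i).hom.left.left := by
  choose W j hW hj using fun v : V.obj.left.left => exists_affine_open_obj v
  exact ⟨_, W, j, hW, fun v => ⟨v, hj v⟩⟩

/-- Sections vanishing on affine objects vanish. -/
theorem eq_zero_of_affine (h : ∀ (E : EtOver X) [IsAffine E.obj.left.left] (s : sectModEt M E), s = 0)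
    (V : EtOver X) (s : sectModEt M V) : s = 0 := by
  obtain ⟨ι, W, j, hW, hj⟩ := exists_affine_cover_obj V
  exact eq_of_cover W j hj fun i => by
    have := hW i
    rw [map_zero]
    exact h (W i) _

/-- A quasi-coherent module without weakly associated points is zero. -/
theorem isZero_iff_weakAssEt_eq_empty : IsZero M ↔ WeakAssEt M = ∅ := by
  constructor
  · intro h
    refine Set.eq_empty_iff_forall_notMem.2 fun x ⟨E, hE, u, _, s, hs⟩ => ?_
    have h0 : s = 0 := congrArg (fun φ : M ⟶ M => φ.val.app (op E) s) ((IsZero.iff_id_eq_zero M).1 h)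
    subst h0
    refine (isPrime_primeAtPt E.obj.left.left u).ne_top (top_le_iff.1 (le_trans ?_ hs.1.2))
    exact fun a _ => smul_zero (upΓ E a)
  · intro h
    have h0 : ∀ (E : EtOver X) [IsAffine E.obj.left.left] (s : sectModEt M E), s = 0 := fun E _ s => by
      by_contra hs
      obtain ⟨v, -, hv⟩ := exists_weakAss_of_ne_zero hs
      exact Set.eq_empty_iff_forall_notMem.1 h _ ⟨E, inferInstance, v, rfl, hv⟩
    rw [IsZero.iff_id_eq_zero]
    exact SheafOfModules.hom_ext (PresheafOfModules.hom_ext fun V => ModuleCat.hom_ext (LinearMap.ext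
      fun s => eq_zero_of_affine h0 V.unop s))

/-- Weakly associated points in a left exact sequence. -/
theorem weakAssEt_leftExact {L N : ModEt X} (f : L ⟶ M) (g : M ⟶ N)
    (hinj : ∀ E, Function.Injective (secMap f E)) (hex : ∀ E, Function.Exact (secMap f E) (secMap g E)) :
    WeakAssEt M ⊆ WeakAssEt L ∪ WeakAssEt N ∧ WeakAssEt L ⊆ WeakAssEt M := by
  refine ⟨fun x ⟨E, hE, u, hu, hw⟩ => ?_, fun x ⟨E, hE, u, hu, hw⟩ => ?_⟩
  · rcases IsWA.of_exact (hinj E) (hex E) hw with h | h
    · exact Or.inl ⟨E, hE, u, hu, h⟩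
    · exact Or.inr ⟨E, hE, u, hu, h⟩
  · exact ⟨E, hE, u, hu, IsWA.of_injective (hinj E) hw⟩

/-- The first map of a short exact sequence on sections. -/
theorem injective_secMap_of_shortExact {C : ShortComplex (ModEt X)} (hC : C.ShortExact) (E : EtOver X) :
    Function.Injective (secMap C.f E) := by
  have : Mono C.f := hC.mono_f
  have : Mono C.f.val := (SheafOfModules.forget.{u + 1} (OEtRing X)).map_mono C.f
  exact PresheafOfModules.injective_of_mono _ (op E)

theorem exact_secMap_of_shortExact {C : ShortComplex (ModEt X)} (hC : C.ShortExact) (E : EtOver X) :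
    Function.Exact (secMap C.f E) (secMap C.g E) := by
  refine fun x => ⟨fun hx => ?_, ?_⟩
  · obtain ⟨y, rfl⟩ := SubSheaf.exists_kernel_lift C.g x hx
    let l := hC.fIsKernel.lift (KernelFork.ofι (kernel.ι C.g) (kernel.condition C.g))
    have hl : l ≫ C.f = kernel.ι C.g := hC.fIsKernel.fac _ WalkingParallelPair.zero
    exact ⟨secMap l E y, congrArg (fun φ : kernel C.g ⟶ C.X₂ => φ.val.app (op E) y) hl⟩
  · rintro ⟨y, rfl⟩
    exact congrArg (fun φ : C.X₁ ⟶ C.X₃ => φ.val.app (op E) y) C.zero

/-- A section vanishing on a chart meeting every weakly associated point vanishes. -/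
theorem eq_of_weakAss_subset (hM : IsCart M) (E : EtOver X)
    (hE : WeakAssEt M ⊆ Set.range (Points.ofPt E.obj.hom)) {s : M.sections}
    (hs : PresheafOfModules.sections.eval s (op E) = 0) : ∀ V : EtOver X, s.1 (op V) = 0 := by
  have key : ∀ (V : EtOver X) [IsAffine V.obj.left.left], (s.1 (op V) : sectModEt M V) = 0 := fun V _ => by
    by_contra hne
    obtain ⟨v, hle, hv⟩ := exists_weakAss_of_ne_zero (M := M) (s := s.1 (op V)) hne
    obtain ⟨e, he⟩ := hE ⟨V, inferInstance, v, rfl, hv⟩
    obtain ⟨W, hW, a, b, w, -, rfl⟩ := exists_common_chart he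
    refine annSect_not_le hM b w ?_ hle
    exact ((s.2 b.op).trans (s.2 a.op).symm).trans ((congrArg (res M a) hs).trans (map_zero _))
  intro V
  obtain ⟨ι, W, j, hW, hj⟩ := exists_affine_cover_obj V
  exact eq_of_cover W j hj fun i => by
    have := hW i
    rw [map_zero]
    exact (s.2 (j i).op).trans (key (W i))

/-- Every point of an algebraic space lies on an affine chart. -/
theorem exists_affine_point (hX : IsAlgSpace X) (x : Points X) :
    ∃ (E : EtOver X) (_ : IsAffine E.obj.left.left) (u : E.obj.left.left), Points.ofPt E.obj.hom u = x := by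
  obtain ⟨U, q, hq, hq'⟩ := hX.atlas
  obtain ⟨u, rfl⟩ := Groth.Agent.Lib.AlgSpDecent.Core.surjective_ofPt hq' x
  obtain ⟨W, j, hW, w, hw⟩ := exists_affine_open_obj (V := EtOver.mk q hq) u
  exact ⟨W, hW, w, (ofPt_comp_left j w).symm.trans (congrArg _ hw)⟩

end Groth.Agent.Lib.EtMod
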