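import Groth.Agent.Lib.EtMod.Ext
import Groth.Agent.Lib.EtMod.WeakAss
import Groth.Agent.Lib.Henselian.NoetherianCriterion

/-!
# Coherent modules on locally Noetherian algebraic spaces
-/

universe u

set_option backward.isDefEq.respectTransparency false
set_option linter.style.haveILetI false

open CategoryTheory CategoryTheory.Limits AlgebraicGeometry Opposite AlgSp
open TensorProduct

namespace Groth.Agent.Lib.EtMod

variable {S : Scheme.{u}} {X : Sp S}

/-- Affine objects of the site of a locally Noetherian space have Noetherian rings of functions. -/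
theorem isNoetherianRing_fn (hX : IsLocNoethSp X) (E : EtOver X) [IsAffine E.obj.left.left] :
    IsNoetherianRing (fn E) := by
  obtain ⟨U, q, hq, hq', hU⟩ := hX
  let E₀ := EtOver.mk q hq
  have h : ∀ x : E.obj.left.left, ∃ (W : EtOver X) (b : W ⟶ E),
      IsAffine W.obj.left.left ∧ IsNoetherianRing (fn W) ∧ x ∈ Set.range b.hom.left.left := fun x => by
    obtain ⟨u, hu⟩ := Groth.Agent.Lib.AlgSpDecent.Core.surjective_ofPt hq' (Points.ofPt E.obj.hom x)
    obtain ⟨W, hW, a, b, w, -, hb⟩ := exists_common_chart (E := E₀) (E' := E) hu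
    have : IsLocallyNoetherian E₀.obj.left.left := hU
    have : Etale a.hom.left.left := EtOver.etale_left a
    have : IsLocallyNoetherian W.obj.left.left := LocallyOfFiniteType.isLocallyNoetherian a.hom.left.left
    exact ⟨W, b, hW, IsLocallyNoetherian.component_noetherian ⟨⊤, isAffineOpen_top _⟩, w, hb⟩
  choose W b hW hN hx using h
  have hR : Sieve.ofArrows W b ∈ etTop X E := ofArrows_mem_etTop W b fun x => ⟨x, hx x⟩
  obtain ⟨C, hC⟩ := exists_affCover hR
  have hk : ∀ k, IsNoetherianRing (fn (C.V k)) := fun k => by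
    obtain ⟨W', a, f, ⟨x⟩, hf⟩ := hC k
    have := hW x
    have := hN x
    letI : Algebra (fn (W x)) (fn (C.V k)) := (fnMap a).toAlgebra
    have : Algebra.Etale (fn (W x)) (fn (C.V k)) := etale_fnMap a
    have : Algebra.FiniteType (fn (W x)) (fn (C.V k)) := inferInstance
    exact Algebra.FiniteType.isNoetherianRing (fn (W x)) (fn (C.V k))
  letI := fun k => (fnMap (C.g k)).toAlgebra
  have := C.isFFFamily.faithfullyFlat
  have : IsNoetherianRing (∀ k, fn (C.V k)) := inferInstance
  exact Groth.Agent.Lib.Henselian.NoetherianCriterion.isNoetherianRing_of_faithfullyFlat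
    (S := ∀ k, fn (C.V k)) (fn E)

variable {M : ModEt X}

/-- Membership in a span of sections is local. -/
theorem mem_span_of_local (hM : IsCart M) {E : EtOver X} [IsAffine E.obj.left.left] (C : AffCover E)
    {G : Set (sectModEt M E)} {m : sectModEt M E}
    (h : ∀ k, res M (C.g k) m ∈ Submodule.span (fn (C.V k)) (res M (C.g k) '' G)) :
    m ∈ Submodule.span (fn E) G := by
  rw [← Submodule.Quotient.mk_eq_zero]
  refine Alg.IsFFFamily.eq_zero (B := fun k => Fn (C.g k)) ⟨fun k => flat_fnMap (C.g k), C.covers⟩
    fun k => ?_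
  let P := Submodule.span (fn E) G
  let Φ := (IsBaseChange.equiv (R := fn E) (S := Fn (C.g k)) (f := mResL M (C.g k)) (hM (C.g k)))
  have hle : Submodule.span (Fn (C.g k)) (mResL M (C.g k) '' G) ≤
      LinearMap.ker ((P.mkQ.baseChange (Fn (C.g k))).comp Φ.symm.toLinearMap) := by
    rw [Submodule.span_le]
    rintro _ ⟨x, hx, rfl⟩
    have e : Φ.symm (mResL M (C.g k) x) = (1 : Fn (C.g k)) ⊗ₜ x :=
      Φ.injective (by rw [LinearEquiv.apply_symm_apply, IsBaseChange.equiv_tmul, one_smul])
    change P.mkQ.baseChange (Fn (C.g k)) (Φ.symm (mResL M (C.g k) x)) = 0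
    rw [e, LinearMap.baseChange_tmul]
    exact (congrArg _ ((Submodule.Quotient.mk_eq_zero P).2 (Submodule.subset_span hx))).trans (tmul_zero _ _)
  have hm : P.mkQ.baseChange (Fn (C.g k)) (Φ.symm (mResL M (C.g k) m)) = 0 := hle (h k)
  have e : Φ.symm (mResL M (C.g k) m) = (1 : Fn (C.g k)) ⊗ₜ m :=
    Φ.injective (by rw [LinearEquiv.apply_symm_apply, IsBaseChange.equiv_tmul, one_smul])
  rw [e, LinearMap.baseChange_tmul] at hm
  exact hm

theorem span_res_eq_top (hM : IsCart M) {E V : EtOver X} [IsAffine E.obj.left.left]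
    [IsAffine V.obj.left.left] (g : V ⟶ E) :
    Submodule.span (fn V) (Set.range (res M g)) = ⊤ := by
  let Φ := (IsBaseChange.equiv (R := fn E) (S := Fn g) (f := mResL M g) (hM g))
  refine eq_top_iff.2 fun x _ => ?_
  have key : ∀ z, Φ z ∈ Submodule.span (Fn g) (Set.range (mResL M g)) := fun z => by
    induction z using TensorProduct.induction_on with
    | zero => simp
    | tmul b n =>
      rw [IsBaseChange.equiv_tmul]
      exact Submodule.smul_mem _ b (Submodule.subset_span ⟨n, rfl⟩)
    | add a b ha hb => rw [map_add]; exact Submodule.add_mem _ ha hb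
  exact (Φ.apply_symm_apply x) ▸ key (Φ.symm x)

theorem res_mem_span_res {E V : EtOver X} (g : V ⟶ E) {G : Set (sectModEt M E)} {m : sectModEt M E}
    (h : m ∈ Submodule.span (fn E) G) : res M g m ∈ Submodule.span (fn V) (res M g '' G) := by
  induction h using Submodule.span_induction with
  | mem x hx => exact Submodule.subset_span ⟨x, hx, rfl⟩
  | zero => simp
  | add x y _ _ hx hy => rw [map_add]; exact Submodule.add_mem _ hx hy
  | smul a x _ hx => rw [res_smul]; exact Submodule.smul_mem _ _ hx

theorem mem_span_upΓ {V : EtOver X} {G : Set (sectModEt M V)} {m : sectModEt M V}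
    (h : m ∈ Submodule.span ((OEtRing X).obj.obj (op V)) G) : m ∈ Submodule.span (fn V) G := by
  induction h using Submodule.span_induction with
  | mem x hx => exact Submodule.subset_span hx
  | zero => simp
  | add x y _ _ hx hy => exact Submodule.add_mem _ hx hy
  | smul a x _ hx => exact (Submodule.smul_mem _ a.down hx : _)

/-- Global sections of a slice generate locally. -/
theorem exists_finite_local_span {X₀ V : EtOver X} [IsAffine V.obj.left.left] (hM : IsCart M) (b : V ⟶ X₀)
    {I : Type (u + 1)} [Finite I] (s : I → (M.over X₀).sections)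
    [Epi ((M.over X₀).freeHomEquiv.symm s)] : Module.Finite (fn V) (sectModEt M V) := by
  let Y : Over X₀ := Over.mk b
  let G : Set (sectModEt M V) := Set.range fun i => PresheafOfModules.sections.eval (s i) (op Y)
  refine ⟨Submodule.fg_def.2 ⟨G, Set.finite_range _, eq_top_iff.2 fun m _ => ?_⟩⟩
  have hT : Sieve.overEquiv Y (SubSheaf.memSieve (SubSheaf.spanSections s) (X := Y) m) ∈ etTop X V :=
    (GrothendieckTopology.mem_over_iff _ _).1 (SubSheaf.span_mem_of_epi s (X := Y) m)
  obtain ⟨C, hC⟩ := exists_affCover hT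
  refine mem_span_of_local hM C fun k => ?_
  have h : res M (C.g k) m ∈ Submodule.span ((OEtRing X).obj.obj (op (C.V k)))
      (Set.range fun i => PresheafOfModules.sections.eval (s i) (op (Over.mk (C.g k ≫ b)))) :=
    (Sieve.overEquiv_iff (SubSheaf.memSieve (SubSheaf.spanSections s) (X := Y) m) (C.g k)).1 (hC k)
  refine Submodule.span_mono ?_ (mem_span_upΓ h)
  rintro _ ⟨i, rfl⟩
  exact ⟨_, ⟨i, rfl⟩, (s i).2 (Over.homMk (C.g k) rfl : Over.mk (C.g k ≫ b) ⟶ Y).op⟩

/-- Modules of finite type have finite modules of sections over affine objects. -/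
theorem finite_of_isFiniteType (hM : IsCart M) [M.IsFiniteType] (E : EtOver X) [IsAffine E.obj.left.left] :
    Module.Finite (fn E) (sectModEt M E) := by
  obtain ⟨σ, hσ⟩ := SheafOfModules.IsFiniteType.exists_localGeneratorsData M
  obtain ⟨C, hC⟩ := exists_affCover (σ.coversTop E)
  have hk : ∀ k, Module.Finite (fn (C.V k)) (sectModEt M (C.V k)) := fun k => by
    obtain ⟨i, ⟨b⟩⟩ := (Sieve.mem_ofObjects_iff ..).mp (hC k)
    have := (hσ.isFiniteType i).finite
    have := (σ.generators i).epi
    exact exists_finite_local_span hM b (σ.generators i).s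
  have h : ∀ k, ∃ G : Finset (sectModEt M E),
      Submodule.span (fn (C.V k)) (res M (C.g k) '' (G : Set (sectModEt M E))) = ⊤ := fun k => by
    classical
    obtain ⟨T, hT⟩ := (hk k).fg_top
    have : ∀ t : T, ∃ G : Finset (sectModEt M E),
        (t : sectModEt M (C.V k)) ∈ Submodule.span (fn (C.V k)) (res M (C.g k) '' (G : Set (sectModEt M E))) :=
      fun t => by
      obtain ⟨G', hG', ht⟩ := Submodule.mem_span_finite_of_mem_span
        (show (t : sectModEt M (C.V k)) ∈ Submodule.span (fn (C.V k)) (Set.range (res M (C.g k))) by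
          rw [span_res_eq_top hM]; trivial)
      choose p hp using fun x : G' => hG' x.2
      refine ⟨Finset.univ.image p, Submodule.span_mono (fun x hx => ?_) ht⟩
      exact ⟨p ⟨x, hx⟩, by simp, hp ⟨x, hx⟩⟩
    choose G hG using this
    refine ⟨Finset.univ.biUnion G, eq_top_iff.2 ?_⟩
    rw [← hT, Submodule.span_le]
    intro t ht
    refine Submodule.span_mono (Set.image_mono ?_) (hG ⟨t, ht⟩)
    intro x hx
    exact Finset.mem_biUnion.2 ⟨⟨t, ht⟩, Finset.mem_univ _, hx⟩
  choose G hG using h
  refine ⟨Submodule.fg_def.2 ⟨⋃ k, (G k : Set (sectModEt M E)), Set.finite_iUnion fun k => (G k).finite_toSet,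
    eq_top_iff.2 fun m _ => mem_span_of_local hM C fun k => ?_⟩⟩
  exact Submodule.span_mono (Set.image_mono (Set.subset_iUnion (fun k => (G k : Set (sectModEt M E))) k))
    (hG k ▸ trivial)

theorem exists_fin_surjective {A : Type u} [CommRing A] {N : Type (u + 1)} [AddCommGroup N] [Module A N]
    [Module.Finite A N] : ∃ (ι : Type (u + 1)) (_ : Finite ι) (σ : ι → N),
      Function.Surjective (Finsupp.linearCombination A σ) := by
  obtain ⟨n, s, hs⟩ := Module.Finite.exists_fin (R := A) (M := N)
  refine ⟨ULift (Fin n), inferInstance, fun i => s i.down, LinearMap.range_eq_top.1 ?_⟩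
  rw [Finsupp.range_linearCombination, ← hs]
  exact congrArg _ (Set.ext fun x => ⟨fun ⟨i, h⟩ => ⟨i.down, h⟩, fun ⟨i, h⟩ => ⟨⟨i⟩, h⟩⟩)

/-- The sections of the kernel of a map from a finite free module over a Noetherian ring are finite. -/
theorem finite_kernel_sfree {E : EtOver X} {P : SliceMod E} [IsAffine E.obj.left.left]
    [IsNoetherianRing (fn E)] {ι : Type (u + 1)} [Finite ι] (φ : sfree ι ⟶ P) :
    Module.Finite (fn E) (SSec (kernel φ) (𝟙 E)) := by
  have hfree : Module.Finite (fn E) (SSec (sfree (X₀ := E) ι) (𝟙 E)) :=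
    Module.Finite.of_surjective (combBase (𝟙 E) ι)
      (surjective_of_tens_id (bijective_tens_combBase (𝟙 E)).2)
  exact Module.Finite.of_injective (sMap (kernel.ι φ) (𝟙 E))
    (fun a b h => SubSheaf.kernel_ι_injective φ (X := Over.mk (𝟙 E)) h)

/-- A finite presentation from finite modules of sections over a Noetherian affine object. -/
theorem exists_finitePresentation (hM : IsCart M) (E : EtOver X) [IsAffine E.obj.left.left]
    [IsNoetherianRing (fn E)] [Module.Finite (fn E) (sectModEt M E)] :
    ∃ σ : (M.over E).Presentation, σ.IsFinite := by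
  haveI : Module.Finite (fn E) (SSec (M.over E) (𝟙 E)) := ‹Module.Finite (fn E) (sectModEt M E)›
  obtain ⟨ι, _, σ, hσ⟩ := exists_fin_surjective (A := fn E) (N := SSec (M.over E) (𝟙 E))
  have hb : ∀ ⦃V : EtOver X⦄ [IsAffine V.obj.left.left] (g : V ⟶ E), Function.Bijective
      (tens (LinearMap.id : SSec (M.over E) (𝟙 E) →ₗ[fn E] SSec (M.over E) (𝟙 E)) g) :=
    fun _ _ g => bijective_tens_of_isCart hM g
  let π := (M.over E).freeHomEquiv.symm fun i => genAll (M.over E) (σ i)
  have hK := finite_kernel_sfree π
  obtain ⟨ι', _, τ, hτ⟩ := exists_fin_surjective (A := fn E) (N := SSec (kernel π) (𝟙 E))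
  have e : Epi ((kernel π).freeHomEquiv.symm fun j => genAll (kernel π) (τ j)) :=
    epi_genFam τ hτ fun _ _ g =>
      surjective_tens_kernel π (combBase (𝟙 E) ι) g (bijective_tens_combBase g).2 (hb g).1
  exact ⟨{ generators := ⟨ι, fun i => genAll (M.over E) (σ i), epi_genFam σ hσ fun _ _ g => (hb g).2⟩
           relations := ⟨ι', fun j => genAll (kernel π) (τ j), e⟩ },
    { isFiniteType_generators := ⟨‹Finite ι›⟩, isFiniteType_relations := ⟨‹Finite ι'›⟩ }⟩

/-- Finite modules of sections over affine objects of a locally Noetherian space give coherence. -/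
theorem isFinitePresentation_of_finite (hX : IsLocNoethSp X) (hM : IsCart M)
    (hfin : ∀ (E : EtOver X) [IsAffine E.obj.left.left], Module.Finite (fn E) (sectModEt M E)) :
    M.IsFinitePresentation := by
  have h : ∀ E : {E : EtOver X // IsAffine E.obj.left.left}, ∃ σ : (M.over E.1).Presentation, σ.IsFinite :=
    fun E => by
    have := E.2
    have := isNoetherianRing_fn hX E.1
    have := hfin E.1
    exact exists_finitePresentation hM E.1
  choose σ hσ using h
  let q : M.QuasicoherentData :=
    { I := {E : EtOver X // IsAffine E.obj.left.left}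
      X := Subtype.val
      coversTop := coversTop_affine X
      presentation := σ }
  haveI : q.IsFinitePresentation := { isFinite_presentation := fun i => hσ i }
  exact { exists_quasicoherentData := ⟨q, ‹q.IsFinitePresentation›⟩ }

theorem isCart_of_isFinitePresentation [M.IsFinitePresentation] : IsCart M :=
  isCart_of_isQuasicoherent M

theorem finite_of_isFinitePresentation [M.IsFinitePresentation] (E : EtOver X) [IsAffine E.obj.left.left] :
    Module.Finite (fn E) (sectModEt M E) :=
  finite_of_isFiniteType (isCart_of_isQuasicoherent M) E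

end Groth.Agent.Lib.EtMod
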