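import Groth.Agent.Lib.EtMod.QCoh

/-!
# Presentations of modules whose sections over affine objects form base changes
-/

universe u

set_option backward.isDefEq.respectTransparency false

open CategoryTheory CategoryTheory.Limits AlgebraicGeometry Opposite AlgSp
open TensorProduct

namespace Groth.Agent.Lib.EtMod

variable {S : Scheme.{u}} {X : Sp S} {X₀ : EtOver X} {P Q : SliceMod X₀}

/-- A morphism that is locally surjective on sections is an epimorphism. -/
theorem epi_of_local_preimage (φ : P ⟶ Q)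
    (h : ∀ (V : EtOver X) (a : V ⟶ X₀) (m : SSec Q a), ∃ R ∈ etTop X V,
      ∀ ⦃W : EtOver X⦄ (k : W ⟶ V) (b : W ⟶ X₀) (e : k ≫ a = b), R k →
        ∃ x, sMap φ b x = sres Q k e m) : Epi φ := by
  refine ⟨fun {Z} g₁ g₂ hg => SheafOfModules.hom_ext (PresheafOfModules.hom_ext fun Y =>
    ModuleCat.hom_ext (LinearMap.ext fun m => ?_))⟩
  obtain ⟨Y⟩ := Y
  obtain ⟨R, hR, hm⟩ := h Y.left Y.hom m
  refine SubSheaf.sections_ext Z (X := Y) (S := (Sieve.overEquiv Y).symm R)
    ((GrothendieckTopology.mem_over_iff _ _).2 ((OrderIso.apply_symm_apply (Sieve.overEquiv Y) R).symm ▸ hR)) ?_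
  intro W k hk
  obtain ⟨x, hx⟩ := hm k.left W.hom (Over.w k) ((Sieve.overEquiv_symm_iff R k).1 hk)
  have key : ∀ g : Q ⟶ Z,
      Z.val.map k.op (g.val.app (op Y) m) = (φ ≫ g).val.app (op W) x := fun g =>
    (PresheafOfModules.naturality_apply g.val k.op m).symm.trans (congrArg (g.val.app (op W)) hx.symm)
  exact (key g₁).trans ((congrArg (fun ψ : P ⟶ Z => ψ.val.app (op W) x) hg).trans (key g₂).symm)

theorem map_map_eq {D : Type*} [Category D] {R : Dᵒᵖ ⥤ RingCat} (M : PresheafOfModules R) {T A B : D}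
    (a : A ⟶ T) (b : B ⟶ T) (g : B ⟶ A) (h : g ≫ a = b) (m : M.obj (op T)) :
    M.map g.op (M.map a.op m) = M.map b.op m := by
  subst h
  exact (PresheafOfModules.map_comp_apply M a.op g.op m).symm

variable (P)

/-- A section over the base object, as a compatible family on the slice. -/
noncomputable def genAll (m : SSec P (𝟙 X₀)) : P.sections :=
  PresheafOfModules.sectionsMk
    (fun Y => P.val.map (Over.homMk Y.unop.hom : Y.unop ⟶ Over.mk (𝟙 X₀)).op m)
    (fun Y Y' g => by
      exact map_map_eq P.val (Over.homMk Y.unop.hom : Y.unop ⟶ Over.mk (𝟙 X₀))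
        (Over.homMk Y'.unop.hom : Y'.unop ⟶ Over.mk (𝟙 X₀)) g.unop (Over.OverMorphism.ext (Over.w g.unop)) m)

theorem eval_genAll (m : SSec P (𝟙 X₀)) :
    PresheafOfModules.sections.eval (genAll P m) (op (Over.mk (𝟙 X₀))) = m := by
  change P.val.map _ m = m
  have e : (Over.homMk (𝟙 X₀) : Over.mk (𝟙 X₀) ⟶ Over.mk (𝟙 X₀)).op = 𝟙 (op (Over.mk (𝟙 X₀))) :=
    Quiver.Hom.unop_inj (Over.OverMorphism.ext rfl)
  exact (congrArg (fun k => P.val.map k m) e).trans
    (ConcreteCategory.congr_hom (P.val.presheaf.map_id _) m)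

/-- The morphism from the free module on the sections over the base. -/
noncomputable abbrev genMap : sfree (SSec P (𝟙 X₀)) ⟶ P :=
  P.freeHomEquiv.symm (genAll P)

theorem sMap_genMap_combBase (n : SSec P (𝟙 X₀) →₀ fn X₀) :
    sMap (genMap P) (𝟙 X₀) (combBase (𝟙 X₀) (SSec P (𝟙 X₀)) n) = Finsupp.linearCombination (fn X₀) id n := by
  refine LinearMap.congr_fun (f := (sMap (genMap P) (𝟙 X₀)).comp (combBase (𝟙 X₀) _)) ?_ n
  ext m
  simp only [LinearMap.comp_apply, Finsupp.lsingle_apply, combBase_single, sMap_eval,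
    Finsupp.linearCombination_single, one_smul, id_eq]
  rw [show SheafOfModules.sectionsMap (genMap P) (SheafOfModules.freeSection m) = genAll P m from
    SheafOfModules.sectionsMap_freeHomEquiv_symm_freeSection (genAll P) m, eval_genAll]

variable {P}

theorem sMap_genFam_combBase {ι : Type (u + 1)} (σ : ι → SSec P (𝟙 X₀)) (n : ι →₀ fn X₀) :
    sMap (P.freeHomEquiv.symm fun i => genAll P (σ i)) (𝟙 X₀) (combBase (𝟙 X₀) ι n) =
      Finsupp.linearCombination (fn X₀) σ n := by
  refine LinearMap.congr_fun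
    (f := (sMap (P.freeHomEquiv.symm fun i => genAll P (σ i)) (𝟙 X₀)).comp (combBase (𝟙 X₀) ι)) ?_ n
  ext i
  simp only [LinearMap.comp_apply, Finsupp.lsingle_apply, combBase_single, sMap_eval,
    Finsupp.linearCombination_single, one_smul]
  rw [SheafOfModules.sectionsMap_freeHomEquiv_symm_freeSection (fun i => genAll P (σ i)) i, eval_genAll]

/-- A spanning family of sections over the base generates when sections over the base generate on affine
objects. -/
theorem epi_genFam [IsAffine X₀.obj.left.left] {ι : Type (u + 1)} (σ : ι → SSec P (𝟙 X₀))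
    (hσ : Function.Surjective (Finsupp.linearCombination (fn X₀) σ))
    (hs : ∀ ⦃V : EtOver X⦄ [IsAffine V.obj.left.left] (g : V ⟶ X₀),
      Function.Surjective (tens (LinearMap.id : SSec P (𝟙 X₀) →ₗ[fn X₀] SSec P (𝟙 X₀)) g)) :
    Epi (P.freeHomEquiv.symm fun i => genAll P (σ i)) := by
  refine epi_of_local_preimage _ fun V a m => ?_
  choose W j hW hj using fun v : V.obj.left.left => exists_affine_open_obj v
  refine ⟨_, ofArrows_mem_etTop W j fun v => ⟨v, hj v⟩, fun T k b e hk => ?_⟩
  obtain ⟨_, c, _, ⟨v⟩, rfl⟩ := hk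
  have := hW v
  let g := j v ≫ a
  obtain ⟨z, hz⟩ := hs g (show Sec P (𝟙 X₀) g from sres P (j v) (Category.comp_id g).symm m)
  obtain ⟨z', rfl⟩ := LinearMap.lTensor_surjective (Fn g)
    (g := (sMap (P.freeHomEquiv.symm fun i => genAll P (σ i)) (𝟙 X₀)).comp (combBase (𝟙 X₀) ι))
    (fun x => (hσ x).imp fun n hn => (sMap_genFam_combBase σ n).trans hn) z
  rw [tens_lTensor, LinearMap.id_comp, tens_sMap] at hz
  subst e
  refine ⟨sres (sfree _) c (show c ≫ g ≫ 𝟙 X₀ = (c ≫ j v) ≫ a by simp [g])
    (tens (combBase (𝟙 X₀) ι) g z'), ?_⟩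
  rw [sMap_sres]
  exact (congrArg (sres P c _) hz).trans (sres_comp P (j v) c _ _ rfl m)

/-- Sections over the base generate when they generate on affine objects. -/
theorem epi_genMap [IsAffine X₀.obj.left.left]
    (hs : ∀ ⦃V : EtOver X⦄ [IsAffine V.obj.left.left] (g : V ⟶ X₀),
      Function.Surjective (tens (LinearMap.id : SSec P (𝟙 X₀) →ₗ[fn X₀] SSec P (𝟙 X₀)) g)) :
    Epi (genMap P) :=
  epi_genFam id (fun x => ⟨Finsupp.single x 1, by simp⟩) hs

/-- Sections of a kernel over affine objects are combinations of those over the base, abstract form. -/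
theorem surjective_tens_of_ker {L : SliceMod X₀} {E : EtOver X} {f : E ⟶ X₀} {N : Type (u + 1)}
    [AddCommGroup N] [Module (fn E) N] (ι : L ⟶ Q) (φ : Q ⟶ P) (θ₀ : N →ₗ[fn E] SSec Q f)
    (θk : ↥(LinearMap.ker ((sMap φ f).comp θ₀)) →ₗ[fn E] SSec L f)
    (hk : (sMap ι f).comp θk = θ₀.comp (LinearMap.ker ((sMap φ f).comp θ₀)).subtype)
    {V : EtOver X} (g : V ⟶ E) [IsAffine E.obj.left.left] [IsAffine V.obj.left.left]
    (hι : Function.Injective (secS ι f g)) (hcomp : ι ≫ φ = 0)
    (hQ : Function.Surjective (tens θ₀ g))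
    (hP : Function.Injective (tens (LinearMap.id : SSec P f →ₗ[fn E] SSec P f) g)) :
    Function.Surjective (tens (LinearMap.id : SSec L f →ₗ[fn E] SSec L f) g) := by
  intro x
  have := flat_fn g
  obtain ⟨z, hz⟩ := hQ (secS ι f g x)
  have h0 : ((sMap φ f).comp θ₀).lTensor (Fn g) z = 0 := hP (by
    rw [tens_lTensor, LinearMap.id_comp, tens_sMap, hz, map_zero]
    exact sMap_comp_zero ι φ hcomp _ x)
  obtain ⟨y, rfl⟩ :=
    (Module.Flat.lTensor_exact (Fn g) (LinearMap.exact_subtype_ker_map ((sMap φ f).comp θ₀)) z).1 h0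
  refine ⟨θk.lTensor (Fn g) y, hι ?_⟩
  rw [← hz, tens_lTensor, LinearMap.id_comp, ← tens_sMap, hk, ← tens_lTensor]

set_option maxHeartbeats 1000000 in
/-- Sections of a kernel over affine objects are combinations of those over the base. -/
theorem surjective_tens_kernel {E : EtOver X} {f : E ⟶ X₀} {N : Type (u + 1)} [AddCommGroup N]
    [Module (fn E) N] (φ : Q ⟶ P) (θ₀ : N →ₗ[fn E] SSec Q f) {V : EtOver X} (g : V ⟶ E)
    [IsAffine E.obj.left.left] [IsAffine V.obj.left.left]
    (hQ : Function.Surjective (tens θ₀ g))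
    (hP : Function.Injective (tens (LinearMap.id : SSec P f →ₗ[fn E] SSec P f) g)) :
    Function.Surjective (tens (LinearMap.id : SSec (kernel φ) f →ₗ[fn E] SSec (kernel φ) f) g) := by
  let K := LinearMap.ker ((sMap φ f).comp θ₀)
  let ψ : ↥K →ₗ[fn E] SSec Q f := θ₀.comp K.subtype
  have hψ : ∀ n : ↥K, sMap φ f (ψ n) = 0 := fun n => n.2
  obtain ⟨θk, hk⟩ := exists_kernel_linear (N := ↥K) (f := f) φ ψ hψ
  have hι : Function.Injective (secS (kernel.ι φ) f g) := fun a b h =>
    SubSheaf.kernel_ι_injective φ (X := Over.mk (g ≫ f)) h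
  have hcomp : kernel.ι φ ≫ φ = 0 := kernel.condition φ
  exact surjective_tens_of_ker (kernel.ι φ) φ θ₀ θk hk g hι hcomp hQ hP

/-- A presentation from bijective comparisons on affine objects. -/
noncomputable def presentationOfBijective [IsAffine X₀.obj.left.left]
    (hb : ∀ ⦃V : EtOver X⦄ [IsAffine V.obj.left.left] (g : V ⟶ X₀),
      Function.Bijective (tens (LinearMap.id : SSec P (𝟙 X₀) →ₗ[fn X₀] SSec P (𝟙 X₀)) g)) :
    P.Presentation where
  generators := ⟨SSec P (𝟙 X₀), genAll P, epi_genMap fun _ _ g => (hb g).2⟩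
  relations := ⟨SSec (kernel (genMap P)) (𝟙 X₀), genAll (kernel (genMap P)),
    epi_genMap fun _ _ g =>
    surjective_tens_kernel (genMap P) (combBase (𝟙 X₀) _) g (bijective_tens_combBase g).2 (hb g).1⟩

theorem tens_id_eq_equiv {V : EtOver X} (g : V ⟶ X₀) (h : IsBaseChange (Fn g) (resL P (𝟙 X₀) g))
    (z : Fn g ⊗[fn X₀] SSec P (𝟙 X₀)) : tens LinearMap.id g z = h.equiv z := by
  induction z using TensorProduct.induction_on with
  | zero => simp
  | tmul b n => rw [tens_tmul, h.equiv_tmul]; rfl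
  | add x y hx hy => simp only [map_add, hx, hy]

theorem bijective_tens_of_isBaseChange {V : EtOver X} (g : V ⟶ X₀)
    (h : IsBaseChange (Fn g) (resL P (𝟙 X₀) g)) :
    Function.Bijective (tens (LinearMap.id : SSec P (𝟙 X₀) →ₗ[fn X₀] SSec P (𝟙 X₀)) g) := by
  rw [funext (tens_id_eq_equiv g h)]
  exact h.equiv.bijective

/-- A module whose sections over affine objects form base changes is presented on every affine
object. -/
noncomputable def presentationOver {M : ModEt X} (hM : IsCart M) (E : EtOver X) [IsAffine E.obj.left.left] :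
    (M.over E).Presentation :=
  presentationOfBijective fun _ _ g => bijective_tens_of_isBaseChange g (hM g)

theorem coversTop_affine (X : Sp S) :
    (etTop X).CoversTop fun E : {E : EtOver X // IsAffine E.obj.left.left} => E.1 := by
  intro Y
  choose W j hW hj using fun v : Y.obj.left.left => exists_affine_open_obj v
  refine (etTop X).superset_covering ?_ (ofArrows_mem_etTop W j fun v => ⟨v, hj v⟩)
  intro T k hk
  obtain ⟨_, c, _, ⟨v⟩, rfl⟩ := hk
  exact (Sieve.mem_ofObjects_iff ..).mpr ⟨⟨W v, hW v⟩, ⟨c⟩⟩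

/-- Base change on affine objects implies quasi-coherence. -/
theorem isQuasicoherent_of_isCart {M : ModEt X} (hM : IsCart M) : M.IsQuasicoherent :=
  SheafOfModules.QuasicoherentData.isQuasicoherent (M := M)
    { I := {E : EtOver X // IsAffine E.obj.left.left}
      X := Subtype.val
      coversTop := coversTop_affine X
      presentation := fun E => have := E.2; presentationOver hM E.1 }

/-- Quasi-coherence is base change on affine objects. -/
theorem isQuasicoherent_iff_isCart (M : ModEt X) : M.IsQuasicoherent ↔ IsCart M :=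
  ⟨fun _ => isCart_of_isQuasicoherent M, isQuasicoherent_of_isCart⟩

end Groth.Agent.Lib.EtMod
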