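import Groth.Agent.Lib.EtMod.PushWeakAss
import Groth.Agent.Lib.AlgSpPush.FullyFaithful

/-!
# Functions and sections along a closed immersion
-/

universe u

set_option backward.isDefEq.respectTransparency false

open CategoryTheory CategoryTheory.Limits AlgebraicGeometry Opposite AlgSp

namespace Groth.Agent.Lib.EtMod

variable {S : Scheme.{u}} {Z X : Sp S} {i : Z ⟶ X} (hi : RepWith @IsClosedImmersion i)

theorem isClosedImmersion_bcP (W : EtOver X) : IsClosedImmersion (bcP hi.1 W) :=
  Groth.Agent.Lib.AlgSpPush.Refine.P_bcπ hi W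

/-- Base changes of affine objects along a closed immersion are affine. -/
theorem isAffine_bcE_closed (W : EtOver X) [IsAffine W.obj.left.left] : IsAffine (bcE hi.1 W).obj.left.left := by
  have := isClosedImmersion_bcP hi W
  exact isAffine_of_isAffineHom (bcP hi.1 W)

/-- Functions on the base change lift. -/
theorem surjective_πfn (W : EtOver X) [IsAffine W.obj.left.left] : Function.Surjective (πfn hi.1 W) := by
  have := isClosedImmersion_bcP hi W
  exact ((HasAffineProperty.iff_of_isAffine (P := @IsClosedImmersion)).1 this).2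

include hi in
/-- Closed immersions are finite. -/
theorem isFiniteMor_closed : IsFiniteMor i := fun Z' hZ g => by
  have := hZ
  have hc : IsClosedImmersion (hi.1.snd g).left := hi.2 g _ _ (hi.1.isPullback g)
  exact ⟨_, hi.1.snd g, hi.1.fst g, hi.1.isPullback g, isAffine_of_isAffineHom (hi.1.snd g).left,
    inferInstance⟩

/-- Base changes of affine objects cover. -/
theorem exists_bc_affine (hX : IsAlgSpace X) (D : EtOver Z) (d : D.obj.left.left) :
    ∃ (W : EtOver X) (_ : IsAffine W.obj.left.left) (h : bcE hi.1 W ⟶ D), d ∈ Set.range h.hom.left.left := by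
  obtain ⟨N, hN, u, hu⟩ := exists_affine_point hX (Points.map i (Points.ofPt D.obj.hom d))
  obtain ⟨w, hw, -⟩ := exists_point_bcE hi.1 N u (Points.ofPt D.obj.hom d) hu.symm
  obtain ⟨D', -, a, b, z, ha, -⟩ := exists_common_chart hw.symm
  obtain ⟨N', k, h, -, v, hv⟩ :=
    Groth.Agent.Lib.AlgSpPush.Refine.exists_refine_pt
      Groth.Agent.Lib.AlgSpPush.Refine.refProp_isClosedImmersion hi N b z
  obtain ⟨W, j, hW, y, hy⟩ := exists_affine_open_obj (bcP hi.1 N' v)
  have hy' : bcP hi.1 N' v ∈ Set.range j.hom.left.left := ⟨y, hy⟩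
  obtain ⟨x, hx⟩ := Scheme.Pullback.exists_preimage_pullback v y hy.symm
  refine ⟨W, hW, (EtOver.bc hi.1).map j ≫ h ≫ a, (isPullback_bc hi.1 j).isoPullback.inv x, ?_⟩
  change a.hom.left.left (h.hom.left.left (((EtOver.bc hi.1).map j).hom.left.left
    ((isPullback_bc hi.1 j).isoPullback.inv x))) = d
  rw [← Scheme.Hom.comp_apply (isPullback_bc hi.1 j).isoPullback.inv, IsPullback.isoPullback_inv_fst, hx.1]
  exact (congrArg a.hom.left.left hv).trans ha

/-- Morphisms between base changes are locally base changes of morphisms. -/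
theorem exists_bc_local {W' W : EtOver X} (m : bcE hi.1 W' ⟶ bcE hi.1 W)
    (x : (bcE hi.1 W').obj.left.left) :
    ∃ (V : EtOver X) (_ : IsAffine V.obj.left.left) (k : V ⟶ W') (l : V ⟶ W),
      (EtOver.bc hi.1).map k ≫ m = (EtOver.bc hi.1).map l ∧
        x ∈ Set.range ((EtOver.bc hi.1).map k).hom.left.left := by
  have hfull := Groth.Agent.Lib.AlgSpPush.Dense.isLocallyFull
    Groth.Agent.Lib.AlgSpPush.Refine.refProp_isClosedImmersion hi
  have hmem : Sieve.functorPushforward (EtOver.bc hi.1) (Functor.imageSieve (EtOver.bc hi.1) m) ∈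
      etTop Z ((EtOver.bc hi.1).obj W') :=
    hfull.functorPushforward_imageSieve_mem m
  obtain ⟨W₁, j₁, hW₁, y₁, hy₁⟩ := exists_affine_open_obj (bcP hi.1 W' x)
  obtain ⟨x₁, hx₁⟩ := Scheme.Pullback.exists_preimage_pullback x y₁ hy₁.symm
  haveI := isAffine_bcE_closed hi W₁
  obtain ⟨C, hC⟩ := exists_affCover (E := bcE hi.1 W₁)
    ((etTop Z).pullback_stable ((EtOver.bc hi.1).map j₁) hmem)
  obtain ⟨t, c, hc⟩ := C.cov ((isPullback_bc hi.1 j₁).isoPullback.inv x₁)
  obtain ⟨V₀, g, q, ⟨l₀, hl₀⟩, hq⟩ := hC t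
  obtain ⟨V, j, hV, z, hz⟩ := exists_affine_open_obj (bcP hi.1 V₀ (q.hom.left.left c))
  obtain ⟨p, hp⟩ := Scheme.Pullback.exists_preimage_pullback (q.hom.left.left c) z hz.symm
  refine ⟨V, hV, j ≫ g, j ≫ l₀, ?_, (isPullback_bc hi.1 j).isoPullback.inv p, ?_⟩
  · rw [Functor.map_comp, Functor.map_comp, Category.assoc, hl₀]
  · rw [Functor.map_comp]
    change ((EtOver.bc hi.1).map g).hom.left.left (((EtOver.bc hi.1).map j).hom.left.left
      ((isPullback_bc hi.1 j).isoPullback.inv p)) = x
    rw [← Scheme.Hom.comp_apply (isPullback_bc hi.1 j).isoPullback.inv, IsPullback.isoPullback_inv_fst, hp.1]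
    change (q ≫ (EtOver.bc hi.1).map g).hom.left.left c = x
    rw [← hq]
    change ((EtOver.bc hi.1).map j₁).hom.left.left ((C.g t).hom.left.left c) = x
    rw [hc, ← Scheme.Hom.comp_apply (isPullback_bc hi.1 j₁).isoPullback.inv, IsPullback.isoPullback_inv_fst]
    exact hx₁.1

/-- Functions are locally functions from the target. -/
theorem exists_scalar_cover (hX : IsAlgSpace X) (D : EtOver Z) (a : fn D) (d : D.obj.left.left) :
    ∃ (W : EtOver X) (_ : IsAffine W.obj.left.left) (h : bcE hi.1 W ⟶ D) (b : fn W),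
      πfn hi.1 W b = fnMap h a ∧ d ∈ Set.range h.hom.left.left := by
  obtain ⟨W, hW, h, hd⟩ := exists_bc_affine hi hX D d
  obtain ⟨b, hb⟩ := surjective_πfn hi W (fnMap h a)
  exact ⟨W, hW, h, b, hb, hd⟩

end Groth.Agent.Lib.EtMod
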