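import Groth.Agent.Lib.EtMod.SuppLocal
import Groth.Agent.Lib.AlgSpMor.QC

/-!
# Coherent modules supported in a closed subset
-/

universe u

set_option backward.isDefEq.respectTransparency false
set_option linter.style.haveILetI false

open CategoryTheory CategoryTheory.Limits AlgebraicGeometry Opposite AlgSp
open Groth.Agent.Lib.AlgSpStalk.Lifts Groth.Agent.Lib.AlgSpStalk.Point
open Groth.Agent.Lib.AlgSpDecent

namespace Groth.Agent.Lib.EtMod

variable {S : Scheme.{u}}

theorem exists_pow_le_annihilator {A : Type u} [CommRing A] {N : Type (u + 1)} [AddCommGroup N]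
    [Module A N] [Module.Finite A N] {J : Ideal A} (hJ : J.FG)
    (h : ∀ s : N, J ≤ (Submodule.span A {s}).annihilator.radical) :
    ∃ n : ℕ, ∀ a ∈ J ^ n, ∀ s : N, a • s = 0 := by
  classical
  obtain ⟨G, hG⟩ := Module.Finite.fg_top (R := A) (M := N)
  choose n hn using fun g : N => Ideal.exists_pow_le_of_le_radical_of_fg (h g) hJ
  refine ⟨G.sup n, fun a ha s => ?_⟩
  have hs : s ∈ Submodule.span A (G : Set N) := hG ▸ trivial
  induction hs using Submodule.span_induction with
  | mem g hg =>
    have := hn g (Ideal.pow_le_pow_right (Finset.le_sup (f := n) hg) ha)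
    exact (Submodule.mem_annihilator_span_singleton g a).1 this
  | zero => rw [smul_zero]
  | add x y _ _ hx hy => rw [smul_add, hx, hy, add_zero]
  | smul c x _ hx => rw [smul_comm, hx, smul_zero]

theorem exists_pow_le_annSect_iff (X : AlgSp.Space S) (hqc : IsQuasiCompactSp X.obj)
    (hN : IsLocNoethSp X.obj) (M : ModEt X.obj) [M.IsFinitePresentation] (I : IdealEt X.obj)
    (hI : I.IsQCoh) {Z : AlgSp.Space S} (i : Z ⟶ X) (hZ : IsCutOutBy I i.hom) :
    (∃ n : ℕ, ∀ (E : EtOver X.obj) (hE : IsAffine E.obj.left.left) (s : sectModEt M E),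
        (I ^ n).ideal E hE ≤ annSect s) ↔
      ∀ x : FieldPt X.obj, x.IsGeometric → Points.mk x ∉ Set.range (Points.map i.hom) →
        IsZero (stalkEt x ((toAbEt X.obj).obj M)) := by
  obtain ⟨hi, rfl⟩ := hZ
  have hX := X.property
  have hM : IsCart M := isCart_of_isFinitePresentation
  have hfin : ∀ (E : EtOver X.obj) [IsAffine E.obj.left.left], Module.Finite (fn E) (sectModEt M E) :=
    fun E _ => finite_of_isFinitePresentation (M := M) E
  constructor
  · rintro ⟨n, hn⟩ x hx hxi
    obtain ⟨E, hE, ⟨l⟩⟩ := exists_affine_nbhd hX x hx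
    have := hfin E
    refine isZero_stalk_of_annSect hX x hx hM E (l.1.left (pt₀ x)) (ofPt_lift x l) fun s hs => hxi ?_
    rw [← ofPt_lift x l, mem_range_map_iff hi]
    exact fun a ha => (isPrime_primeAtPt _ _).mem_of_pow_mem n (hs (hn E hE s (Ideal.pow_mem_pow ha n)))
  · intro h
    have := Groth.Agent.Lib.AlgSpMor.QC.compactSpace_points hqc
    obtain ⟨E₀, hE₀, hsurj⟩ : ∃ (E₀ : EtOver X.obj) (_ : IsAffine E₀.obj.left.left),
        Function.Surjective (Points.ofPt E₀.obj.hom) := by
      obtain ⟨U, q, hU, hq, hqs⟩ := Groth.Agent.Lib.AlgSpMor.QC.exists_affine_atlas hX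
      exact ⟨EtOver.mk q hq, hU, Core.surjective_ofPt hqs⟩
    haveI := hfin E₀
    haveI := isNoetherianRing_fn hN E₀
    obtain ⟨n, hn⟩ := exists_pow_le_annihilator (A := fn E₀) (N := sectModEt M E₀)
      (J := RingHom.ker (πfn hi.1 E₀)) (IsNoetherian.noetherian _) fun s => by
        have hle : RingHom.ker (πfn hi.1 E₀) ≤ (annSect s).radical := by
          refine le_radical_of_zeroLocus_subset fun v hv => ?_
          have := zeroLocus_annSect_subset hX hM hfin h E₀ s hv
          exact (mem_zeroLocus_iff_le _ v).2 ((mem_range_map_iff hi E₀ v).1 this)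
        refine hle.trans (Ideal.radical_mono fun a ha => ?_)
        exact (Submodule.mem_annihilator_span_singleton _ _).2 ((mem_annSect_iff s a).1 ha)
    refine ⟨n, fun E hE s a ha => ?_⟩
    choose u hu using fun v : E.obj.left.left =>
      hsurj (Points.ofPt E.obj.hom v)
    choose W hW b c w hb hc using fun v : E.obj.left.left =>
      exists_common_chart (E' := E₀) (u := v) (u' := u v) (hu v).symm
    refine eq_of_cover W b (fun v => ⟨v, w v, hb v⟩) fun v => ?_
    have := hW v
    rw [map_zero]
    change res M (b v) (a • s) = 0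
    rw [res_smul]
    have ha' : fnMap (b v) a ∈ (RingHom.ker (πfn hi.1 E₀) ^ n).map (fnMap (c v)) := by
      rw [Ideal.map_pow]
      exact Ideal.pow_right_mono (hI (c v) inferInstance (hW v)) n
        ((idealOfRep hi.1 ^ n).map_le (b v) hE (hW v) (Ideal.mem_map_of_mem _ ha))
    generalize fnMap (b v) a = a' at ha' ⊢
    have key : ∀ m ∈ Submodule.span (fn (W v)) (Set.range (res M (c v))), a' • m = 0 := by
     intro m hm
     induction hm using Submodule.span_induction with
     | mem y hy =>
       obtain ⟨y, rfl⟩ := hy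
       induction ha' using Submodule.span_induction with
       | mem z hz =>
         obtain ⟨z, hz, rfl⟩ := hz
         rw [← res_smul, hn z hz y, map_zero]
       | zero => rw [zero_smul]
       | add x y _ _ hx hy => rw [add_smul, hx, hy, add_zero]
       | smul r x _ hx => rw [smul_eq_mul, mul_smul, hx, smul_zero]
     | zero => rw [smul_zero]
     | add x y _ _ hx hy => rw [smul_add, hx, hy, add_zero]
     | smul r x _ hx => rw [smul_comm, hx, smul_zero]
    exact key _ (span_res_eq_top hM (c v) ▸ trivial)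

theorem exists_mono_coherent_support_split (X : AlgSp.Space S) (hN : IsLocNoethSp X.obj)
    (F : ModEt X.obj) [F.IsFinitePresentation] (Z Z' : Set (Points X.obj)) (hZ : IsClosed Z)
    (hZ' : IsClosed Z')
    (hsupp : ∀ x : FieldPt X.obj, x.IsGeometric →
      (Points.mk x ∈ Z ∪ Z' ↔ ¬ IsZero (stalkEt x ((toAbEt X.obj).obj F)))) :
    ∃ (G' : ModEt X.obj) (a : G' ⟶ F), Mono a ∧ G'.IsFinitePresentation ∧
      (cokernel a).IsFinitePresentation ∧
        (∀ x : FieldPt X.obj, x.IsGeometric → Points.mk x ∉ Z' →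
          IsZero (stalkEt x ((toAbEt X.obj).obj G'))) ∧
        (∀ x : FieldPt X.obj, x.IsGeometric → Points.mk x ∉ Z →
          IsZero (stalkEt x ((toAbEt X.obj).obj (cokernel a)))) := by
  have hX := X.property
  have hF : IsCart F := isCart_of_isFinitePresentation
  have hfin : ∀ (E : EtOver X.obj) [IsAffine E.obj.left.left], Module.Finite (fn E) (sectModEt F E) :=
    fun E _ => finite_of_isFinitePresentation (M := F) E
  have hfg : ∀ (E : EtOver X.obj) [IsAffine E.obj.left.left], ∃ J : Ideal (fn E), J.FG ∧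
      E.obj.left.left.zeroLocus (U := ⊤) (J : Set (fn E)) = {w | Points.ofPt E.obj.hom w ∈ Z'} :=
    fun E _ => by
      haveI := isNoetherianRing_fn hN E
      obtain ⟨J, hJ⟩ := (Scheme.eq_zeroLocus_of_isClosed_of_isAffine _ _).1
        (hZ'.preimage (Points.continuous_ofPt E.obj.hom))
      exact ⟨J, IsNoetherian.noetherian J, hJ.symm⟩
  obtain ⟨hG, hrange⟩ := isCart_suppSub hZ' hF hfg
  let a := SubSheaf.closureι (suppSub Z' F)
  have hinj : ∀ E, Function.Injective (secMap a E) := fun E x y h => Subtype.ext h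
  have hGfin : ∀ (E : EtOver X.obj) [IsAffine E.obj.left.left],
      Module.Finite (fn E) (sectModEt (SubSheaf.closureSheaf (suppSub Z' F)) E) := fun E _ => by
    haveI := isNoetherianRing_fn hN E
    haveI := hfin E
    exact Module.Finite.of_injective (secMap a E) (hinj E)
  haveI : (SubSheaf.closureSheaf (suppSub Z' F)).IsFinitePresentation :=
    isFinitePresentation_of_finite hN hG hGfin
  have hC := isCart_cokernel a hG hF
  have hCfin : ∀ (E : EtOver X.obj) [IsAffine E.obj.left.left],
      Module.Finite (fn E) (sectModEt (cokernel a) E) := fun E _ => finite_cokernel a E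
  refine ⟨_, a, SubSheaf.mono_closureι _, inferInstance,
    isFinitePresentation_of_finite hN hC hCfin, fun x hx hxZ => ?_, fun x hx hxZ => ?_⟩
  · obtain ⟨E, hE, ⟨l⟩⟩ := exists_affine_nbhd hX x hx
    have := hGfin E
    refine isZero_stalk_of_annSect hX x hx hG E (l.1.left (pt₀ x)) (ofPt_lift x l) fun s hs => hxZ ?_
    have h1 : annSect (secMap a E s) ≤ annSect s := fun b hb =>
      (mem_annSect_iff s b).2 <| hinj E <| ((map_smul (secMap a E) b s).trans
        ((mem_annSect_iff _ b).1 hb)).trans (map_zero _).symm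
    have h2 := ((hrange E).subset ⟨s, rfl⟩) ((mem_zeroLocus_iff_le _ _).2 (h1.trans hs))
    rw [← ofPt_lift x l]
    exact h2
  · by_cases hxZ' : Points.mk x ∈ Z'
    · obtain ⟨E, hE, hEZ, hxE⟩ := exists_chart_in_open hX hZ.isOpen_compl hxZ
      refine isZero_stalk_of_chart hX x hx hC E (fun s => ?_) hxE
      obtain ⟨t, rfl⟩ := surjective_secMap (cokernel.π a) hF hC E s
      obtain ⟨r, rfl⟩ : t ∈ Set.range (secMap a E) := (hrange E).superset <| by
        refine fun w hw => ?_
        rcases zeroLocus_annSect_subset hX hF hfin (T := Z ∪ Z')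
          (fun q hq hqT => not_not.1 (mt (hsupp q hq).2 hqT)) E t hw with h | h
        · exact absurd h (hEZ ⟨w, rfl⟩)
        · exact h
      exact congrArg (fun ψ : SubSheaf.closureSheaf (suppSub Z' F) ⟶ cokernel a => secMap ψ E r)
        (cokernel.condition a)
    · obtain ⟨E, hE, hxE, h⟩ := exists_chart_of_isZero_stalk hX x hx hF hfin
        (not_not.1 (mt (hsupp x hx).2 fun h => h.elim hxZ hxZ'))
      refine isZero_stalk_of_chart hX x hx hC E (fun s => ?_) hxE
      obtain ⟨t, rfl⟩ := surjective_secMap (cokernel.π a) hF hC E s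
      rw [h t, map_zero]

end Groth.Agent.Lib.EtMod
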