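import Mathlib.RingTheory.Flat.FaithfullyFlat.Algebra
import Mathlib.RingTheory.IsTensorProduct
import Mathlib.RingTheory.TensorProduct.IsBaseChangePi
import Mathlib.LinearAlgebra.TensorProduct.Pi
import Mathlib.RingTheory.Flat.Basic

/-!
# Descent along finite faithfully flat families, base change and exactness
-/

universe u w

open TensorProduct

namespace Groth.Agent.Lib.EtMod.Alg

section Amitsur

variable {A B D : Type u} [CommRing A] [CommRing B] [CommRing D] [Algebra A B] [Algebra A D]
  [Module.FaithfullyFlat A B] {N : Type w} [AddCommGroup N] [Module A N]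

/-- The kernel of the Amitsur complex in degree zero, for any model `D` of `B ⊗[A] B`. -/
theorem amitsur (i₁ i₂ : B →ₐ[A] D) (hD : Function.Bijective (Algebra.TensorProduct.productMap i₁ i₂))
    (z : B ⊗[A] N) (hz : i₁.toLinearMap.rTensor N z = i₂.toLinearMap.rTensor N z) :
    ∃ n : N, (1 : B) ⊗ₜ n = z := by
  let e : (B ⊗[A] B) ⊗[A] N ≃ₗ[A] D ⊗[A] N :=
    LinearEquiv.rTensor N (LinearEquiv.ofBijective (Algebra.TensorProduct.productMap i₁ i₂).toLinearMap hD)
  let a := TensorProduct.assoc A B B N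
  have h₁ : ∀ z, e (a.symm (LinearMap.lTensor B (TensorProduct.mk A B N 1) z)) = i₁.toLinearMap.rTensor N z := by
    intro z
    induction z using TensorProduct.induction_on with
    | zero => simp
    | tmul b n =>
      show Algebra.TensorProduct.productMap i₁ i₂ (b ⊗ₜ 1) ⊗ₜ n = i₁ b ⊗ₜ n
      simp
    | add x y hx hy => simp only [map_add, hx, hy]
  have h₂ : ∀ z, e (a.symm (TensorProduct.mk A B (B ⊗[A] N) 1 z)) = i₂.toLinearMap.rTensor N z := by
    intro z
    induction z using TensorProduct.induction_on with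
    | zero => simp
    | tmul b n =>
      show Algebra.TensorProduct.productMap i₁ i₂ (1 ⊗ₜ b) ⊗ₜ n = i₂ b ⊗ₜ n
      simp
    | add x y hx hy => simp only [map_add, hx, hy]
  have h : TensorProduct.mk A B (B ⊗[A] N) 1 z = LinearMap.lTensor B (TensorProduct.mk A B N 1) z :=
    a.symm.injective (e.injective (by rw [h₁, h₂, hz]))
  have h' := congrArg (LinearMap.lTensor B (LinearMap.range (TensorProduct.mk A B N 1)).mkQ) h
  rw [← LinearMap.comp_apply, ← LinearMap.comp_apply, ← LinearMap.lTensor_comp,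
    LinearMap.range_mkQ_comp, LinearMap.lTensor_zero] at h'
  show z ∈ LinearMap.range (TensorProduct.mk A B N 1)
  rw [← Submodule.Quotient.mk_eq_zero]
  exact (Module.FaithfullyFlat.one_tmul_eq_zero_iff A _ (A := B) _).1 h'

end Amitsur

section Family

variable {A : Type u} [CommRing A] {κ : Type} [Finite κ] (B : κ → Type u) [∀ k, CommRing (B k)]
  [∀ k, Algebra A (B k)]

/-- A finite family of flat algebras covering the spectrum. -/
structure IsFFFamily : Prop where
  flat : ∀ k, Module.Flat A (B k)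
  covers : ∀ p : PrimeSpectrum A, ∃ (k : κ) (q : PrimeSpectrum (B k)),
    PrimeSpectrum.comap (algebraMap A (B k)) q = p

variable {B}

theorem IsFFFamily.faithfullyFlat (hB : IsFFFamily (A := A) B) : Module.FaithfullyFlat A (∀ k, B k) := by
  classical
  cases nonempty_fintype κ
  have := hB.flat
  have : Module.Flat A (∀ k, B k) :=
    Module.Flat.of_linearEquiv (DirectSum.linearEquivFunOnFintype A κ B).symm
  refine Module.FaithfullyFlat.of_comap_surjective fun p => ?_
  obtain ⟨k, q, rfl⟩ := hB.covers p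
  exact ⟨PrimeSpectrum.comap (Pi.evalRingHom B k) q, rfl⟩

variable {N : Type w} [AddCommGroup N] [Module A N]

/-- An element vanishing on a covering family vanishes. -/
theorem IsFFFamily.eq_zero (hB : IsFFFamily (A := A) B) {n : N}
    (h : ∀ k, (1 : B k) ⊗ₜ[A] n = 0) : n = 0 := by
  classical
  cases nonempty_fintype κ
  have := hB.faithfullyFlat
  refine (Module.FaithfullyFlat.one_tmul_eq_zero_iff A N (A := ∀ k, B k) n).1 ?_
  refine (TensorProduct.piLeft A N B).injective ?_
  rw [map_zero]
  funext k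
  simpa using h k

/-- Gluing along a covering family. -/
theorem IsFFFamily.exists_glue (hB : IsFFFamily (A := A) B) {C : κ → κ → Type u}
    [∀ k l, CommRing (C k l)] [∀ k l, Algebra A (C k l)]
    (i₁ : ∀ k l, B k →ₐ[A] C k l) (i₂ : ∀ k l, B l →ₐ[A] C k l)
    (hC : ∀ k l, Function.Bijective (Algebra.TensorProduct.productMap (i₁ k l) (i₂ k l)))
    (z : ∀ k, B k ⊗[A] N)
    (hz : ∀ k l, (i₁ k l).toLinearMap.rTensor N (z k) = (i₂ k l).toLinearMap.rTensor N (z l)) :
    ∃ n : N, ∀ k, (1 : B k) ⊗ₜ n = z k := by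
  classical
  cases nonempty_fintype κ
  have := hB.faithfullyFlat
  let I₁ : (∀ k, B k) →ₐ[A] ∀ p : κ × κ, C p.1 p.2 :=
    AlgHom.pi fun p => (i₁ p.1 p.2).comp (Pi.evalAlgHom A B p.1)
  let I₂ : (∀ k, B k) →ₐ[A] ∀ p : κ × κ, C p.1 p.2 :=
    AlgHom.pi fun p => (i₂ p.1 p.2).comp (Pi.evalAlgHom A B p.2)
  let E : ((∀ k, B k) ⊗[A] (∀ k, B k)) ≃ₗ[A] ∀ p : κ × κ, C p.1 p.2 :=
    TensorProduct.piLeft A (∀ k, B k) B ≪≫ₗ
      LinearEquiv.piCongrRight (fun k => TensorProduct.piRight A A (B k) B ≪≫ₗ
        LinearEquiv.piCongrRight fun l =>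
          LinearEquiv.ofBijective (Algebra.TensorProduct.productMap (i₁ k l) (i₂ k l)).toLinearMap (hC k l)) ≪≫ₗ
      { toFun := fun f p => f p.1 p.2
        invFun := fun f k l => f (k, l)
        map_add' := fun _ _ => rfl
        map_smul' := fun _ _ => rfl }
  have hD : Function.Bijective (Algebra.TensorProduct.productMap I₁ I₂) := by
    have : (Algebra.TensorProduct.productMap I₁ I₂).toLinearMap = E.toLinearMap := by
      refine TensorProduct.ext' fun x y => funext fun p => ?_
      simp [E, I₁, I₂]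
      all_goals rfl
    exact (congrArg (fun f : _ →ₗ[A] _ => Function.Bijective f) this).mpr E.bijective
  let Z : (∀ k, B k) ⊗[A] N := (TensorProduct.piLeft A N B).symm z
  have hev : ∀ k, (Pi.evalAlgHom A B k).toLinearMap.rTensor N Z = z k := by
    have : ∀ (k) (x : (∀ k, B k) ⊗[A] N),
        (Pi.evalAlgHom A B k).toLinearMap.rTensor N x = TensorProduct.piLeft A N B x k := fun k x => by
      induction x using TensorProduct.induction_on with
      | zero => simp
      | tmul b n => simp
      | add x y hx hy => simp [map_add, hx, hy]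
    intro k
    rw [this, LinearEquiv.apply_symm_apply]
  obtain ⟨n, hn⟩ := amitsur I₁ I₂ hD Z (by
    refine (TensorProduct.piLeft A N fun p : κ × κ => C p.1 p.2).injective (funext fun p => ?_)
    have key : ∀ (J : (∀ k, B k) →ₐ[A] ∀ p : κ × κ, C p.1 p.2) (k) (j : B k →ₐ[A] C p.1 p.2),
        (Pi.evalAlgHom A (fun p : κ × κ => C p.1 p.2) p).comp J = j.comp (Pi.evalAlgHom A B k) →
        TensorProduct.piLeft A N (fun p : κ × κ => C p.1 p.2) (J.toLinearMap.rTensor N Z) p =
          j.toLinearMap.rTensor N (z k) := fun J k j h => by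
      rw [← hev k]
      have h' : ∀ b, J b p = j (b k) := fun b => DFunLike.congr_fun h b
      generalize Z = x
      induction x using TensorProduct.induction_on with
      | zero => simp
      | tmul b n => simp [h']
      | add x y hx hy => simp only [map_add, Pi.add_apply, hx, hy]
    rw [key I₁ p.1 (i₁ p.1 p.2) rfl, key I₂ p.2 (i₂ p.1 p.2) rfl]
    exact hz p.1 p.2)
  refine ⟨n, fun k => ?_⟩
  rw [← hev k, ← hn]
  rfl

end Family

section Tower

variable {A B : Type u} [CommRing A] [CommRing B] [Algebra A B] {κ : Type} [Finite κ]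
  {Bk : κ → Type u} [∀ k, CommRing (Bk k)] [∀ k, Algebra A (Bk k)] [∀ k, Algebra B (Bk k)]
  [∀ k, IsScalarTower A B (Bk k)] {N : Type w} [AddCommGroup N] [Module A N]

omit [Finite κ] in
theorem cancel_one_tmul (k : κ) (z : B ⊗[A] N) :
    AlgebraTensorModule.cancelBaseChange A B B (Bk k) N ((1 : Bk k) ⊗ₜ[B] z) =
      (IsScalarTower.toAlgHom A B (Bk k)).toLinearMap.rTensor N z := by
  induction z using TensorProduct.induction_on with
  | zero => simp
  | tmul b n => simp [Algebra.algebraMap_eq_smul_one]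
  | add x y hx hy => simp only [tmul_add, map_add, hx, hy]

/-- An element of a base change vanishing on a covering family vanishes. -/
theorem IsFFFamily.eq_zero' (hB : IsFFFamily (A := B) Bk) {z : B ⊗[A] N}
    (h : ∀ k, (IsScalarTower.toAlgHom A B (Bk k)).toLinearMap.rTensor N z = 0) : z = 0 :=
  hB.eq_zero fun k => (AlgebraTensorModule.cancelBaseChange A B B (Bk k) N).injective (by
    rw [cancel_one_tmul, h, map_zero])

/-- Gluing in a base change along a covering family. -/
theorem IsFFFamily.exists_glue' (hB : IsFFFamily (A := B) Bk) {C : κ → κ → Type u}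
    [∀ k l, CommRing (C k l)] [∀ k l, Algebra A (C k l)] [∀ k l, Algebra B (C k l)]
    [∀ k l, IsScalarTower A B (C k l)]
    (i₁ : ∀ k l, Bk k →ₐ[B] C k l) (i₂ : ∀ k l, Bk l →ₐ[B] C k l)
    (hC : ∀ k l, Function.Bijective (Algebra.TensorProduct.productMap (i₁ k l) (i₂ k l)))
    (z : ∀ k, Bk k ⊗[A] N)
    (hz : ∀ k l, ((i₁ k l).restrictScalars A).toLinearMap.rTensor N (z k) =
      ((i₂ k l).restrictScalars A).toLinearMap.rTensor N (z l)) :
    ∃ n : B ⊗[A] N, ∀ k, (IsScalarTower.toAlgHom A B (Bk k)).toLinearMap.rTensor N n = z k := by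
  let c := fun k => AlgebraTensorModule.cancelBaseChange A B B (Bk k) N
  have key : ∀ (k l j) (i : Bk j →ₐ[B] C k l) (y : Bk j ⊗[B] (B ⊗[A] N)),
      AlgebraTensorModule.cancelBaseChange A B B (C k l) N (i.toLinearMap.rTensor (B ⊗[A] N) y) =
        (i.restrictScalars A).toLinearMap.rTensor N (c j y) := fun k l j i y => by
    induction y using TensorProduct.induction_on with
    | zero => simp
    | tmul x w =>
      induction w using TensorProduct.induction_on with
      | zero => simp
      | tmul b n => simp [c]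
      | add u v hu hv => simp only [tmul_add, map_add, hu, hv]
    | add u v hu hv => simp only [map_add, hu, hv]
  obtain ⟨n, hn⟩ := hB.exists_glue i₁ i₂ hC (fun k => (c k).symm (z k)) (fun k l => by
    refine (AlgebraTensorModule.cancelBaseChange A B B (C k l) N).injective ?_
    rw [key, key, LinearEquiv.apply_symm_apply, LinearEquiv.apply_symm_apply]
    exact hz k l)
  refine ⟨n, fun k => ?_⟩
  rw [← cancel_one_tmul, hn k]
  exact (c k).apply_symm_apply (z k)

end Tower

section Exact

variable {A : Type u} [CommRing A] {B : Type u} [CommRing B] [Algebra A B] [Module.Flat A B]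
  {P₀ P₁ P₂ Q₀ Q₁ Q₂ : Type w} [AddCommGroup P₀] [AddCommGroup P₁] [AddCommGroup P₂]
  [Module A P₀] [Module A P₁] [Module A P₂]
  [AddCommGroup Q₀] [AddCommGroup Q₁] [AddCommGroup Q₂]
  [Module A Q₀] [Module A Q₁] [Module A Q₂] [Module B Q₀] [Module B Q₁] [Module B Q₂]
  [IsScalarTower A B Q₀] [IsScalarTower A B Q₁] [IsScalarTower A B Q₂]

/-- Flat base change of kernels. -/
theorem isBaseChange_of_exact {f₀ : P₀ →ₗ[A] Q₀} {f₁ : P₁ →ₗ[A] Q₁} {f₂ : P₂ →ₗ[A] Q₂}
    (h₁ : IsBaseChange B f₁) (h₂ : IsBaseChange B f₂) {r : P₀ →ₗ[A] P₁} {d : P₁ →ₗ[A] P₂}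
    (hr : Function.Injective r) (hex : Function.Exact r d) {s : Q₀ →ₗ[B] Q₁} {d' : Q₁ →ₗ[B] Q₂}
    (hs : Function.Injective s) (hd' : ∀ q, d' (s q) = 0)
    (c₁ : ∀ p, s (f₀ p) = f₁ (r p)) (c₂ : ∀ p, d' (f₁ p) = f₂ (d p)) : IsBaseChange B f₀ := by
  let Φ₀ : B ⊗[A] P₀ →ₗ[B] Q₀ := LinearMap.liftBaseChange B f₀
  have e₁ : ∀ x, s (Φ₀ x) = h₁.equiv (r.lTensor B x) := fun x => by
    induction x using TensorProduct.induction_on with
    | zero => simp
    | tmul b p => simp [Φ₀, IsBaseChange.equiv_tmul, c₁]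
    | add x y hx hy => simp only [map_add, hx, hy]
  have e₂ : ∀ x, d' (h₁.equiv x) = h₂.equiv (d.lTensor B x) := fun x => by
    induction x using TensorProduct.induction_on with
    | zero => simp
    | tmul b p => simp [IsBaseChange.equiv_tmul, c₂]
    | add x y hx hy => simp only [map_add, hx, hy]
  have hinj : Function.Injective Φ₀ := fun x y h => by
    refine Module.Flat.lTensor_preserves_injective_linearMap r hr ?_
    refine h₁.equiv.injective ?_
    rw [← e₁, ← e₁, h]
  have hsurj : Function.Surjective Φ₀ := fun q => by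
    obtain ⟨x, hx⟩ := h₁.equiv.surjective (s q)
    have h0 : d.lTensor B x = 0 := h₂.equiv.injective (by rw [← e₂, hx, hd', map_zero])
    obtain ⟨y, rfl⟩ := (Module.Flat.lTensor_exact B hex x).1 h0
    exact ⟨y, hs (by rw [e₁, hx])⟩
  exact IsBaseChange.of_equiv (LinearEquiv.ofBijective Φ₀ ⟨hinj, hsurj⟩) fun p =>
    (LinearMap.liftBaseChange_tmul B f₀ 1 p).trans (one_smul B _)

end Exact

section Pushout

variable {A B A' B' : Type u} [CommRing A] [CommRing B] [CommRing A'] [CommRing B'] [Algebra A B]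
  [Algebra A A'] [Algebra A B'] [Algebra B B'] [Algebra A' B'] [IsScalarTower A B B']
  [IsScalarTower A A' B'] [Algebra.IsPushout A B A' B']
  {P Q : Type w} [AddCommGroup P] [AddCommGroup Q] [Module A P] [Module A' P] [IsScalarTower A A' P]
  [Module A Q] [Module B Q] [Module A' Q] [Module B' Q] [IsScalarTower A B Q] [IsScalarTower A A' Q]
  [IsScalarTower A' B' Q] [IsScalarTower B B' Q]

/-- A base change along a pushout is a base change along the original map. -/
theorem isBaseChange_of_pushout {g : P →ₗ[A'] Q} (hg : IsBaseChange B' g) :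
    IsBaseChange B (g.restrictScalars A) := by
  let c := Algebra.IsPushout.cancelBaseChange A B A' B' P
  let e : B ⊗[A] P ≃ₗ[B] Q := c.symm ≪≫ₗ hg.equiv.restrictScalars B
  refine IsBaseChange.of_equiv e fun p => ?_
  simp [e, c, IsBaseChange.equiv_tmul]

end Pushout

end Groth.Agent.Lib.EtMod.Alg
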