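import Mathlib.Algebra.Category.ModuleCat.Presheaf.Submodule
import Mathlib.Algebra.Category.ModuleCat.Sheaf.Free
import Mathlib.Algebra.Category.ModuleCat.Sheaf.Abelian
import Mathlib.CategoryTheory.Sites.IsSheafFor

/-!
# Local spans in sheaves of modules

The closure of a submodule under covering, and the consequences for sections of kernels, images of
epimorphisms and free sheaves of modules.
-/

universe v v₁ u₁ u

open CategoryTheory Limits Opposite

namespace Groth.Agent.Lib.EtMod.SubSheaf

variable {C : Type u₁} [Category.{v₁} C] {J : GrothendieckTopology C} {R : Sheaf J RingCat.{u}}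

/-- Sheaves of modules are sheaves of sets. -/
theorem isSheaf_forget (M : SheafOfModules.{v} R) :
    Presieve.IsSheaf J (M.val.presheaf ⋙ CategoryTheory.forget AddCommGrpCat.{v}) :=
  (isSheaf_iff_isSheaf_of_type _ _).1 (Presheaf.isSheaf_comp_of_isSheaf J M.val.presheaf _ M.isSheaf)

/-- A section is determined by its restrictions to a covering sieve. -/
theorem sections_ext (M : SheafOfModules.{v} R) {X : C} {S : Sieve X} (hS : S ∈ J X)
    {m m' : M.val.obj (op X)} (h : ∀ ⦃Y : C⦄ (f : Y ⟶ X), S f → M.val.map f.op m = M.val.map f.op m') :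
    m = m' :=
  (isSheaf_forget M).isSeparated S hS |>.ext h

variable {M : SheafOfModules.{v} R}

/-- The sieve of morphisms carrying a section into a submodule. -/
def memSieve (P : M.val.Submodule) {X : C} (m : M.val.obj (op X)) : Sieve X where
  arrows Y f := M.val.map f.op m ∈ P.obj (op Y)
  downward_closed {Y Z f} hf g := by
    have := P.map_mem g.op hf
    rwa [← PresheafOfModules.map_comp_apply, ← op_comp] at this

/-- The sections lying locally in a submodule. -/
def closure (P : M.val.Submodule) : M.val.Submodule where
  obj X :=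
    { carrier := {m | memSieve P m ∈ J X.unop}
      add_mem' := fun {a b} ha hb => J.superset_covering (fun Y f hf => by
        change M.val.map f.op (a + b) ∈ P.obj (op Y)
        rw [map_add]
        exact (P.obj _).add_mem hf.1 hf.2) (J.intersection_covering ha hb)
      zero_mem' := J.superset_covering (fun Y f _ => by
        change M.val.map f.op 0 ∈ P.obj (op Y)
        rw [map_zero]
        exact (P.obj _).zero_mem) (J.top_mem _)
      smul_mem' := fun r m hm => J.superset_covering (fun Y f hf => by
        change M.val.map f.op (r • m) ∈ P.obj (op Y)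
        rw [PresheafOfModules.map_smul]
        exact (P.obj _).smul_mem _ hf) hm }
  map {X Y} g := fun m hm => by
    refine J.superset_covering (fun Z f hf => ?_) (J.pullback_stable g.unop hm)
    change M.val.map f.op (M.val.map g m) ∈ P.obj (op Z)
    rw [← PresheafOfModules.map_comp_apply]
    exact hf

theorem mem_closure_iff {P : M.val.Submodule} {X : C} {m : M.val.obj (op X)} :
    m ∈ (closure P).obj (op X) ↔ memSieve P m ∈ J X :=
  Iff.rfl

theorem le_closure (P : M.val.Submodule) : P ≤ closure P := fun X m hm =>
  J.superset_covering (fun Y f _ => P.map_mem f.op hm) (J.top_mem _)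

theorem closure_closed (P : M.val.Submodule) {X : C} {m : M.val.obj (op X)} {S : Sieve X}
    (hS : S ∈ J X) (h : ∀ ⦃Y : C⦄ (f : Y ⟶ X), S f → M.val.map f.op m ∈ (closure P).obj (op Y)) :
    m ∈ (closure P).obj (op X) := by
  refine J.transitive hS _ fun Y f hf => J.superset_covering (fun Z g hg => ?_) (h f hf)
  change M.val.map (g ≫ f).op m ∈ P.obj (op Z)
  rw [op_comp, PresheafOfModules.map_comp_apply]
  exact hg

theorem isSheaf_closure (P : M.val.Submodule) :
    Presheaf.IsSheaf J (closure P).toPresheafOfModules.presheaf := by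
  intro T X S hS x hx
  let ι := ((PresheafOfModules.toPresheaf R.obj).map (closure P).ι)
  let xh : ∀ ⦃Y : C⦄ (f : Y ⟶ X), S f → (T ⟶ (closure P).toPresheafOfModules.presheaf.obj (op Y)) :=
    fun Y f hf => x f hf
  have hx' : Presieve.FamilyOfElements.Compatible (P := M.val.presheaf ⋙ coyoneda.obj (op T))
      (fun Y f hf => xh f hf ≫ ι.app (op Y)) := by
    intro Y₁ Y₂ Z g₁ g₂ f₁ f₂ h₁ h₂ e
    have h : xh f₁ h₁ ≫ (closure P).toPresheafOfModules.presheaf.map g₁.op =
        xh f₂ h₂ ≫ (closure P).toPresheafOfModules.presheaf.map g₂.op := hx g₁ g₂ h₁ h₂ e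
    change (xh f₁ h₁ ≫ ι.app (op Y₁)) ≫ M.val.presheaf.map g₁.op =
      (xh f₂ h₂ ≫ ι.app (op Y₂)) ≫ M.val.presheaf.map g₂.op
    exact AddCommGrpCat.hom_ext (AddMonoidHom.ext fun t =>
      congrArg Subtype.val (ConcreteCategory.congr_hom h t))
  obtain ⟨(m : T ⟶ M.val.presheaf.obj (op X)), hm, hu⟩ := M.isSheaf T S hS _ hx'
  have hm' : ∀ ⦃Y : C⦄ (f : Y ⟶ X) (hf : S f) (t : T),
      M.val.map f.op (m.hom t) = ((xh f hf).hom t).val :=
    fun Y f hf t => ConcreteCategory.congr_hom (hm f hf) t
  have hmem : ∀ t : T, (m.hom t : M.val.obj (op X)) ∈ (closure P).obj (op X) := fun t =>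
    closure_closed P hS fun Y f hf => by
      rw [hm' f hf t]
      exact ((xh f hf).hom t).2
  refine ⟨AddCommGrpCat.ofHom
    { toFun := fun t => (⟨m.hom t, hmem t⟩ : (closure P).obj (op X))
      map_zero' := Subtype.ext (map_zero m.hom)
      map_add' := fun a b => Subtype.ext (map_add m.hom a b) }, fun Y f hf => ?_, fun y hy => ?_⟩
  · refine AddCommGrpCat.hom_ext (AddMonoidHom.ext fun t => Subtype.ext (hm' f hf t))
  · let yh : T ⟶ (closure P).toPresheafOfModules.presheaf.obj (op X) := y
    refine AddCommGrpCat.hom_ext (AddMonoidHom.ext fun t => Subtype.ext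
      (ConcreteCategory.congr_hom (hu (yh ≫ ι.app (op X)) fun Y f hf => ?_) t))
    refine AddCommGrpCat.hom_ext (AddMonoidHom.ext fun t => ?_)
    exact congrArg Subtype.val (ConcreteCategory.congr_hom (hy f hf : _ = xh f hf) t)

/-- The closure of a submodule as a sheaf of modules. -/
noncomputable def closureSheaf (P : M.val.Submodule) : SheafOfModules.{v} R where
  val := (closure P).toPresheafOfModules
  isSheaf := isSheaf_closure P

/-- The inclusion of the closure. -/
noncomputable def closureι (P : M.val.Submodule) : closureSheaf P ⟶ M := ⟨(closure P).ι⟩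

theorem closureι_app (P : M.val.Submodule) (X : C) (m : (closure P).obj (op X)) :
    (closureι P).val.app (op X) m = m.val :=
  rfl

instance mono_closureι (P : M.val.Submodule) : Mono (closureι P) :=
  (SheafOfModules.forget.{v} R).mono_of_mono_map (inferInstanceAs (Mono (closure P).ι))

section Abelian

variable [HasSheafify J AddCommGrpCat.{v}] [J.WEqualsLocallyBijective AddCommGrpCat.{v}]

/-- An epimorphism factoring through a closure makes the closure everything. -/
theorem mem_closure_of_epi {F : SheafOfModules.{v} R} (φ : F ⟶ M) [Epi φ] (P : M.val.Submodule)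
    (ψ : F ⟶ closureSheaf P) (h : ψ ≫ closureι P = φ) {X : C} (m : M.val.obj (op X)) :
    memSieve P m ∈ J X := by
  have : Epi (closureι P) := epi_of_epi_fac h
  have : IsIso (closureι P) := isIso_of_mono_of_epi _
  let n : (closure P).obj (op X) := (inv (closureι P)).val.app (op X) m
  have hn : n.val = m := by
    rw [← closureι_app]
    exact congrArg (fun k => k.val.app (op X) m) (IsIso.inv_hom_id (closureι P))
  rw [← hn]
  exact n.2

/-- The range of a morphism. -/
noncomputable def range {F : SheafOfModules.{v} R} (φ : F ⟶ M) : M.val.Submodule where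
  obj X := LinearMap.range (φ.val.app X).hom
  map {X Y} g := by
    rintro _ ⟨x, rfl⟩
    exact ⟨F.val.map g x, PresheafOfModules.naturality_apply φ.val g x⟩

/-- An epimorphism is locally surjective. -/
theorem exists_local_preimage {F : SheafOfModules.{v} R} (φ : F ⟶ M) [Epi φ] {X : C}
    (m : M.val.obj (op X)) :
    ∃ S ∈ J X, ∀ ⦃Y : C⦄ (f : Y ⟶ X), S f → ∃ x, φ.val.app (op Y) x = M.val.map f.op m := by
  let ψ : F.val ⟶ (closure (range φ)).toPresheafOfModules := PresheafOfModules.homMk
    { app := fun Y => AddCommGrpCat.ofHom
        { toFun := fun x => ⟨φ.val.app Y x, le_closure (range φ) Y ⟨x, rfl⟩⟩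
          map_zero' := Subtype.ext (map_zero (φ.val.app Y).hom)
          map_add' := fun a b => Subtype.ext (map_add (φ.val.app Y).hom a b) }
      naturality := fun Y Y' g => by
        ext x
        exact Subtype.ext (PresheafOfModules.naturality_apply φ.val g x) }
    (fun Y r x => Subtype.ext (map_smul (φ.val.app Y).hom r x))
  exact ⟨_, mem_closure_of_epi φ (range φ) ⟨ψ⟩ (SheafOfModules.hom_ext (PresheafOfModules.hom_ext
    fun Y => by ext x; rfl)) m, fun Y f hf => hf⟩

/-- The kernel of a morphism as a submodule. -/
noncomputable def ker {N : SheafOfModules.{v} R} (φ : M ⟶ N) : M.val.Submodule where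
  obj X := LinearMap.ker (φ.val.app X).hom
  map {X Y} g := fun x (hx : φ.val.app X x = 0) => by
    change φ.val.app Y (M.val.map g x) = 0
    rw [PresheafOfModules.naturality_apply, hx]
    exact map_zero _

/-- Sections killed by a morphism lift to its kernel. -/
theorem exists_kernel_lift {N : SheafOfModules.{v} R} (φ : M ⟶ N) {X : C} (m : M.val.obj (op X))
    (hm : φ.val.app (op X) m = 0) :
    ∃ x : (kernel φ).val.obj (op X), (kernel.ι φ).val.app (op X) x = m := by
  have h : closureι (ker φ) ≫ φ = 0 := by
    refine SheafOfModules.hom_ext (PresheafOfModules.hom_ext fun Y => ModuleCat.hom_ext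
      (LinearMap.ext fun x => sections_ext N x.2 fun Z f hf => ?_))
    change N.val.map f.op (φ.val.app Y x.val) = N.val.map f.op 0
    rw [map_zero, ← PresheafOfModules.naturality_apply]
    exact hf
  exact ⟨(kernel.lift φ _ h).val.app (op X) ⟨m, le_closure (ker φ) _ hm⟩,
    congrArg (fun k => k.val.app (op X) ⟨m, le_closure (ker φ) _ hm⟩) (kernel.lift_ι φ _ h)⟩

/-- The inclusion of a kernel is injective on sections. -/
theorem kernel_ι_injective {N : SheafOfModules.{v} R} (φ : M ⟶ N) {X : C} :
    Function.Injective ((kernel.ι φ).val.app (op X)) :=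
  have : Mono (kernel.ι φ).val := (SheafOfModules.forget.{v} R).map_mono (kernel.ι φ)
  PresheafOfModules.injective_of_mono _ (op X)

theorem app_comp_apply {L N : SheafOfModules.{v} R} (a : L ⟶ M) (b : M ⟶ N) (X : Cᵒᵖ)
    (x : L.val.obj X) : (a ≫ b).val.app X x = b.val.app X (a.val.app X x) :=
  rfl

theorem app_zero_apply {N : SheafOfModules.{v} R} (X : Cᵒᵖ) (x : M.val.obj X) :
    (0 : M ⟶ N).val.app X x = 0 :=
  rfl

end Abelian

section Free

variable {R : Sheaf J RingCat.{u}} [HasSheafify J AddCommGrpCat.{u}]
  [J.WEqualsLocallyBijective AddCommGrpCat.{u}] {M : SheafOfModules.{u} R} {I : Type u}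

/-- The submodule spanned by a family of global sections. -/
noncomputable def spanSections (s : I → M.sections) : M.val.Submodule where
  obj X := Submodule.span (R.obj.obj X) (Set.range fun i => PresheafOfModules.sections.eval (s i) X)
  map {X Y} g := Submodule.span_le.2 (by
    rintro _ ⟨i, rfl⟩
    exact Submodule.subset_span ⟨i, ((s i).2 g).symm⟩)

/-- If sections generate, every section is locally in their span. -/
theorem span_mem_of_epi (s : I → M.sections) [Epi (M.freeHomEquiv.symm s)] {X : C}
    (m : M.val.obj (op X)) : memSieve (spanSections s) m ∈ J X := by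
  let P := spanSections s
  let t : I → (closureSheaf P).sections := fun i =>
    PresheafOfModules.sectionsMk
      (fun Y => ⟨(s i).1 Y, le_closure P Y (Submodule.subset_span ⟨i, rfl⟩)⟩)
      (fun Y Y' g => Subtype.ext ((s i).2 g))
  refine mem_closure_of_epi (M.freeHomEquiv.symm s) P ((closureSheaf P).freeHomEquiv.symm t) ?_ m
  rw [SheafOfModules.freeHomEquiv_symm_comp]
  exact congrArg _ (funext fun i => Subtype.ext rfl)

/-- The finite combinations of the basis sections of a free module. -/
noncomputable def combFree (X : C) :
    (I →₀ R.obj.obj (op X)) →ₗ[R.obj.obj (op X)] (SheafOfModules.free (R := R) I).val.obj (op X) :=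
  Finsupp.linearCombination _ fun i => PresheafOfModules.sections.eval (SheafOfModules.freeSection (R := R) i) (op X)

theorem freeHomEquiv_app_combFree (f : SheafOfModules.free I ⟶ M) (X : C) (b : I →₀ R.obj.obj (op X)) :
    f.val.app (op X) (combFree X b) =
      Finsupp.linearCombination _ (fun i => PresheafOfModules.sections.eval (M.freeHomEquiv f i) (op X)) b := by
  simp only [combFree, Finsupp.linearCombination_apply, Finsupp.sum, map_sum, map_smul]
  rfl

/-- Finite combinations of the basis sections have unique coefficients. -/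
theorem combFree_injective (X : C) : Function.Injective (combFree (R := R) (I := I) X) := by
  classical
  rw [injective_iff_map_eq_zero]
  intro b hb
  ext i
  let e : I → (SheafOfModules.unit R).sections := fun j =>
    if j = i then PresheafOfModules.sectionsMk (M := (SheafOfModules.unit R).val)
      (fun Y => (1 : R.obj.obj Y)) (fun Y Y' g => map_one (R.obj.map g).hom)
    else PresheafOfModules.sectionsMk (M := (SheafOfModules.unit R).val)
      (fun Y => (0 : R.obj.obj Y)) (fun Y Y' g => map_zero (R.obj.map g).hom)
  have h := congrArg (((SheafOfModules.unit R).freeHomEquiv.symm e).val.app (op X)) hb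
  rw [freeHomEquiv_app_combFree, Equiv.apply_symm_apply, map_zero,
    Finsupp.linearCombination_apply, Finsupp.sum,
    Finset.sum_eq_single (s := b.support) i] at h
  · rw [show e i = _ from if_pos rfl] at h
    exact (mul_one (b i)).symm.trans h
  · intro j _ hj
    rw [show e j = _ from if_neg hj]
    exact mul_zero (b j)
  · intro hi
    rw [Finsupp.notMem_support_iff.1 hi, zero_smul]

/-- Sections of a free module are locally finite combinations. -/
theorem exists_local_combFree {X : C} (m : (SheafOfModules.free (R := R) I).val.obj (op X)) :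
    ∃ S ∈ J X, ∀ ⦃Y : C⦄ (f : Y ⟶ X), S f →
      ∃ b, (combFree Y b : (SheafOfModules.free (R := R) I).val.obj (op Y)) =
        (SheafOfModules.free (R := R) I).val.map f.op m := by
  have : Epi ((SheafOfModules.free (R := R) I).freeHomEquiv.symm SheafOfModules.freeSection) := by
    rw [show (SheafOfModules.free (R := R) I).freeHomEquiv.symm SheafOfModules.freeSection = 𝟙 _ from
      Equiv.symm_apply_apply _ _]
    infer_instance
  exact ⟨_, span_mem_of_epi SheafOfModules.freeSection m, fun Y f hf =>
    LinearMap.mem_range.1 (show _ ∈ LinearMap.range (combFree Y) by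
      rw [combFree, Finsupp.range_linearCombination]
      exact hf)⟩

end Free

end Groth.Agent.Lib.EtMod.SubSheaf
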