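import Groth.Prelude.Def_AlgSpModX
import Groth.Agent.Lib.EtMod.SubSheaf
import Groth.Agent.Lib.EtMod.Alg
import Mathlib.AlgebraicGeometry.Morphisms.Etale

/-!
# Sections of modules on the small etale site of an algebraic space over affine objects
-/

universe u

set_option backward.isDefEq.respectTransparency false

open CategoryTheory CategoryTheory.Limits AlgebraicGeometry Opposite AlgSp

namespace Groth.Agent.Lib.EtMod

variable {S : Scheme.{u}} {X : Sp S}

/-- Global functions on an object of the site. -/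
abbrev fn (E : EtOver X) : CommRingCat.{u} := Γ(E.obj.left.left, ⊤)

/-- Pullback of functions along a morphism of the site. -/
noncomputable abbrev fnMap {E E' : EtOver X} (g : E' ⟶ E) : fn E →+* fn E' :=
  g.hom.left.left.appTop.hom

theorem fnMap_id_apply (E : EtOver X) (a : fn E) : fnMap (𝟙 E) a = a := by
  change (Scheme.Hom.appTop (𝟙 E.obj.left.left)).hom a = a
  simp

theorem fnMap_comp_apply {E E' E'' : EtOver X} (h : E'' ⟶ E') (g : E' ⟶ E) (a : fn E) :
    fnMap (h ≫ g) a = fnMap h (fnMap g a) := by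
  change (Scheme.Hom.appTop (h.hom.left.left ≫ g.hom.left.left)).hom a = _
  rw [Scheme.Hom.comp_appTop]
  rfl

variable {M N : ModEt X}

/-- Sections as a module over the functions. -/
noncomputable instance secModule (E : EtOver X) : Module (fn E) (sectModEt M E) :=
  Module.compHom _ (upΓ E)

theorem smul_def {E : EtOver X} (a : fn E) (s : sectModEt M E) : a • s = upΓ E a • s :=
  rfl

variable (M) in
/-- Restriction of sections. -/
noncomputable def res {E E' : EtOver X} (g : E' ⟶ E) : sectModEt M E →+ sectModEt M E' :=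
  (M.val.presheaf.map g.op).hom

theorem res_apply {E E' : EtOver X} (g : E' ⟶ E) (s : sectModEt M E) :
    res M g s = M.val.map g.op s :=
  rfl

theorem res_smul {E E' : EtOver X} (g : E' ⟶ E) (a : fn E) (s : sectModEt M E) :
    res M g (a • s) = fnMap g a • res M g s :=
  PresheafOfModules.map_smul M.val g.op (upΓ E a) s

theorem res_id_apply {E : EtOver X} (s : sectModEt M E) : res M (𝟙 E) s = s :=
  ConcreteCategory.congr_hom (M.val.presheaf.map_id (op E)) s

theorem res_comp_apply {E E' E'' : EtOver X} (h : E'' ⟶ E') (g : E' ⟶ E) (s : sectModEt M E) :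
    res M (h ≫ g) s = res M h (res M g s) :=
  ConcreteCategory.congr_hom (M.val.presheaf.map_comp g.op h.op) s

theorem res_res_eq {E A B C : EtOver X} (a : A ⟶ E) (b : B ⟶ E) (p : C ⟶ A) (q : C ⟶ B)
    (h : p ≫ a = q ≫ b) (s : sectModEt M E) : res M p (res M a s) = res M q (res M b s) := by
  rw [← res_comp_apply, ← res_comp_apply, h]

/-- A morphism of modules on sections. -/
noncomputable def secMap (φ : M ⟶ N) (E : EtOver X) : sectModEt M E →ₗ[fn E] sectModEt N E where
  toFun := fun s => φ.val.app (op E) s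
  map_add' := map_add (φ.val.app (op E)).hom
  map_smul' a s := map_smul (φ.val.app (op E)).hom (upΓ E a) s

theorem secMap_res (φ : M ⟶ N) {E E' : EtOver X} (g : E' ⟶ E) (s : sectModEt M E) :
    secMap φ E' (res M g s) = res N g (secMap φ E s) :=
  PresheafOfModules.naturality_apply φ.val g.op s

theorem secMap_comp {L : ModEt X} (φ : M ⟶ N) (ψ : N ⟶ L) (E : EtOver X) (s : sectModEt M E) :
    secMap (φ ≫ ψ) E s = secMap ψ E (secMap φ E s) :=
  rfl

theorem secMap_id (E : EtOver X) (s : sectModEt M E) : secMap (𝟙 M) E s = s :=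
  rfl

/-! ### Locality -/

theorem eq_of_sieve {E : EtOver X} {R : Sieve E} (hR : R ∈ etTop X E) {s t : sectModEt M E}
    (h : ∀ ⦃V : EtOver X⦄ (g : V ⟶ E), R g → res M g s = res M g t) : s = t :=
  SubSheaf.sections_ext M hR h

theorem eq_of_cover {E : EtOver X} {ι : Type*} (V : ι → EtOver X) (g : ∀ i, V i ⟶ E)
    (hcov : ∀ x : E.obj.left.left, ∃ i, x ∈ Set.range (g i).hom.left.left) {s t : sectModEt M E}
    (h : ∀ i, res M (g i) s = res M (g i) t) : s = t :=
  eq_of_sieve (ofArrows_mem_etTop V g hcov) fun W k hk => by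
    obtain ⟨_, a, _, ⟨i⟩, rfl⟩ := hk
    rw [res_comp_apply, res_comp_apply, h i]

theorem exists_glue {E : EtOver X} {ι : Type*} (V : ι → EtOver X) (g : ∀ i, V i ⟶ E)
    (hcov : ∀ x : E.obj.left.left, ∃ i, x ∈ Set.range (g i).hom.left.left)
    (s : ∀ i, sectModEt M (V i))
    (hs : ∀ i j, res M (EtOver.pullbackFst (g i) (g j)) (s i) =
      res M (EtOver.pullbackSnd (g i) (g j)) (s j)) :
    ∃ t : sectModEt M E, ∀ i, res M (g i) t = s i := by
  have hS : (Presieve.ofArrows V g).IsSheafFor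
      (M.val.presheaf ⋙ CategoryTheory.forget AddCommGrpCat.{u + 1}) := by
    rw [Presieve.isSheafFor_iff_generate]
    exact SubSheaf.isSheaf_forget M _ (ofArrows_mem_etTop V g hcov)
  refine ((Presieve.isSheafFor_arrows_iff _ g).1 hS s fun i j W a b hab => ?_).exists
  let l : W ⟶ EtOver.pullbackObj (g i) (g j) :=
    (EtOver.pullbackIsLimit (g i) (g j)).lift (PullbackCone.mk a b hab)
  have ha : l ≫ EtOver.pullbackFst (g i) (g j) = a :=
    (EtOver.pullbackIsLimit (g i) (g j)).fac _ WalkingCospan.left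
  have hb : l ≫ EtOver.pullbackSnd (g i) (g j) = b :=
    (EtOver.pullbackIsLimit (g i) (g j)).fac _ WalkingCospan.right
  change res M a (s i) = res M b (s j)
  rw [← ha, ← hb, res_comp_apply, res_comp_apply, hs i j]

theorem isPullback_left {E₁ E₂ E : EtOver X} (g₁ : E₁ ⟶ E) (g₂ : E₂ ⟶ E) :
    IsPullback (EtOver.pullbackFst g₁ g₂).hom.left.left (EtOver.pullbackSnd g₁ g₂).hom.left.left
      g₁.hom.left.left g₂.hom.left.left :=
  (IsPullback.of_hasPullback g₁.hom.left g₂.hom.left).map (Over.forget S)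

instance isAffine_pullbackObj {E₁ E₂ E : EtOver X} (g₁ : E₁ ⟶ E) (g₂ : E₂ ⟶ E)
    [IsAffine E.obj.left.left] [IsAffine E₁.obj.left.left] [IsAffine E₂.obj.left.left] :
    IsAffine (EtOver.pullbackObj g₁ g₂).obj.left.left :=
  .of_isPullback (isPullback_left g₁ g₂)

/-- A finite covering of an object by affine objects. -/
structure AffCover (E : EtOver X) where
  n : ℕ
  V : Fin n → EtOver X
  g : ∀ k, V k ⟶ E
  aff : ∀ k, IsAffine (V k).obj.left.left
  cov : ∀ x : E.obj.left.left, ∃ k, x ∈ Set.range (g k).hom.left.left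

attribute [instance] AffCover.aff

theorem exists_affine_open_obj {V : EtOver X} (v : V.obj.left.left) :
    ∃ (W : EtOver X) (j : W ⟶ V), IsAffine W.obj.left.left ∧ v ∈ Set.range j.hom.left.left := by
  obtain ⟨O, hO, hvO, -⟩ :=
    exists_isAffineOpen_mem_and_subset (x := v) (U := (⊤ : V.obj.left.left.Opens)) trivial
  let V' : V.obj.left.left.Etale := MorphismProperty.Over.mk ⊤ O.ι (show Etale _ from inferInstance)
  exact ⟨(EtOver.ofChart V.obj.hom V.property).obj V', EtOver.homMk (EtOver.homOfEtale V') rfl,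
    hO, ⟨⟨v, hvO⟩, rfl⟩⟩

/-- Every covering sieve of an affine object contains a finite affine covering. -/
theorem exists_affCover {E : EtOver X} [IsAffine E.obj.left.left] {R : Sieve E} (hR : R ∈ etTop X E) :
    ∃ C : AffCover E, ∀ k, R (C.g k) := by
  obtain ⟨R₀, hR₀, hle⟩ :=
    (Precoverage.mem_toGrothendieck_iff_of_isStableUnderComposition (J := etPre X)).1 hR
  obtain ⟨ι, V, f, rfl⟩ := R₀.exists_eq_ofArrows
  have h : ∀ x : E.obj.left.left, ∃ (W : EtOver X) (j : W ⟶ E),
      IsAffine W.obj.left.left ∧ R j ∧ x ∈ Set.range j.hom.left.left := fun x => by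
    obtain ⟨i, v, hv⟩ := (ofArrows_mem_etPre_iff V f).1 hR₀ x
    obtain ⟨W, j, hW, w, hw⟩ := exists_affine_open_obj v
    exact ⟨W, j ≫ f i, hW, R.downward_closed (hle _ _ ⟨i⟩) j, w, by
      change (f i).hom.left.left (j.hom.left.left w) = x
      rw [hw, hv]⟩
  choose W j hW hj hx using h
  have hopen : ∀ x, IsOpen (Set.range (j x).hom.left.left) := fun x => by
    have := EtOver.etale_left (j x)
    exact (j x).hom.left.left.isOpenMap.isOpen_range
  obtain ⟨t, ht⟩ := isCompact_univ.elim_finite_subcover (fun x => Set.range (j x).hom.left.left) hopen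
    fun x _ => Set.mem_iUnion.2 ⟨x, hx x⟩
  let e := t.equivFin.symm
  refine ⟨⟨t.card, fun k => W (e k).1, fun k => j (e k).1, fun k => hW _, fun x => ?_⟩, fun k => hj _⟩
  obtain ⟨x', hx', hxx'⟩ := Set.mem_iUnion₂.1 (ht (Set.mem_univ x))
  obtain ⟨k, hk⟩ := e.surjective ⟨x', hx'⟩
  obtain rfl : x' = (e k).1 := (congrArg Subtype.val hk).symm
  exact ⟨k, hxx'⟩

/-! ### Base change of sections -/

variable (M) in
/-- The restriction along `g` exhibits the sections downstairs as a base change. -/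
def IsBC {E V : EtOver X} (g : V ⟶ E) : Prop :=
  letI := (fnMap g).toAlgebra
  letI := Module.compHom (sectModEt M V) (fnMap g)
  haveI : IsScalarTower (fn E) (fn V) (sectModEt M V) :=
    IsScalarTower.of_algebraMap_smul fun _ _ => rfl
  IsBaseChange (fn V) ({ toFun := res M g, map_add' := map_add _, map_smul' := res_smul g } :
    sectModEt M E →ₗ[fn E] sectModEt M V)

theorem flat_fnMap {E V : EtOver X} (g : V ⟶ E) [IsAffine E.obj.left.left] [IsAffine V.obj.left.left] :
    (fnMap g).Flat := by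
  have : Etale g.hom.left.left := EtOver.etale_left g
  exact HasRingHomProperty.iff_of_isAffine.mp (inferInstance : Flat g.hom.left.left)

theorem AffCover.covers {E : EtOver X} [IsAffine E.obj.left.left] (C : AffCover E)
    (p : PrimeSpectrum (fn E)) :
    ∃ (k : Fin C.n) (q : PrimeSpectrum (fn (C.V k))), PrimeSpectrum.comap (fnMap (C.g k)) q = p := by
  obtain ⟨k, v, hv⟩ := C.cov (E.obj.left.left.isoSpec.inv p)
  refine ⟨k, (C.V k).obj.left.left.isoSpec.hom v, ?_⟩
  have h : (Spec.map (C.g k).hom.left.left.appTop) ((C.V k).obj.left.left.isoSpec.hom v) =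
      E.obj.left.left.isoSpec.hom ((C.g k).hom.left.left v) := by
    rw [← Scheme.Hom.comp_apply, ← Scheme.Hom.comp_apply, Scheme.isoSpec_hom_naturality]
  refine h.trans ?_
  rw [hv, ← Scheme.Hom.comp_apply, Iso.inv_hom_id]
  rfl

theorem AffCover.isFFFamily {E : EtOver X} [IsAffine E.obj.left.left] (C : AffCover E) :
    letI := fun k => (fnMap (C.g k)).toAlgebra
    Alg.IsFFFamily (A := fn E) fun k => (fn (C.V k) : Type u) := by
  letI := fun k => (fnMap (C.g k)).toAlgebra
  exact ⟨fun k => flat_fnMap (C.g k), C.covers⟩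

theorem isPushout_pullback {E₁ E₂ E : EtOver X} (g₁ : E₁ ⟶ E) (g₂ : E₂ ⟶ E)
    [IsAffine E.obj.left.left] [IsAffine E₁.obj.left.left] [IsAffine E₂.obj.left.left]
    [Algebra (fn E) (fn E₁)] [Algebra (fn E) (fn E₂)]
    [Algebra (fn E) (fn (EtOver.pullbackObj g₁ g₂))]
    [Algebra (fn E₁) (fn (EtOver.pullbackObj g₁ g₂))]
    [Algebra (fn E₂) (fn (EtOver.pullbackObj g₁ g₂))]
    [IsScalarTower (fn E) (fn E₁) (fn (EtOver.pullbackObj g₁ g₂))]
    [IsScalarTower (fn E) (fn E₂) (fn (EtOver.pullbackObj g₁ g₂))]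
    (h₁ : algebraMap (fn E) (fn E₁) = fnMap g₁) (h₂ : algebraMap (fn E) (fn E₂) = fnMap g₂)
    (h₁' : algebraMap (fn E₁) (fn (EtOver.pullbackObj g₁ g₂)) = fnMap (EtOver.pullbackFst g₁ g₂))
    (h₂' : algebraMap (fn E₂) (fn (EtOver.pullbackObj g₁ g₂)) = fnMap (EtOver.pullbackSnd g₁ g₂)) :
    Algebra.IsPushout (fn E) (fn E₁) (fn E₂) (fn (EtOver.pullbackObj g₁ g₂)) := by
  refine CommRingCat.isPushout_iff_isPushout.1 ?_
  rw [h₁, h₂, h₁', h₂']
  exact isPushout_appTop_of_isPullback (isPullback_left g₁ g₂)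

end Groth.Agent.Lib.EtMod
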