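import Groth.Agent.Lib.EtMod.Presented

/-!
# Quasi-coherent modules on the small etale site: sections over affine objects form base changes
-/

universe u

set_option backward.isDefEq.respectTransparency false
set_option linter.style.haveILetI false

open CategoryTheory CategoryTheory.Limits AlgebraicGeometry Opposite AlgSp
open TensorProduct

namespace Groth.Agent.Lib.EtMod

variable {S : Scheme.{u}} {X : Sp S}

/-- Sections over affine objects of a presented slice module form base changes. -/
theorem isBaseChange_resL {X₀ E V : EtOver X} {P : SliceMod X₀} (σ : P.Presentation) (f : E ⟶ X₀)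
    [IsAffine E.obj.left.left] [IsAffine V.obj.left.left] (g : V ⟶ E) :
    IsBaseChange (Fn g) (resL P f g) :=
  IsBaseChange.of_equiv (LinearEquiv.ofBijective (tens LinearMap.id g) (bijective_tens_presented σ g))
    fun m => (tens_tmul LinearMap.id g 1 m).trans (one_smul _ _)

/-- Over an object on which a module is presented, restriction between affine objects is a base
change. -/
theorem isBC_of_presentation {M : ModEt X} {X₀ E V : EtOver X} (σ : (M.over X₀).Presentation)
    (f : E ⟶ X₀) [IsAffine E.obj.left.left] [IsAffine V.obj.left.left] (g : V ⟶ E) : IsBC M g :=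
  isBaseChange_resL σ f g

variable (M : ModEt X) {E V U : EtOver X}

/-- Sections over an object over `E`. -/
def MSec (_g : V ⟶ E) : Type (u + 1) := sectModEt M V

noncomputable instance (g : V ⟶ E) : AddCommGroup (MSec M g) :=
  inferInstanceAs (AddCommGroup (sectModEt M V))

noncomputable instance (g : V ⟶ E) : Module (Fn g) (MSec M g) :=
  inferInstanceAs (Module (fn V) (sectModEt M V))

noncomputable instance mSecBaseModule (g : V ⟶ E) : Module (fn E) (MSec M g) :=
  Module.compHom _ (algebraMap (fn E) (Fn g))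

instance (g : V ⟶ E) : IsScalarTower (fn E) (Fn g) (MSec M g) :=
  IsScalarTower.of_algebraMap_smul fun _ _ => rfl

/-- Restriction from the base. -/
noncomputable def mResL (g : V ⟶ E) : sectModEt M E →ₗ[fn E] MSec M g where
  toFun s := res M g s
  map_add' := map_add _
  map_smul' := res_smul g

/-- Restriction between objects over the base. -/
noncomputable def mRes {W : EtOver X} (h : W ⟶ V) {g : V ⟶ E} {g' : W ⟶ E} (e : h ≫ g = g') :
    MSec M g →ₗ[fn E] MSec M g' where
  toFun s := res M h s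
  map_add' := map_add (res M h)
  map_smul' a s := by
    change res M h (fnMap g a • (show sectModEt M V from s)) = fnMap g' a • res M h (show sectModEt M V from s)
    rw [res_smul, ← fnMap_comp_apply, e]

theorem mRes_smul {W : EtOver X} (h : W ⟶ V) {g : V ⟶ E} {g' : W ⟶ E} (e : h ≫ g = g') (b : Fn g)
    (s : MSec M g) : mRes M h e (b • s) = fnHom h e b • mRes M h e s :=
  res_smul h b s

/-- Sections over the fibre product of two objects over `E`. -/
def PSec (g : V ⟶ E) (c : U ⟶ E) : Type (u + 1) := MSec M (EtOver.pullbackFst g c ≫ g)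

noncomputable instance (g : V ⟶ E) (c : U ⟶ E) : AddCommGroup (PSec M g c) :=
  inferInstanceAs (AddCommGroup (MSec M (EtOver.pullbackFst g c ≫ g)))

noncomputable instance (g : V ⟶ E) (c : U ⟶ E) : Module (fn E) (PSec M g c) :=
  inferInstanceAs (Module (fn E) (MSec M (EtOver.pullbackFst g c ≫ g)))

noncomputable instance (g : V ⟶ E) (c : U ⟶ E) : Module (Fn (EtOver.pullbackFst g c ≫ g)) (PSec M g c) :=
  inferInstanceAs (Module (Fn (EtOver.pullbackFst g c ≫ g)) (MSec M (EtOver.pullbackFst g c ≫ g)))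

noncomputable instance pSecModule (g : V ⟶ E) (c : U ⟶ E) : Module (Fn g) (PSec M g c) :=
  Module.compHom _ (fnHom (EtOver.pullbackFst g c) (rfl : EtOver.pullbackFst g c ≫ g = _)).toRingHom

theorem pSec_smul (g : V ⟶ E) (c : U ⟶ E) (b : Fn g) (q : PSec M g c) :
    b • q = fnHom (EtOver.pullbackFst g c) (rfl : EtOver.pullbackFst g c ≫ g = _) b • q :=
  rfl

instance (g : V ⟶ E) (c : U ⟶ E) : IsScalarTower (fn E) (Fn g) (PSec M g c) :=
  IsScalarTower.of_algebraMap_smul fun a q => by
    rw [pSec_smul, AlgHom.commutes]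
    rfl

/-- Restriction to the fibre product from the first factor. -/
noncomputable def toPFst (g : V ⟶ E) (c : U ⟶ E) : MSec M g →ₗ[Fn g] PSec M g c where
  toFun := mRes M (EtOver.pullbackFst g c) rfl
  map_add' := map_add _
  map_smul' := mRes_smul M (EtOver.pullbackFst g c) rfl

/-- Restriction to the fibre product from the second factor. -/
noncomputable def toPSnd (g : V ⟶ E) (c : U ⟶ E) : MSec M c →ₗ[fn E] PSec M g c :=
  mRes M (EtOver.pullbackSnd g c) (EtOver.pullback_condition g c).symm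

variable {M} in
theorem isBaseChange_toPSnd [IsAffine E.obj.left.left] [IsAffine V.obj.left.left] [IsAffine U.obj.left.left]
    (g : V ⟶ E) (c : U ⟶ E) (h : IsBC M (EtOver.pullbackSnd g c)) :
    IsBaseChange (Fn g) (toPSnd M g c) := by
  let w := EtOver.pullbackFst g c ≫ g
  let e : EtOver.pullbackSnd g c ≫ c = w := (EtOver.pullback_condition g c).symm
  letI : Algebra (Fn g) (Fn w) := (fnHom (EtOver.pullbackFst g c) (rfl : _ = w)).toRingHom.toAlgebra
  letI : Algebra (Fn c) (Fn w) := (fnHom (EtOver.pullbackSnd g c) e).toRingHom.toAlgebra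
  haveI : IsScalarTower (fn E) (Fn g) (Fn w) :=
    .of_algebraMap_eq fun a => (AlgHom.commutes (fnHom (EtOver.pullbackFst g c) (rfl : _ = w)) a).symm
  haveI : IsScalarTower (fn E) (Fn c) (Fn w) :=
    .of_algebraMap_eq fun a => (AlgHom.commutes (fnHom (EtOver.pullbackSnd g c) e) a).symm
  letI : Module (Fn c) (PSec M g c) := Module.compHom _ (algebraMap (Fn c) (Fn w))
  haveI : IsScalarTower (Fn c) (Fn w) (PSec M g c) := .of_algebraMap_smul fun _ _ => rfl
  haveI : IsScalarTower (Fn g) (Fn w) (PSec M g c) := .of_algebraMap_smul fun _ _ => rfl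
  haveI : IsScalarTower (fn E) (Fn c) (PSec M g c) := .of_algebraMap_smul fun a q => by
    change algebraMap (Fn c) (Fn w) (algebraMap (fn E) (Fn c) a) • q = _
    rw [← IsScalarTower.algebraMap_apply]
    rfl
  haveI : Algebra.IsPushout (fn E) (Fn g) (Fn c) (Fn w) :=
    CommRingCat.isPushout_iff_isPushout.1 (isPushout_appTop_of_isPullback (isPullback_left g c))
  let L : MSec M c →ₗ[Fn c] PSec M g c :=
    { toFun := toPSnd M g c
      map_add' := map_add _
      map_smul' := fun b m => mRes_smul M (EtOver.pullbackSnd g c) e b m }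
  have hL : IsBaseChange (Fn w) L := h
  have key : IsBaseChange (Fn g) (L.restrictScalars (fn E)) :=
    Alg.isBaseChange_of_pushout (A := fn E) (B := Fn g) (A' := Fn c) (B' := Fn w) hL
  have e : L.restrictScalars (fn E) = toPSnd M g c := LinearMap.ext fun _ => rfl
  exact e ▸ key

theorem exists_pullbackFst_preimage (g : V ⟶ E) (c : U ⟶ E) {v : V.obj.left.left}
    (hv : g.hom.left.left v ∈ Set.range c.hom.left.left) :
    v ∈ Set.range (EtOver.pullbackFst g c).hom.left.left := by
  obtain ⟨x, hx⟩ := hv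
  obtain ⟨z, hz, -⟩ := Scheme.Pullback.exists_preimage_pullback v x hx.symm
  exact ⟨(isPullback_left g c).isoPullback.inv z, by
    rw [← Scheme.Hom.comp_apply, IsPullback.isoPullback_inv_fst, hz]⟩

/-- Restriction between two fibre products over `g`. -/
noncomputable def pHom {U' : EtOver X} (g : V ⟶ E) {c : U ⟶ E} {c' : U' ⟶ E}
    (q : EtOver.pullbackObj g c' ⟶ EtOver.pullbackObj g c)
    (hq : q ≫ EtOver.pullbackFst g c = EtOver.pullbackFst g c') : PSec M g c →ₗ[Fn g] PSec M g c' where
  toFun := mRes M q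
    (show q ≫ EtOver.pullbackFst g c ≫ g = EtOver.pullbackFst g c' ≫ g by rw [← Category.assoc, hq])
  map_add' := map_add _
  map_smul' b s := by
    have h : fnHom q (show q ≫ EtOver.pullbackFst g c ≫ g = EtOver.pullbackFst g c' ≫ g by
        rw [← Category.assoc, hq]) (fnHom (EtOver.pullbackFst g c) rfl b) =
        fnHom (EtOver.pullbackFst g c') (rfl : EtOver.pullbackFst g c' ≫ g = _) b := by
      simp only [fnHom_apply]
      rw [← fnMap_comp_apply, hq]
    exact (mRes_smul M q _ _ s).trans (congrArg (· • _) h)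

theorem pHom_toPFst {U' : EtOver X} (g : V ⟶ E) {c : U ⟶ E} {c' : U' ⟶ E}
    (q : EtOver.pullbackObj g c' ⟶ EtOver.pullbackObj g c)
    (hq : q ≫ EtOver.pullbackFst g c = EtOver.pullbackFst g c') (t : MSec M g) :
    pHom M g q hq (toPFst M g c t) = toPFst M g c' t :=
  (res_comp_apply (M := M) q (EtOver.pullbackFst g c) t).symm.trans (congrArg (fun k => res M k t) hq)

theorem pHom_toPSnd {U' : EtOver X} (g : V ⟶ E) {c : U ⟶ E} {c' : U' ⟶ E}
    (q : EtOver.pullbackObj g c' ⟶ EtOver.pullbackObj g c)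
    (hq : q ≫ EtOver.pullbackFst g c = EtOver.pullbackFst g c') (o : U' ⟶ U) (ho : o ≫ c = c')
    (hs : q ≫ EtOver.pullbackSnd g c = EtOver.pullbackSnd g c' ≫ o) (t : MSec M c) :
    pHom M g q hq (toPSnd M g c t) = toPSnd M g c' (mRes M o ho t) :=
  res_res_eq (M := M) _ _ _ _ hs t

variable {M}

/-- Restriction between affine objects is a base change when it is one on the members of a
covering. -/
theorem isBC_of_affCover [IsAffine E.obj.left.left] [IsAffine V.obj.left.left] (C : AffCover E)
    (hC : ∀ k ⦃U W : EtOver X⦄ [IsAffine U.obj.left.left] [IsAffine W.obj.left.left],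
      (U ⟶ C.V k) → ∀ h : W ⟶ U, IsBC M h)
    (g : V ⟶ E) : IsBC M g := by
  let O := fun p : Fin C.n × Fin C.n => EtOver.pullbackObj (C.g p.1) (C.g p.2)
  let o : ∀ p, O p ⟶ E := fun p => EtOver.pullbackFst (C.g p.1) (C.g p.2) ≫ C.g p.1
  let o₁ : ∀ p, O p ⟶ C.V p.1 := fun p => EtOver.pullbackFst (C.g p.1) (C.g p.2)
  let o₂ : ∀ p, O p ⟶ C.V p.2 := fun p => EtOver.pullbackSnd (C.g p.1) (C.g p.2)
  have e₁ : ∀ p, o₁ p ≫ C.g p.1 = o p := fun p => rfl
  have e₂ : ∀ p, o₂ p ≫ C.g p.2 = o p := fun p => (EtOver.pullback_condition _ _).symm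
  let q₁ : ∀ p, EtOver.pullbackObj g (o p) ⟶ EtOver.pullbackObj g (C.g p.1) := fun p =>
    (EtOver.pullbackIsLimit g (C.g p.1)).lift (PullbackCone.mk (EtOver.pullbackFst g (o p))
      (EtOver.pullbackSnd g (o p) ≫ o₁ p) (by rw [Category.assoc, e₁]; exact EtOver.pullback_condition _ _))
  let q₂ : ∀ p, EtOver.pullbackObj g (o p) ⟶ EtOver.pullbackObj g (C.g p.2) := fun p =>
    (EtOver.pullbackIsLimit g (C.g p.2)).lift (PullbackCone.mk (EtOver.pullbackFst g (o p))
      (EtOver.pullbackSnd g (o p) ≫ o₂ p) (by rw [Category.assoc, e₂]; exact EtOver.pullback_condition _ _))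
  have q₁f : ∀ p, q₁ p ≫ EtOver.pullbackFst g (C.g p.1) = EtOver.pullbackFst g (o p) := fun p =>
    (EtOver.pullbackIsLimit g (C.g p.1)).fac _ WalkingCospan.left
  have q₁s : ∀ p, q₁ p ≫ EtOver.pullbackSnd g (C.g p.1) = EtOver.pullbackSnd g (o p) ≫ o₁ p := fun p =>
    (EtOver.pullbackIsLimit g (C.g p.1)).fac _ WalkingCospan.right
  have q₂f : ∀ p, q₂ p ≫ EtOver.pullbackFst g (C.g p.2) = EtOver.pullbackFst g (o p) := fun p =>
    (EtOver.pullbackIsLimit g (C.g p.2)).fac _ WalkingCospan.left
  have q₂s : ∀ p, q₂ p ≫ EtOver.pullbackSnd g (C.g p.2) = EtOver.pullbackSnd g (o p) ≫ o₂ p := fun p =>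
    (EtOver.pullbackIsLimit g (C.g p.2)).fac _ WalkingCospan.right
  let d₁ : ∀ p : Fin C.n × Fin C.n, MSec M (C.g p.1) →ₗ[fn E] MSec M (o p) := fun p => mRes M (o₁ p) (e₁ p)
  let d₂ : ∀ p : Fin C.n × Fin C.n, MSec M (C.g p.2) →ₗ[fn E] MSec M (o p) := fun p => mRes M (o₂ p) (e₂ p)
  let d₁' : ∀ p : Fin C.n × Fin C.n, PSec M g (C.g p.1) →ₗ[Fn g] PSec M g (o p) := fun p =>
    pHom M g (U := C.V p.1) (U' := O p) (c := C.g p.1) (c' := o p) (q₁ p) (q₁f p)
  let d₂' : ∀ p : Fin C.n × Fin C.n, PSec M g (C.g p.2) →ₗ[Fn g] PSec M g (o p) := fun p =>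
    pHom M g (U := C.V p.2) (U' := O p) (c := C.g p.2) (c' := o p) (q₂ p) (q₂f p)
  haveI := flat_fn g
  have h₁ := IsBaseChange.pi (S := Fn g) (fun k => toPSnd M g (C.g k))
    fun k => isBaseChange_toPSnd g (C.g k) (hC k (𝟙 _) _)
  have h₂ := IsBaseChange.pi (S := Fn g) (fun p => toPSnd M g (o p))
    fun p => isBaseChange_toPSnd g (o p) (hC p.1 (o₁ p) _)
  suffices key : IsBaseChange (Fn g) (mResL M g) by exact key
  refine Alg.isBaseChange_of_exact (B := Fn g) (f₀ := mResL M g) h₁ h₂
    (r := LinearMap.pi fun k => mResL M (C.g k))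
    (d := LinearMap.pi fun p => (d₁ p).comp (LinearMap.proj p.1) - (d₂ p).comp (LinearMap.proj p.2))
    ?_ ?_
    (s := LinearMap.pi fun k => toPFst M g (C.g k))
    (d' := LinearMap.pi fun p => (d₁' p).comp (LinearMap.proj p.1) - (d₂' p).comp (LinearMap.proj p.2))
    ?_ ?_ ?_ ?_
  · exact fun s t hst => eq_of_cover C.V C.g C.cov fun k => congrFun hst k
  · refine fun x => ⟨fun hx => ?_, ?_⟩
    · obtain ⟨t, ht⟩ := exists_glue C.V C.g C.cov x fun i j => sub_eq_zero.1 (congrFun hx (i, j))
      exact ⟨t, funext ht⟩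
    · rintro ⟨t, rfl⟩
      exact funext fun p => sub_eq_zero.2 (res_res_eq (C.g p.1) (C.g p.2) _ _ (e₂ p).symm t)
  · exact fun s t hst => eq_of_cover _ (fun k => EtOver.pullbackFst g (C.g k))
      (fun v => (C.cov (g.hom.left.left v)).imp fun k hk => exists_pullbackFst_preimage g (C.g k) hk)
      fun k => congrFun hst k
  · exact fun t => funext fun p => sub_eq_zero.2
      ((pHom_toPFst M g (q₁ p) (q₁f p) t).trans (pHom_toPFst M g (q₂ p) (q₂f p) t).symm)
  · exact fun t => funext fun k => res_res_eq _ _ _ _ (EtOver.pullback_condition g (C.g k)) t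
  · exact fun t => funext fun p => (congrArg₂ (· - ·)
      (pHom_toPSnd M g (q₁ p) (q₁f p) (o₁ p) (e₁ p) (q₁s p) (t p.1))
      (pHom_toPSnd M g (q₂ p) (q₂f p) (o₂ p) (e₂ p) (q₂s p) (t p.2))).trans (map_sub _ _ _).symm

variable (M)

/-- Restriction between affine objects is a base change. -/
def IsCart : Prop :=
  ∀ ⦃E V : EtOver X⦄ [IsAffine E.obj.left.left] [IsAffine V.obj.left.left] (g : V ⟶ E), IsBC M g

/-- The sections of a quasi-coherent module over affine objects of the site form base changes. -/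
theorem isCart_of_isQuasicoherent [M.IsQuasicoherent] : IsCart M := by
  intro E V _ _ g
  obtain ⟨q⟩ := SheafOfModules.IsQuasicoherent.nonempty_quasicoherentData (M := M)
  obtain ⟨C, hC⟩ := exists_affCover (q.coversTop E)
  refine isBC_of_affCover C (fun k U W _ _ a h => ?_) g
  obtain ⟨i, ⟨b⟩⟩ := (Sieve.mem_ofObjects_iff ..).mp (hC k)
  exact isBC_of_presentation (q.presentation i) (a ≫ b) h

end Groth.Agent.Lib.EtMod
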