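import Groth.Agent.Lib.EtMod.Coherent
import Mathlib.RingTheory.Ideal.AssociatedPrime.Finiteness
import Mathlib.RingTheory.Ideal.AssociatedPrime.Localization

/-!
# Finiteness of associated points
-/

universe u

set_option backward.isDefEq.respectTransparency false

open CategoryTheory CategoryTheory.Limits AlgebraicGeometry Opposite AlgSp
open Groth.Agent.Lib.EtMod.WeakAssAlg

namespace Groth.Agent.Lib.EtMod

theorem finite_setOf_isWA {A : Type*} [CommRing A] [IsNoetherianRing A] {N : Type*} [AddCommGroup N]
    [Module A N] [Module.Finite A N] : {p : Ideal A | IsWA N p}.Finite := by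
  refine (associatedPrimes.finite A N).subset fun p ⟨x, hx⟩ => ?_
  let f : (A ⧸ Ann (A := A) x) →ₗ[A] N :=
    (Ann (A := A) x).liftQ (LinearMap.toSpanSingleton A N x) le_rfl
  have hf : Function.Injective f :=
    LinearMap.ker_eq_bot.1 (Submodule.ker_liftQ_eq_bot _ _ _ le_rfl)
  refine associatedPrimes.subset_of_injective hf
    (Module.associatedPrimes.minimalPrimes_annihilator_subset_associatedPrimes A _ ?_)
  rwa [Ideal.annihilator_quotient]

theorem primeAtPt_injective {U : Scheme.{u}} [IsAffine U] : Function.Injective (primeAtPt U) := by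
  intro v w h
  rw [primeAtPt_eq, primeAtPt_eq] at h
  have := congrArg (isAffineOpen_top U).fromSpec (PrimeSpectrum.ext h)
  rwa [(isAffineOpen_top U).fromSpec_primeIdealOf, (isAffineOpen_top U).fromSpec_primeIdealOf] at this

variable {S : Scheme.{u}} {X : Sp S}

/-- Associated points of a coherent module in a quasi-compact open subset are finite in number. -/
theorem finite_weakAssEt_inter (hXa : IsAlgSpace X) (hX : IsLocNoethSp X) {M : ModEt X} (hM : IsCart M)
    (hfin : ∀ (E : EtOver X) [IsAffine E.obj.left.left], Module.Finite (fn E) (sectModEt M E))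
    (W : Set (Points X)) (hWc : IsCompact W) : (WeakAssEt M ∩ W).Finite := by
  choose E hE u hu using fun x : Points X => exists_affine_point hXa x
  obtain ⟨t, ht⟩ := hWc.elim_finite_subcover (fun x => Set.range (Points.ofPt (E x).obj.hom))
    (fun x => Groth.Agent.Lib.AlgSpDecent.Core.isOpen_range_ofPt (E x).property)
    (fun x _ => Set.mem_iUnion.2 ⟨x, u x, hu x⟩)
  have h : ∀ x, (WeakAssEt M ∩ Set.range (Points.ofPt (E x).obj.hom)).Finite := fun x => by
    have := hE x
    have := isNoetherianRing_fn hX (E x)
    have := hfin (E x)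
    have hfu : {v : (E x).obj.left.left | IsWeakAssOn M (E x) v}.Finite :=
      Set.Finite.preimage (f := primeAtPt (E x).obj.left.left)
        (s := {p : Ideal (fn (E x)) | IsWA (sectModEt M (E x)) p}) primeAtPt_injective.injOn finite_setOf_isWA
    refine (hfu.image (Points.ofPt (E x).obj.hom)).subset ?_
    rintro y ⟨hy, v, rfl⟩
    exact ⟨v, (mem_weakAssEt_iff hM (E x) v).1 hy, rfl⟩
  refine ((t.finite_toSet.biUnion fun x _ => h x)).subset fun y ⟨hy, hyW⟩ => ?_
  obtain ⟨x, hx, hv⟩ := Set.mem_iUnion₂.1 (ht hyW)
  exact Set.mem_biUnion hx ⟨hy, hv⟩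

end Groth.Agent.Lib.EtMod
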