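import Groth.Agent.Lib.EtMod.Coherent
import Groth.Agent.Lib.EtMod.WeakAssFinite
import Mathlib.RingTheory.Ideal.MinimalPrime.Localization

/-!
# Direct images of modules along affine morphisms
-/

universe u

set_option backward.isDefEq.respectTransparency false

open CategoryTheory CategoryTheory.Limits AlgebraicGeometry Opposite AlgSp

namespace Groth.Agent.Lib.EtMod

/-- A semilinear map exhibiting a base change. -/
def BCProp {A B : Type u} [CommRing A] [CommRing B] (g : A →+* B) {P Q : Type (u + 1)} [AddCommGroup P]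
    [AddCommGroup Q] [Module A P] [Module B Q] (r : P →+ Q) (hr : ∀ a p, r (a • p) = g a • r p) : Prop :=
  letI := g.toAlgebra
  letI := Module.compHom Q g
  haveI : IsScalarTower A B Q := IsScalarTower.of_algebraMap_smul fun _ _ => rfl
  IsBaseChange B ({ toFun := r, map_add' := map_add _, map_smul' := hr } : P →ₗ[A] Q)

/-- Base changes along a pushout square. -/
theorem bcProp_of_pushout {A B A' B' : Type u} [CommRing A] [CommRing B] [CommRing A'] [CommRing B']
    (g : A →+* B) (π : A →+* A') (π' : B →+* B') (g' : A' →+* B')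
    (po : IsPushout (CommRingCat.ofHom g) (CommRingCat.ofHom π) (CommRingCat.ofHom π') (CommRingCat.ofHom g'))
    {P Q : Type (u + 1)} [AddCommGroup P] [AddCommGroup Q] [Module A' P] [Module B' Q] [iA : Module A P]
    [iB : Module B Q] (hP : ∀ (a : A) (p : P), a • p = π a • p) (hQ : ∀ (b : B) (q : Q), b • q = π' b • q)
    (r : P →+ Q) (hr : ∀ a p, r (a • p) = g' a • r p) (hr' : ∀ a p, r (a • p) = g a • r p)
    (h : BCProp g' r hr) : BCProp g r hr' := by
  have hcomm : ∀ a, π' (g a) = g' (π a) := fun a => congrArg (fun k => k.hom a) po.w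
  let := g.toAlgebra
  let := π.toAlgebra
  let := π'.toAlgebra
  let := g'.toAlgebra
  let := (π'.comp g).toAlgebra
  let := Module.compHom Q g
  let := Module.compHom Q g'
  have : IsScalarTower A B B' := .of_algebraMap_eq fun _ => rfl
  have : IsScalarTower A A' B' := .of_algebraMap_eq hcomm
  have : Algebra.IsPushout A B A' B' := CommRingCat.isPushout_iff_isPushout.1 po
  have : IsScalarTower A A' P := .of_algebraMap_smul fun a p => (hP a p).symm
  have : IsScalarTower A B Q := .of_algebraMap_smul fun _ _ => rfl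
  have : IsScalarTower B B' Q := .of_algebraMap_smul fun b q => (hQ b q).symm
  have : IsScalarTower A' B' Q := .of_algebraMap_smul fun _ _ => rfl
  have : IsScalarTower A A' Q := .of_algebraMap_smul fun a q => by
    change g' (π a) • q = g a • q
    rw [hQ, hcomm]
  let F : P →ₗ[A'] Q := { toFun := r, map_add' := map_add _, map_smul' := hr }
  have h' : IsBaseChange B' F := h
  have h2 : IsBaseChange B (F.restrictScalars A) :=
    Alg.isBaseChange_of_pushout (A := A) (B := B) (A' := A') (B' := B') h'
  exact h2

variable {S : Scheme.{u}} {X Y : Sp S} {f : X ⟶ Y} (hf : Representable f)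

/-- The object over `X` pulled back from an object over `Y`. -/
noncomputable abbrev bcE (E : EtOver Y) : EtOver X := (EtOver.bc hf).obj E

/-- The projection from a base change. -/
noncomputable abbrev bcP (E : EtOver Y) : (bcE hf E).obj.left.left ⟶ E.obj.left.left :=
  (hf.snd E.obj.hom).left

/-- Functions pulled back to the base change. -/
noncomputable abbrev πfn (E : EtOver Y) : fn E →+* fn (bcE hf E) := (bcP hf E).appTop.hom

variable (M : ModEt X)

/-- The direct image. -/
noncomputable abbrev pushM : ModEt Y := (pushModEt hf).obj M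

theorem push_smul (E : EtOver Y) (a : fn E) (s : sectModEt M (bcE hf E)) :
    HSMul.hSMul (β := sectModEt (pushM hf M) E) a s = (πfn hf E a • s : sectModEt M (bcE hf E)) :=
  rfl

theorem push_res {E V : EtOver Y} (g : V ⟶ E) (s : sectModEt M (bcE hf E)) :
    res (pushM hf M) g s = res M ((EtOver.bc hf).map g) s :=
  rfl

theorem annSect_push (E : EtOver Y) (s : sectModEt M (bcE hf E)) :
    annSect (M := pushM hf M) (E := E) s = (annSect (M := M) (E := bcE hf E) s).comap (πfn hf E) :=
  Ideal.ext fun _ => Iff.rfl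

theorem isPullback_bc {E V : EtOver Y} (g : V ⟶ E) :
    IsPullback ((EtOver.bc hf).map g).hom.left.left (bcP hf V) (bcP hf E) g.hom.left.left :=
  EtOver.isPullback_bcMap_left hf g

/-- Base changes of affine objects along affine morphisms are affine. -/
theorem isAffine_bcE (haff : IsAffineMor f) (E : EtOver Y) [IsAffine E.obj.left.left] :
    IsAffine (bcE hf E).obj.left.left := by
  obtain ⟨W, i, fst, h, hW⟩ := haff (Z := E.obj.left) inferInstance E.obj.hom
  haveI := hW
  let e : (yon S).obj (hf.pullback E.obj.hom) ≅ (yon S).obj W :=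
    (EtOver.isPullback_bcObj hf E).isoIsPullback _ _ h
  let e' : (bcE hf E).obj.left ≅ W := (yon S).preimageIso e
  haveI : IsAffine ((Over.forget S).obj W) := hW
  exact IsAffine.of_isIso ((Over.forget S).mapIso e').hom

/-- The point of a base change. -/
theorem map_ofPt_bcE (E : EtOver Y) (w : (bcE hf E).obj.left.left) :
    Points.map f (Points.ofPt (bcE hf E).obj.hom w) = Points.ofPt E.obj.hom (bcP hf E w) := by
  refine (Points.map_ofPt _ _ _).trans (Eq.trans ?_
    (Groth.Agent.Lib.AlgSpDecent.Core.ofPt_map_comp (hf.snd E.obj.hom) E.obj.hom w))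
  exact congrArg (fun k => Points.ofPt k w) (EtOver.isPullback_bcObj hf E).w

/-- Functions act on sections over the base change. -/
@[instance_reducible]
noncomputable def bcModule (E : EtOver Y) : Module (fn E) (sectModEt M (bcE hf E)) :=
  Module.compHom _ (πfn hf E)

theorem bc_res_smul {E V : EtOver Y} (g : V ⟶ E)
    (po : IsPushout (CommRingCat.ofHom (fnMap g)) (CommRingCat.ofHom (πfn hf E))
      (CommRingCat.ofHom (πfn hf V)) (CommRingCat.ofHom (fnMap ((EtOver.bc hf).map g))))
    (a : fn E) (s : sectModEt M (bcE hf E)) :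
    res M ((EtOver.bc hf).map g) ((bcModule hf M E).smul a s) =
      (bcModule hf M V).smul (fnMap g a) (res M ((EtOver.bc hf).map g) s) := by
  refine (res_smul _ (πfn hf E a) s).trans ?_
  exact congrArg (· • res M ((EtOver.bc hf).map g) s) (congrArg (fun k => k.hom a) po.w).symm

variable {M}

theorem bcProp_bc {E V : EtOver Y} (g : V ⟶ E)
    (po : IsPushout (CommRingCat.ofHom (fnMap g)) (CommRingCat.ofHom (πfn hf E))
      (CommRingCat.ofHom (πfn hf V)) (CommRingCat.ofHom (fnMap ((EtOver.bc hf).map g))))
    (h : IsBC M ((EtOver.bc hf).map g)) :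
    @BCProp _ _ _ _ (fnMap g) _ _ _ _ (bcModule hf M E) (bcModule hf M V) (res M ((EtOver.bc hf).map g))
      (bc_res_smul hf M g po) :=
  let := bcModule hf M E
  let := bcModule hf M V
  bcProp_of_pushout (fnMap g) (πfn hf E) (πfn hf V) (fnMap ((EtOver.bc hf).map g)) po
    (fun _ _ => rfl) (fun _ _ => rfl) _ (res_smul _) _ h

theorem isBC_push {E V : EtOver Y} (g : V ⟶ E)
    (po : IsPushout (CommRingCat.ofHom (fnMap g)) (CommRingCat.ofHom (πfn hf E))
      (CommRingCat.ofHom (πfn hf V)) (CommRingCat.ofHom (fnMap ((EtOver.bc hf).map g))))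
    (h : IsBC M ((EtOver.bc hf).map g)) : IsBC (pushM hf M) g :=
  bcProp_bc hf g po h

/-- The direct image along an affine morphism is cartesian. -/
theorem isCart_push (haff : IsAffineMor f) (hM : IsCart M) : IsCart (pushM hf M) := by
  intro E V _ _ g
  haveI := isAffine_bcE hf haff E
  haveI := isAffine_bcE hf haff V
  exact isBC_push hf g (isPushout_appTop_of_isPullback (isPullback_bc hf g).flip) (hM _)

/-- A weakly associated point downstairs comes from one upstairs. -/
theorem exists_isWeakAssOn_bcE (haff : IsAffineMor f) (E : EtOver Y) [IsAffine E.obj.left.left]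
    [IsAffine (bcE hf E).obj.left.left] (u : E.obj.left.left) (h : IsWeakAssOn (pushM hf M) E u) :
    ∃ w : (bcE hf E).obj.left.left, IsWeakAssOn M (bcE hf E) w ∧ bcP hf E w = u := by
  obtain ⟨s, hs⟩ := h
  have hs' := (annSect_push hf M E s) ▸ hs
  obtain ⟨q, hq, hqu⟩ := Ideal.exists_minimalPrimes_comap_eq (πfn hf E) _ hs'
  have := hq.1.1
  obtain ⟨w, hw⟩ := exists_primeAtPt_eq q
  subst hw
  exact ⟨w, ⟨s, hq⟩, primeAtPt_injective ((primeAtPt_comap (bcP hf E) w).symm.trans hqu)⟩

/-- Weakly associated points of the direct image lie in the image. -/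
theorem weakAssEt_push_subset (haff : IsAffineMor f) :
    WeakAssEt (pushM hf M) ⊆ Points.map f '' WeakAssEt M := by
  rintro x ⟨E, hE, u, hx, hu⟩
  have := isAffine_bcE hf haff E
  obtain ⟨w, hw, hwu⟩ := exists_isWeakAssOn_bcE hf haff E u hu
  exact ⟨_, ⟨bcE hf E, this, w, rfl, hw⟩, (map_ofPt_bcE hf E w).trans (hwu ▸ hx)⟩

end Groth.Agent.Lib.EtMod
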