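import Groth.Agent.Lib.EtMod.Exact

/-!
# Colimits of quasi-coherent modules on the small etale site
-/

universe u

set_option backward.isDefEq.respectTransparency false
set_option linter.style.haveILetI false

open CategoryTheory CategoryTheory.Limits AlgebraicGeometry Opposite AlgSp
open TensorProduct DirectSum

namespace Groth.Agent.Lib.EtMod

variable {S : Scheme.{u}} {X : Sp S}

/-- A module receiving jointly generating maps: sections are locally sums of images. -/
theorem exists_local_mem_iSup {ι : Type (u + 1)} (D : ι → ModEt X) [HasCoproduct D] {V : EtOver X}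
    (m : sectModEt (∐ D) V) :
    ∃ R ∈ etTop X V, ∀ ⦃W : EtOver X⦄ (k : W ⟶ V), R k →
      res (∐ D) k m ∈ ⨆ i, LinearMap.range (secMap (Sigma.ι D i) W) := by
  let Q : (∐ D).val.Submodule :=
    { obj := fun V => ⨆ i, LinearMap.range ((Sigma.ι D i).val.app V).hom
      map := fun {V W} g => by
        refine iSup_le fun i => ?_
        rintro _ ⟨x, rfl⟩
        exact Submodule.mem_iSup_of_mem i
          ⟨(D i).val.map g x, PresheafOfModules.naturality_apply (Sigma.ι D i).val g x⟩ }
  let f : ∀ i, D i ⟶ SubSheaf.closureSheaf Q := fun i => ⟨PresheafOfModules.homMk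
    { app := fun Y => AddCommGrpCat.ofHom
        { toFun := fun x => ⟨(Sigma.ι D i).val.app Y x,
            SubSheaf.le_closure Q Y (Submodule.mem_iSup_of_mem i ⟨x, rfl⟩)⟩
          map_zero' := Subtype.ext (map_zero ((Sigma.ι D i).val.app Y).hom)
          map_add' := fun a b => Subtype.ext (map_add ((Sigma.ι D i).val.app Y).hom a b) }
      naturality := fun Y Y' g => by
        ext x
        exact Subtype.ext (PresheafOfModules.naturality_apply (Sigma.ι D i).val g x) }
    (fun Y r x => Subtype.ext (map_smul ((Sigma.ι D i).val.app Y).hom r x))⟩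
  have hf : Sigma.desc f ≫ SubSheaf.closureι Q = 𝟙 (∐ D) := Sigma.hom_ext _ _ fun i => by
    rw [← Category.assoc, Sigma.ι_desc, Category.comp_id]
    exact SheafOfModules.hom_ext (PresheafOfModules.hom_ext fun Y => by ext x; rfl)
  refine ⟨_, SubSheaf.mem_closure_of_epi (𝟙 (∐ D)) Q (Sigma.desc f) hf m, fun W k hk => ?_⟩
  have hle : ∀ x, x ∈ ⨆ i, LinearMap.range ((Sigma.ι D i).val.app (op W)).hom →
      x ∈ ⨆ i, LinearMap.range (secMap (Sigma.ι D i) W) := fun x hx => by
    refine Submodule.iSup_induction _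
      (motive := fun x => (x : sectModEt (∐ D) W) ∈ ⨆ i, LinearMap.range (secMap (Sigma.ι D i) W))
      hx ?_ (Submodule.zero_mem _) fun a b ha hb => Submodule.add_mem _ ha hb
    rintro i _ ⟨y, rfl⟩
    exact Submodule.mem_iSup_of_mem i ⟨y, rfl⟩
  exact hle _ hk

section Coproduct

variable {X₀ E : EtOver X} {f : E ⟶ X₀} {ι : Type (u + 1)} {P : SliceMod X₀} {D : ι → SliceMod X₀}

/-- The comparison for a coproduct, on a slice. -/
theorem bijective_tens_of_sigma [DecidableEq ι] [IsAffine E.obj.left.left] (inj : ∀ i, D i ⟶ P) (pr : ∀ i, P ⟶ D i)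
    (hpr : ∀ i (x : SSec (D i) f), sMap (pr i) f (sMap (inj i) f x) = x)
    (hpr' : ∀ i j (x : SSec (D j) f), j ≠ i → sMap (pr i) f (sMap (inj j) f x) = 0)
    (hD : ∀ i ⦃V : EtOver X⦄ [IsAffine V.obj.left.left] (g : V ⟶ E),
      Function.Bijective (tens (LinearMap.id : SSec (D i) f →ₗ[fn E] SSec (D i) f) g))
    (hsurj : ∀ ⦃V : EtOver X⦄ (g : V ⟶ E) (m : Sec P f g), ∃ R ∈ etTop X V,
      ∀ ⦃W : EtOver X⦄ (k : W ⟶ V), R k →
        secHom P f k rfl m ∈ ⨆ i, LinearMap.range (secS (inj i) f (k ≫ g))) :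
    ∀ ⦃V : EtOver X⦄ [IsAffine V.obj.left.left] (g : V ⟶ E),
      Function.Bijective (tens (LinearMap.id : SSec P f →ₗ[fn E] SSec P f) g) := by
  let θ := DirectSum.toModule (fn E) ι (SSec P f) fun i => sMap (inj i) f
  have hproj : ∀ i, (sMap (pr i) f).comp θ = DirectSum.component (fn E) ι (fun i => SSec (D i) f) i := by
    intro i
    refine DirectSum.linearMap_ext _ fun j => LinearMap.ext fun x => ?_
    rw [LinearMap.comp_apply, LinearMap.comp_apply, DirectSum.toModule_lof, LinearMap.comp_apply]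
    by_cases h : j = i
    · subst h
      rw [hpr, DirectSum.component.lof_self]
    · rw [hpr' i j x h, DirectSum.component.of, dif_neg h]
  refine (bijective_tens_id_of_bijective θ ?_).1
  refine bijective_tens θ (fun V _ g z hz => ⟨⊤, (etTop X).top_mem _, fun W _ k _ => ?_⟩) (fun V _ g m => ?_)
  · suffices h : z = 0 by rw [h, map_zero]
    refine (TensorProduct.directSumRight (fn E) (fn E) (Fn g) fun i => SSec (D i) f).injective ?_
    rw [map_zero]
    refine DirectSum.ext_component (fn E) fun i => ?_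
    rw [map_zero]
    have h0 : (DirectSum.component (fn E) ι (fun i => SSec (D i) f) i).lTensor (Fn g) z = 0 := by
      refine (hD i g).1 ?_
      rw [tens_lTensor, LinearMap.id_comp, ← hproj, tens_sMap, hz, map_zero, map_zero]
    rw [← h0]
    clear hz h0
    induction z using TensorProduct.induction_on with
    | zero => simp
    | tmul b n =>
      induction n using DirectSum.induction_on with
      | zero => simp
      | of j x =>
        rw [← DirectSum.lof_eq_of (fn E), TensorProduct.directSumRight_tmul_lof, LinearMap.lTensor_tmul]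
        by_cases h : j = i
        · subst h; simp
        · simp [DirectSum.component.of, dif_neg h]
      | add x y hx hy => simp only [tmul_add, map_add, hx, hy]
    | add x y hx hy => simp only [map_add, hx, hy]
  · obtain ⟨R, hR, h⟩ := hsurj g m
    refine ⟨R, hR, fun W _ k hk => ?_⟩
    suffices H : ∀ y ∈ ⨆ i, LinearMap.range (secS (inj i) f (k ≫ g)), ∃ z, tens θ (k ≫ g) z = y from
      H _ (h k hk)
    intro y hy
    refine Submodule.iSup_induction _ (motive := fun y => ∃ z, tens θ (k ≫ g) z = y) hy ?_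
      ⟨0, map_zero _⟩ ?_
    · rintro i _ ⟨x, rfl⟩
      obtain ⟨z, rfl⟩ := (hD i (k ≫ g)).2 x
      refine ⟨(DirectSum.lof (fn E) ι (fun i => SSec (D i) f) i).lTensor _ z, ?_⟩
      rw [tens_lTensor, show θ.comp (DirectSum.lof (fn E) ι _ i) = sMap (inj i) f from
        LinearMap.ext fun x => by simp [θ], ← tens_sMap, LinearMap.comp_id]
    · rintro a b ⟨z, rfl⟩ ⟨z', rfl⟩
      exact ⟨z + z', map_add _ _ _⟩

end Coproduct

set_option maxHeartbeats 1000000 in
/-- A module decomposed by injections and projections, locally spanned by the injections. -/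
theorem isCart_of_sigma_data {ι : Type (u + 1)} [DecidableEq ι] {D : ι → ModEt X} {Z : ModEt X}
    (inj : ∀ i, D i ⟶ Z) (pr : ∀ i, Z ⟶ D i)
    (h1 : ∀ i (E : EtOver X) (x : sectModEt (D i) E), secMap (pr i) E (secMap (inj i) E x) = x)
    (h2 : ∀ i j (E : EtOver X) (x : sectModEt (D j) E), j ≠ i → secMap (pr i) E (secMap (inj j) E x) = 0)
    (h3 : ∀ (W : EtOver X) (m : sectModEt Z W), ∃ R ∈ etTop X W,
      ∀ ⦃T : EtOver X⦄ (k : T ⟶ W), R k → res Z k m ∈ ⨆ i, LinearMap.range (secMap (inj i) T))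
    (hD : ∀ i, IsCart (D i)) : IsCart Z := by
  intro E V _ _ g
  have hb := bijective_tens_of_sigma (X₀ := E) (f := 𝟙 E) (D := fun i => (D i).over E) (P := Z.over E)
    (fun i => (inj i).over E) (fun i => (pr i).over E) (fun i => h1 i E) (fun i j => h2 i j E)
    (fun i _ _ g => bijective_tens_of_isCart (hD i) g) (fun W _ m => h3 W m)
  exact isBC_of_bijective_tens g (hb g)

/-- Coproducts of quasi-coherent modules. -/
theorem isCart_sigma {ι : Type (u + 1)} (D : ι → ModEt X) [HasCoproduct D] (hD : ∀ i, IsCart (D i)) :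
    IsCart (∐ D) := by
  classical
  let pr : ∀ i, (∐ D) ⟶ D i := fun i =>
    Sigma.desc fun j => if h : j = i then eqToHom (congrArg D h) else 0
  have e1 : ∀ i, Sigma.ι D i ≫ pr i = 𝟙 (D i) := fun i => by simp [pr]
  have e2 : ∀ i j, j ≠ i → Sigma.ι D j ≫ pr i = 0 := fun i j h => by simp [pr, h]
  refine isCart_of_sigma_data (Sigma.ι D) pr ?_ ?_ (fun W m => exists_local_mem_iSup D m) hD
  · exact fun i E x => congrArg (fun φ : D i ⟶ D i => φ.val.app (op E) x) (e1 i)
  · exact fun i j E x h => congrArg (fun φ : D j ⟶ D i => φ.val.app (op E) x) (e2 i j h)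

/-- Colimits of quasi-coherent modules. -/
theorem isCart_colimit {J : Type u} [SmallCategory J] (D : J ⥤ ModEt X) [HasColimit D]
    (hD : ∀ j, IsCart (D.obj j)) : IsCart (colimit D) := by
  let A := ULift.{u + 1} (Σ p : J × J, p.1 ⟶ p.2)
  let O := fun j : ULift.{u + 1} J => D.obj j.down
  let δ : (∐ fun a : A => D.obj a.down.1.1) ⟶ ∐ O :=
    Sigma.desc fun a => Sigma.ι O ⟨a.down.1.1⟩ - D.map a.down.2 ≫ Sigma.ι O ⟨a.down.1.2⟩
  let p : (∐ O) ⟶ colimit D := Sigma.desc fun j => colimit.ι D j.down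
  have w : δ ≫ p = 0 := Sigma.hom_ext _ _ fun a => by simp [δ, p, O]
  have hcomm : ∀ {Z : ModEt X} (g : (∐ O) ⟶ Z), δ ≫ g = 0 → ∀ ⦃i j : J⦄ (h : i ⟶ j),
      D.map h ≫ Sigma.ι O ⟨j⟩ ≫ g = Sigma.ι O ⟨i⟩ ≫ g := fun g hg i j h => by
    have e := congrArg (fun φ => Sigma.ι (fun a : A => D.obj a.down.1.1) ⟨⟨(i, j), h⟩⟩ ≫ φ) hg
    simp only [δ, Sigma.ι_desc_assoc, comp_zero, Preadditive.sub_comp, sub_eq_zero, Category.assoc] at e
    exact e.symm
  let hc : IsColimit (CokernelCofork.ofπ p w) := CokernelCofork.IsColimit.ofπ p w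
    (fun g hg => colimit.desc D ⟨_, { app := fun j => Sigma.ι O ⟨j⟩ ≫ g
                                      naturality := fun i j h => by simp [hcomm g hg h] }⟩)
    (fun g hg => Sigma.hom_ext _ _ fun j => by simp [p])
    (fun g hg m hm => colimit.hom_ext fun j => by simp [← hm, p])
  haveI : Epi p := epi_of_isColimit_cofork hc
  exact isCart_of_exact_epi δ p w (ShortComplex.exact_of_g_is_cokernel _ hc)
    (isCart_sigma _ fun a => hD a.down.1.1) (isCart_sigma O fun j => hD j.down)

end Groth.Agent.Lib.EtMod
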