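import Groth.Agent.Lib.EtMod.Present
import Groth.Agent.Lib.EtMod.WeakAss
import Groth.Prelude.Def_AlgSpOX2
import Groth.Prelude.Def_AlgSpModX

/-!
# Pullback of modules along representable etale morphisms is restriction
-/

universe u

set_option backward.isDefEq.respectTransparency false

open CategoryTheory CategoryTheory.Limits AlgebraicGeometry Opposite AlgSp

namespace Groth.Agent.Lib.EtMod

variable {S : Scheme.{u}} {X Y : Sp S} {f : X ⟶ Y} (hf : Representable f) (he : IsEtaleMor f)

theorem etPre_le_comap_postcomp : etPre X ≤ (etPre Y).comap (EtOver.postcomp f he) := by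
  intro E R hR
  obtain ⟨ι, Z, g, rfl⟩ := R.exists_eq_ofArrows
  rw [Precoverage.mem_comap_iff, Presieve.map_ofArrows]
  exact (ofArrows_mem_etPre_iff _ _).2 fun x => (ofArrows_mem_etPre_iff Z g).1 hR x

instance preservesPullbacks_postcomp : PreservesLimitsOfShape WalkingCospan (EtOver.postcomp f he) := by
  haveI : PreservesLimitsOfShape WalkingCospan (EtOver.postcomp f he ⋙ EtOver.forget Y) :=
    inferInstanceAs (PreservesLimitsOfShape WalkingCospan (EtOver.forget X))
  haveI : (EtOver.forget Y).Faithful := ⟨fun {E E'} g g' h => EtOver.hom_ext g g' h⟩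
  haveI : ReflectsLimitsOfShape WalkingCospan (EtOver.forget Y) :=
    reflectsLimitsOfShape_of_reflectsIsomorphisms
  exact preservesLimitsOfShape_of_reflects_of_preserves _ (EtOver.forget Y)

instance postcomp_isContinuous : (EtOver.postcomp f he).IsContinuous (etTop X) (etTop Y) := by
  change (EtOver.postcomp f he).IsContinuous (etPre X).toGrothendieck (etPre Y).toGrothendieck
  exact Functor.isContinuous_toGrothendieck_of_pullbacksPreservedBy _ _ _ (etPre_le_comap_postcomp he)

/-- Composition is left adjoint to base change. -/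
noncomputable def postHomEquiv (V : EtOver X) (E : EtOver Y) :
    ((EtOver.postcomp f he).obj V ⟶ E) ≃ (V ⟶ (EtOver.bc hf).obj E) where
  toFun g := EtOver.homMk (E' := (EtOver.bc hf).obj E) (hf.lift V.obj.hom g.hom.left (show V.obj.hom ≫ f = (yon S).map g.hom.left ≫ E.obj.hom from (EtOver.w g).symm))
    (hf.lift_fst _ _ _)
  invFun k := EtOver.homMk (E := (EtOver.postcomp f he).obj V) (k.hom.left ≫ hf.snd E.obj.hom) (by
    change (yon S).map (k.hom.left ≫ hf.snd E.obj.hom) ≫ E.obj.hom = V.obj.hom ≫ f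
    rw [Functor.map_comp, Category.assoc, ← hf.w, ← Category.assoc]
    exact congrArg (· ≫ f) (EtOver.w k))
  left_inv g := EtOver.hom_ext _ _ (hf.lift_snd _ _ _)
  right_inv k := EtOver.hom_ext _ _ (hf.hom_ext
    ((hf.lift_fst _ _ _).trans (EtOver.w k).symm) (hf.lift_snd _ _ _))

/-- The adjunction. -/
noncomputable def postAdj : EtOver.postcomp f he ⊣ EtOver.bc hf :=
  Adjunction.mkOfHomEquiv
    { homEquiv := postHomEquiv hf he
      homEquiv_naturality_left_symm := fun {V' V E} a b => EtOver.hom_ext _ _ (Category.assoc _ _ _)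
      homEquiv_naturality_right := fun {V E E'} g k => EtOver.hom_ext _ _ (hf.hom_ext
        (by
          refine (hf.lift_fst _ _ _).trans ?_
          exact (EtOver.w ((postHomEquiv hf he V E g) ≫ (EtOver.bc hf).map k)).symm)
        (by
          refine (hf.lift_snd _ _ _).trans ?_
          change g.hom.left ≫ k.hom.left =
            ((postHomEquiv hf he V E g).hom.left ≫ (EtOver.bcMap hf k).hom.left) ≫ hf.snd E'.obj.hom
          rw [Category.assoc]
          have h := EtOver.bcMap_snd hf k
          rw [h, ← Category.assoc]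
          exact congrArg (· ≫ k.hom.left) (hf.lift_snd _ _ _).symm)) }

theorem postAdj_counit (E : EtOver Y) :
    ((postAdj hf he).counit.app E).hom.left = hf.snd E.obj.hom :=
  Category.id_comp _

theorem postAdj_unit_snd (V : EtOver X) :
    ((postAdj hf he).unit.app V).hom.left ≫ hf.snd ((EtOver.postcomp f he).obj V).obj.hom = 𝟙 _ :=
  hf.lift_snd _ _ _

/-- The structure sheaf restricts to the structure sheaf. -/
noncomputable def postRingHom :
    OEtRing X ⟶ ((EtOver.postcomp f he).sheafPushforwardContinuous RingCat.{u + 1} (etTop X) (etTop Y)).obj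
      (OEtRing Y) :=
  ObjectProperty.homMk
    { app := fun _ => 𝟙 _
      naturality := fun _ _ _ => (Category.comp_id _).trans (Category.id_comp _).symm }

attribute [local irreducible] postAdj

theorem map_op_retract {C D : Type*} [Category C] [Category D] (F : Cᵒᵖ ⥤ D) {A B : C} (a : A ⟶ B)
    (b : B ⟶ A) (h : a ≫ b = 𝟙 A) : F.map b.op ≫ F.map a.op = 𝟙 (F.obj (op A)) := by
  rw [← F.map_comp, ← op_comp, h, op_id, F.map_id]

theorem eq_comp_id {D : Type*} [Category D] {A B : D} {p q : A ⟶ B} (h : p = q) : p = q ≫ 𝟙 B :=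
  h.trans (Category.comp_id q).symm

theorem id_comp_eq {D : Type*} [Category D] {A B : D} {p q : A ⟶ B} (h : p = q) : 𝟙 A ≫ p = q :=
  (Category.id_comp p).trans h

theorem map_counit (E : EtOver Y) :
    (BigSite.ORing Scheme.etalePrecoverage S).obj.map ((postAdj hf he).counit.app E).hom.left.op =
      (BigSite.ORing Scheme.etalePrecoverage S).obj.map (hf.snd E.obj.hom).op := by
  rw [postAdj_counit]


theorem post_H₁ :
    Functor.whiskerRight (NatTrans.op (postAdj hf he).counit) (OEtRing Y).obj =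
      (bcRingHom hf).hom ≫ (EtOver.bc hf).op.whiskerLeft (postRingHom he).hom :=
  NatTrans.ext (funext fun E => eq_comp_id (map_counit hf he E.unop))

theorem map_snd_unit (V : EtOver X) :
    (BigSite.ORing Scheme.etalePrecoverage S).obj.map (hf.snd ((EtOver.postcomp f he).obj V).obj.hom).op ≫
      (BigSite.ORing Scheme.etalePrecoverage S).obj.map ((postAdj hf he).unit.app V).hom.left.op = 𝟙 _ :=
  map_op_retract (BigSite.ORing Scheme.etalePrecoverage S).obj _ _ (postAdj_unit_snd hf he V)

theorem post_H₂ :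
    (postRingHom he).hom ≫ (EtOver.postcomp f he).op.whiskerLeft (bcRingHom hf).hom ≫
      Functor.whiskerRight (NatTrans.op (postAdj hf he).unit) (OEtRing X).obj = 𝟙 (OEtRing X).obj :=
  NatTrans.ext (funext fun V => id_comp_eq (map_snd_unit hf he V.unop))

/-- Restriction of modules. -/
noncomputable abbrev restrModEt : ModEt Y ⥤ ModEt X := SheafOfModules.pushforward.{u + 1} (postRingHom he)

/-- Restriction is left adjoint to direct image. -/
noncomputable def restrPushAdj : restrModEt he ⊣ pushModEt hf :=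
  SheafOfModules.pushforwardPushforwardAdj (postAdj hf he) (postRingHom he) (bcRingHom hf)
    (post_H₁ hf he) (post_H₂ hf he)

/-- The pullback is restriction. -/
noncomputable def pullIsoRestr [(SheafOfModules.pushforward.{u + 1} (bcRingHom hf)).IsRightAdjoint] :
    pullModEt hf ≅ restrModEt he :=
  (pullPushAdjModEt hf).leftAdjointUniq (restrPushAdj hf he)

theorem isCart_restr {M : ModEt Y} (hM : IsCart M) : IsCart ((restrModEt he).obj M) :=
  fun E V hE hV g => @hM ((EtOver.postcomp f he).obj E) ((EtOver.postcomp f he).obj V) hE hV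
    ((EtOver.postcomp f he).map g)

/-- A base change over a chart. -/
theorem isBC_of_chart {U : Over S} {p : (yon S).obj U ⟶ Y} (hp : RepWith @Etale p) {M : ModEt Y}
    (h : IsCart ((restrModEt (isEtaleMor_of_repWith p hp)).obj M)) {U' W' : EtOver Y}
    [hU : IsAffine U'.obj.left.left] [hW : IsAffine W'.obj.left.left] (l : W' ⟶ U') (k : U' ⟶ EtOver.mk p hp) :
    IsBC M l := by
  obtain ⟨⟨V', ⟨⟨⟩⟩, a⟩, ha⟩ := U'
  obtain ⟨⟨V'', ⟨⟨⟩⟩, b⟩, hb⟩ := W'
  have e₁ : RepWith @Etale ((yon S).map k.hom.left) := (repWith_yon_map_iff _ _).2 (EtOver.etale_left k)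
  have e₂ : RepWith @Etale ((yon S).map (l.hom.left ≫ k.hom.left)) :=
    (repWith_yon_map_iff _ _).2 (EtOver.etale_left (l ≫ k))
  have hk : (yon S).map k.hom.left ≫ p = a := EtOver.w k
  have hlk : (yon S).map (l.hom.left ≫ k.hom.left) ≫ p = b := EtOver.w (l ≫ k)
  obtain ⟨k₀, hk₀⟩ : ∃ k₀ : V' ⟶ U, k.hom.left = k₀ := ⟨_, rfl⟩
  obtain ⟨l₀, hl₀⟩ : ∃ l₀ : V'' ⟶ V', l.hom.left = l₀ := ⟨_, rfl⟩
  replace hk : (yon S).map k₀ ≫ p = a := hk₀ ▸ hk
  replace e₁ : RepWith @Etale ((yon S).map k₀) := hk₀ ▸ e₁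
  replace hlk : (yon S).map (l₀ ≫ k₀) ≫ p = b := hl₀ ▸ hk₀ ▸ hlk
  replace e₂ : RepWith @Etale ((yon S).map (l₀ ≫ k₀)) := hl₀ ▸ hk₀ ▸ e₂
  clear hk₀ k
  subst hk
  subst hlk
  have e := @h (EtOver.mk _ e₁) (EtOver.mk _ e₂) hU hW (EtOver.homMk l₀ (Functor.map_comp _ _ _).symm)
  have el : l = EtOver.homMk l₀ (by
      rw [← Category.assoc, ← Functor.map_comp]) := EtOver.hom_ext _ _ hl₀
  rw [el]
  exact e

/-- Cartesianness descends along a surjective etale chart. -/
theorem isCart_of_restr {U : Over S} {p : (yon S).obj U ⟶ Y} (hp : RepWith @Etale p)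
    (hs : RepWith @Surjective p) {M : ModEt Y}
    (h : IsCart ((restrModEt (isEtaleMor_of_repWith p hp)).obj M)) : IsCart M := by
  intro E V _ _ g
  let E₀ : EtOver Y := EtOver.mk p hp
  have key : ∀ x : E.obj.left.left, ∃ (W : EtOver Y) (_ : IsAffine W.obj.left.left) (a : W ⟶ E) (_ : W ⟶ E₀),
      x ∈ Set.range a.hom.left.left := fun x => by
    obtain ⟨u, hu⟩ := Groth.Agent.Lib.AlgSpDecent.Core.surjective_ofPt hs (Points.ofPt E.obj.hom x)
    obtain ⟨W, hW, a, b, w, ha, -⟩ := exists_common_chart (E := E) (E' := E₀) (u := x) (u' := u) hu.symm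
    exact ⟨W, hW, a, b, w, ha⟩
  choose W hW a b hx using key
  obtain ⟨C, hC⟩ := exists_affCover (E := E) (R := Sieve.ofArrows W a)
    (ofArrows_mem_etTop W a fun x => ⟨x, hx x⟩)
  refine isBC_of_affCover C (fun k U' W' _ _ j l => ?_) g
  obtain ⟨_, c, _, ⟨x⟩, -⟩ := hC k
  exact isBC_of_chart hp h l (j ≫ c ≫ b x)

/-- Quasi-coherence is invariant under isomorphisms. -/
theorem isQuasicoherent_congr {M N : ModEt X} (e : M ≅ N) (h : M.IsQuasicoherent) : N.IsQuasicoherent :=
  (SheafOfModules.isQuasicoherent.{u + 1} (OEtRing X)).prop_of_iso e h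

/-- Restriction is left exact. -/
theorem preservesFiniteLimits_restr : PreservesFiniteLimits (restrModEt he) := by
  refine ⟨fun J _ _ => ?_⟩
  let T (W : Sp S) := SheafOfModules.forget (OEtRing W) ⋙ PresheafOfModules.toPresheaf (OEtRing W).obj
  haveI : PreservesLimitsOfShape J (restrModEt he ⋙ T X) :=
    inferInstanceAs (PreservesLimitsOfShape J
      (T Y ⋙ (Functor.whiskeringLeft _ _ AddCommGrpCat.{u + 1}).obj (EtOver.postcomp f he).op))
  haveI : ReflectsLimitsOfShape J (T X) := reflectsLimitsOfShape_of_reflectsIsomorphisms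
  exact preservesLimitsOfShape_of_reflects_of_preserves _ (T X)

end Groth.Agent.Lib.EtMod
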