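import Groth.Agent.Lib.EtMod.Push
import Mathlib.RingTheory.QuasiFinite.Basic
import Mathlib.RingTheory.Ideal.GoingUp
import Mathlib.RingTheory.Ideal.AssociatedPrime.Basic
import Mathlib.RingTheory.Ideal.MinimalPrime.Colon

/-!
# Weakly associated points of direct images
-/

universe u

set_option backward.isDefEq.respectTransparency false

open CategoryTheory CategoryTheory.Limits AlgebraicGeometry Opposite AlgSp

namespace Groth.Agent.Lib.EtMod

/-- An element of a minimal prime is nilpotent near it modulo the ideal. -/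
theorem exists_mul_pow_mem {B : Type u} [CommRing B] {I q : Ideal B} (hq : q ∈ I.minimalPrimes) {x : B}
    (hx : x ∈ q) : ∃ u ∉ q, ∃ n : ℕ, u * x ^ n ∈ I := by
  have := hq.1.1
  have h : algebraMap B (Localization.AtPrime q) x ∈ (I.map (algebraMap B (Localization.AtPrime q))).radical := by
    rw [IsLocalization.AtPrime.radical_map_of_mem_minimalPrimes (A := Localization.AtPrime q) q I hq]
    exact Ideal.mem_map_of_mem _ hx
  obtain ⟨n, hn⟩ := h
  rw [← map_pow, IsLocalization.algebraMap_mem_map_algebraMap_iff q.primeCompl] at hn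
  obtain ⟨m, hm, hmn⟩ := hn
  exact ⟨m, hm, n, hmn⟩

/-- A minimal prime along a finite map becomes minimal downstairs after taking a colon. -/
theorem exists_colon_minimalPrimes {A B : Type u} [CommRing A] [CommRing B] (φ : A →+* B) (hφ : φ.Finite)
    (I : Ideal B) {q : Ideal B} (hq : q ∈ I.minimalPrimes) :
    ∃ b : B, ∀ J : Ideal B, (∀ x, x ∈ J ↔ x * b ∈ I) → q.comap φ ∈ (J.comap φ).minimalPrimes := by
  classical
  let := φ.toAlgebra
  have : Module.Finite A B := hφ
  have : q.IsPrime := hq.1.1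
  let p := q.comap φ
  have : p.IsPrime := Ideal.IsPrime.comap φ
  have hfin : (p.primesOver B).Finite := Algebra.QuasiFinite.finite_primesOver p
  let T := hfin.toFinset.erase q
  have hc : ∀ r : T, ∃ b : B, b ∉ q ∧ ∀ J : Ideal B, (∀ x, x * b ∈ I → x ∈ J) →
      I ≤ (r : Ideal B) → ¬ J ≤ (r : Ideal B) := by
    rintro ⟨r, hr⟩
    obtain ⟨hne, hr⟩ := Finset.mem_erase.1 hr
    have hr := hfin.mem_toFinset.1 hr
    have : r.IsPrime := hr.1
    by_cases hI : I ≤ r
    swap
    · exact ⟨1, fun h => hq.1.1.ne_top ((Ideal.eq_top_iff_one q).2 h), fun _ _ h => absurd h hI⟩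
    · obtain ⟨s, hsq, hsr⟩ := SetLike.not_le_iff_exists.1 (fun hle : q ≤ r => by
        refine hne (le_antisymm ?_ hle)
        by_contra hlt
        have h2 := Ideal.IsIntegral.comap_lt_comap (A := B) (R := A) (lt_of_le_not_ge hle hlt)
        exact h2.ne hr.2.over)
      obtain ⟨u, hu, n, hn⟩ := exists_mul_pow_mem hq hsq
      exact ⟨u, hu, fun J hJ _ hle => hsr (this.mem_of_pow_mem n (hle (hJ _ (mul_comm u (s ^ n) ▸ hn))))⟩
  choose b hb hb' using hc
  refine ⟨∏ r : T, b r, fun J hJ => ⟨⟨Ideal.IsPrime.comap φ, Ideal.comap_mono fun x hx => ?_⟩, ?_⟩⟩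
  · have h1 := hq.1.2 ((hJ x).1 hx)
    refine (hq.1.1.mem_or_mem h1).resolve_right fun h => ?_
    obtain ⟨r, -, hr⟩ := (Ideal.IsPrime.prod_mem_iff (hp := hq.1.1)).1 h
    exact hb r hr
  · rintro p₁ ⟨hp₁, hJp⟩ hle
    have : p₁.IsPrime := hp₁
    obtain ⟨q₁, hJq₁, hq₁, hq₁p⟩ := Ideal.exists_ideal_over_prime_of_isIntegral p₁ J hJp
    obtain ⟨q₂, hle₂, hq₂, hq₂p⟩ := Ideal.exists_ideal_over_prime_of_isIntegral_of_isPrime p q₁
      (hq₁p.trans_le hle)
    have hIJ : I ≤ J := fun x hx => (hJ x).2 (I.mul_mem_right _ hx)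
    have hIq₂ : I ≤ q₂ := hIJ.trans (hJq₁.trans hle₂)
    have h2 : q₂ = q := by
      by_contra hne
      have hmem : q₂ ∈ T := Finset.mem_erase.2 ⟨hne, hfin.mem_toFinset.2 ⟨hq₂, ⟨hq₂p.symm⟩⟩⟩
      refine hb' ⟨q₂, hmem⟩ J (fun x hx => (hJ x).2 ?_) hIq₂ (hJq₁.trans hle₂)
      obtain ⟨c, hc⟩ := Finset.dvd_prod_of_mem b (Finset.mem_univ (⟨q₂, hmem⟩ : T))
      rw [hc, ← mul_assoc]
      exact I.mul_mem_right _ hx
    have h3 : q ≤ q₁ := hq.2 ⟨hq₁, hIJ.trans hJq₁⟩ (h2 ▸ hle₂)
    exact hq₁p ▸ Ideal.comap_mono h3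

/-- Over a Noetherian ring a minimal prime over an annihilator is an annihilator. -/
theorem exists_annihilator_eq {B : Type u} [CommRing B] [IsNoetherianRing B] (I : Ideal B) {q : Ideal B}
    (hq : q ∈ I.minimalPrimes) : ∃ b : B, ∀ x, x * b ∈ I ↔ x ∈ q := by
  obtain ⟨b, hb⟩ := Submodule.exists_eq_colon_of_mem_minimalPrimes (N := I) (x := (1 : B)) (I := q) (by
    convert hq using 2
    ext x
    simp [Submodule.mem_colon_singleton])
  exact ⟨b, fun x => by rw [hb, Submodule.mem_colon_singleton, smul_eq_mul]⟩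

variable {S : Scheme.{u}} {X Y : Sp S} {f : X ⟶ Y} (hf : Representable f) {M : ModEt X}

theorem mem_annSect_smul {E : EtOver X} (b x : fn E) (s : sectModEt M E) :
    x ∈ annSect (M := M) (E := E) (b • s) ↔ x * b ∈ annSect (M := M) (E := E) s := by
  change upΓ E x • (b • s) = 0 ↔ upΓ E (x * b) • s = 0
  rw [← smul_def, ← smul_def, mul_smul]

/-- A point of the base change over compatible points. -/
theorem exists_point_bcE (E : EtOver Y) (u : E.obj.left.left) (y : Points X)
    (h : Points.map f y = Points.ofPt E.obj.hom u) :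
    ∃ w : (bcE hf E).obj.left.left, Points.ofPt (bcE hf E).obj.hom w = y ∧ bcP hf E w = u := by
  obtain ⟨z, hz₁, hz₂⟩ := Groth.Agent.Lib.AlgSpDecent.Core.exists_point_of_isPullback
    (EtOver.isPullback_bcObj hf E) y (Points.ofScheme E.obj.left u)
    (by rw [Groth.Agent.Lib.AlgSpDecent.Core.map_ofScheme]; exact h)
  obtain ⟨v, rfl⟩ := (Points.schemeEquiv (bcE hf E).obj.left).surjective z
  refine ⟨v, ?_, ?_⟩
  · exact (Groth.Agent.Lib.AlgSpDecent.Core.map_ofScheme _ _).symm.trans hz₁
  · refine (Points.schemeEquiv E.obj.left).injective (Eq.trans ?_ hz₂)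
    exact ((Groth.Agent.Lib.AlgSpDecent.Core.map_ofScheme _ _).trans
      (Groth.Agent.Lib.AlgSpDecent.Core.ofPt_yon_map _ _)).symm

/-- Weakly associated points push forward once annihilators can be adjusted. -/
theorem image_weakAssEt_subset (hY : IsAlgSpace Y) (haff : IsAffineMor f) (hM : IsCart M)
    (h : ∀ (E : EtOver Y) [IsAffine E.obj.left.left] (I : Ideal (fn (bcE hf E))) (q : Ideal (fn (bcE hf E))),
      q ∈ I.minimalPrimes → ∃ b, ∀ J : Ideal (fn (bcE hf E)), (∀ x, x ∈ J ↔ x * b ∈ I) →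
        q.comap (πfn hf E) ∈ (J.comap (πfn hf E)).minimalPrimes) :
    Points.map f '' WeakAssEt M ⊆ WeakAssEt (pushM hf M) := by
  rintro _ ⟨y, hy, rfl⟩
  obtain ⟨E, hE, u, hu⟩ := exists_affine_point hY (Points.map f y)
  have := isAffine_bcE hf haff E
  obtain ⟨w, hw, hwu⟩ := exists_point_bcE hf E u y hu.symm
  obtain ⟨s, hs⟩ := (mem_weakAssEt_iff hM (bcE hf E) w).1 (hw ▸ hy)
  obtain ⟨b, hb⟩ := h E _ _ hs
  refine ⟨E, hE, u, hu, b • s, ?_⟩
  have h1 := hb _ (fun x => mem_annSect_smul b x s)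
  rw [primeAtPt_comap] at h1
  rw [annSect_push, ← hwu]
  exact h1

end Groth.Agent.Lib.EtMod

namespace Groth.Agent.Lib.EtMod

variable {S : Scheme.{u}} {X Y : Sp S} {f : X ⟶ Y} (hf : Representable f) {M : ModEt X}

theorem isAffineMor_of_isFiniteMor (hfin : IsFiniteMor f) : IsAffineMor f := fun Z hZ g => by
  obtain ⟨W, i, fst, h, hW, -⟩ := hfin hZ g
  exact ⟨W, i, fst, h, hW⟩

/-- Functions on the base change along a finite morphism are finite. -/
theorem finite_πfn (hfin : IsFiniteMor f) (E : EtOver Y) [IsAffine E.obj.left.left] :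
    (πfn hf E).Finite := by
  obtain ⟨W, i, fst, h, hW, hi⟩ := hfin (Z := E.obj.left) inferInstance E.obj.hom
  let e : (yon S).obj (hf.pullback E.obj.hom) ≅ (yon S).obj W :=
    (EtOver.isPullback_bcObj hf E).isoIsPullback _ _ h
  let e' : hf.pullback E.obj.hom ≅ W := (yon S).preimageIso e
  have he : e'.hom ≫ i = hf.snd E.obj.hom := (yon S).map_injective (by
    simp only [e', Functor.map_comp, Functor.preimageIso_hom, Functor.map_preimage]
    exact IsPullback.isoIsPullback_hom_snd _ _ _ _)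
  have hfin' : IsFinite (bcP hf E) := by
    change IsFinite (hf.snd E.obj.hom).left
    rw [← he]
    haveI := hi
    haveI : IsIso e'.hom.left := inferInstanceAs (IsIso ((Over.forget S).map e'.hom))
    change IsFinite (e'.hom.left ≫ i.left)
    infer_instance
  exact ((HasAffineProperty.iff_of_isAffine (P := @IsFinite)).1 hfin').2

/-- Weakly associated points of a finite direct image. -/
theorem weakAssEt_push_eq_of_finite (hY : IsAlgSpace Y) (hfin : IsFiniteMor f) (hM : IsCart M) :
    WeakAssEt (pushM hf M) = Points.map f '' WeakAssEt M := by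
  have haff := isAffineMor_of_isFiniteMor hfin
  refine (weakAssEt_push_subset hf haff).antisymm (image_weakAssEt_subset hf hY haff hM ?_)
  intro E _ I q hq
  exact exists_colon_minimalPrimes _ (finite_πfn hf hfin E) I hq

/-- Weakly associated points of an affine direct image from a locally Noetherian space. -/
theorem weakAssEt_push_eq_of_noeth (hY : IsAlgSpace Y) (haff : IsAffineMor f) (hX : IsLocNoethSp X)
    (hM : IsCart M) : WeakAssEt (pushM hf M) = Points.map f '' WeakAssEt M := by
  refine (weakAssEt_push_subset hf haff).antisymm (image_weakAssEt_subset hf hY haff hM ?_)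
  intro E _ I q hq
  have := isAffine_bcE hf haff E
  have := isNoetherianRing_fn hX (bcE hf E)
  obtain ⟨b, hb⟩ := exists_annihilator_eq I hq
  refine ⟨b, fun J hJ => ?_⟩
  have e : J = q := Ideal.ext fun x => (hJ x).trans (hb x)
  have : (q.comap (πfn hf E)).IsPrime := hq.1.1.comap _
  rw [e, Ideal.minimalPrimes_eq_subsingleton_self]
  rfl

/-- Finite direct images of coherent modules are coherent. -/
theorem isFinitePresentation_push (hfin : IsFiniteMor f) (hY : IsLocNoethSp Y) [M.IsFinitePresentation] :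
    (pushM hf M).IsFinitePresentation := by
  have haff := isAffineMor_of_isFiniteMor hfin
  refine isFinitePresentation_of_finite hY (isCart_push hf haff isCart_of_isFinitePresentation) ?_
  intro E _
  have := isAffine_bcE hf haff E
  let := (πfn hf E).toAlgebra
  have : Module.Finite (fn E) (fn (bcE hf E)) := finite_πfn hf hfin E
  let := bcModule hf M E
  have : IsScalarTower (fn E) (fn (bcE hf E)) (sectModEt M (bcE hf E)) :=
    .of_algebraMap_smul fun _ _ => rfl
  have := finite_of_isFinitePresentation (M := M) (bcE hf E)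
  exact Module.Finite.trans (R := fn E) (fn (bcE hf E)) (sectModEt M (bcE hf E))

end Groth.Agent.Lib.EtMod
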