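import Groth.Agent.Lib.EtMod.FPSec
import Groth.Agent.Lib.EtMod.PushWeakAss
import Groth.Prelude.Def_AlgSp4

/-!
# Finite presentation of finite direct images
-/

universe u

set_option backward.isDefEq.respectTransparency false

open CategoryTheory CategoryTheory.Limits AlgebraicGeometry Opposite AlgSp

namespace Groth.Agent.Lib.EtMod

/-- Finite presentation ascends to a finitely presented algebra module. -/
theorem finitePresentation_of_restrictScalars (A B : Type u) [CommRing A] [CommRing B] [Algebra A B]
    (N : Type (u + 1)) [AddCommGroup N] [Module A N] [Module B N] [IsScalarTower A B N]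
    [Module.FinitePresentation A B] [Module.FinitePresentation A N] : Module.FinitePresentation B N := by
  have : Module.Finite B N := Module.Finite.of_restrictScalars_finite A B N
  obtain ⟨n, g, hg⟩ := Module.Finite.exists_fin' B N
  refine Module.finitePresentation_of_surjective g hg ?_
  have h : (LinearMap.ker (g.restrictScalars A)).FG :=
    Module.FinitePresentation.fg_ker (g.restrictScalars A) hg
  obtain ⟨T, hT⟩ := h
  refine ⟨T, le_antisymm (Submodule.span_le.2 fun t ht => ?_) fun x hx => ?_⟩
  · exact (hT ▸ Submodule.subset_span ht : t ∈ LinearMap.ker (g.restrictScalars A))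
  · exact Submodule.span_subset_span A B _ (hT ▸ hx : x ∈ Submodule.span A (T : Set (Fin n → B)))

variable {S : Scheme.{u}} {X Y : Sp S} {f : X ⟶ Y} (hf : Representable f) {M : ModEt X}

/-- Functions on the base change along a finite morphism of finite presentation. -/
theorem finitePresentation_πfn (hfin : IsFiniteMor f) (hfp : LocP @LocallyOfFinitePresentation f)
    (E : EtOver Y) [IsAffine E.obj.left.left] :
    letI := (πfn hf E).toAlgebra
    Module.FinitePresentation (fn E) (fn (bcE hf E)) := by
  have := isAffine_bcE hf (isAffineMor_of_isFiniteMor hfin) E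
  have h : LocallyOfFinitePresentation (bcP hf E) :=
    hfp (bcE hf E).obj.hom E.obj.hom (hf.snd E.obj.hom) (bcE hf E).property E.property
      (EtOver.isPullback_bcObj hf E).w
  have h' : (πfn hf E).FinitePresentation := HasRingHomProperty.iff_of_isAffine.1 h
  let := (πfn hf E).toAlgebra
  have : Module.Finite (fn E) (fn (bcE hf E)) := finite_πfn hf hfin E
  have : Algebra.FinitePresentation (fn E) (fn (bcE hf E)) := h'
  exact Module.FinitePresentation.of_finite_of_finitePresentation (fn E) (fn (bcE hf E))

/-- The base changes of affine objects cover. -/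
theorem coversTop_bcE (hY : IsAlgSpace Y) :
    (etTop X).CoversTop fun E : {E : EtOver Y // IsAffine E.obj.left.left} => bcE hf E.1 := by
  intro D
  have key : ∀ d : D.obj.left.left, ∃ (W : EtOver X) (E : {E : EtOver Y // IsAffine E.obj.left.left})
      (j : W ⟶ D) (_ : W ⟶ bcE hf E.1), d ∈ Set.range j.hom.left.left := fun d => by
    obtain ⟨E, hE, u, hu⟩ := exists_affine_point hY (Points.map f (Points.ofPt D.obj.hom d))
    obtain ⟨w, hw, -⟩ := exists_point_bcE hf E u (Points.ofPt D.obj.hom d) hu.symm
    obtain ⟨W, -, a, b, z, ha, -⟩ := exists_common_chart hw.symm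
    exact ⟨W, ⟨E, hE⟩, a, b, z, ha⟩
  choose W E j b hj using key
  refine (etTop X).superset_covering ?_ (ofArrows_mem_etTop W j fun d => ⟨d, hj d⟩)
  intro T k hk
  obtain ⟨_, c, _, ⟨d⟩, rfl⟩ := hk
  exact (Sieve.mem_ofObjects_iff ..).mpr ⟨E d, ⟨c ≫ b d⟩⟩

/-- Finite presentation is detected after a finite direct image of finite presentation. -/
theorem isFinitePresentation_push_iff (hY : IsAlgSpace Y) (hfin : IsFiniteMor f)
    (hfp : LocP @LocallyOfFinitePresentation f) (hM : IsCart M) :
    M.IsFinitePresentation ↔ (pushM hf M).IsFinitePresentation := by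
  have haff := isAffineMor_of_isFiniteMor hfin
  constructor
  · intro h
    haveI : ∀ E : {E : EtOver Y // IsAffine E.obj.left.left}, IsAffine E.1.obj.left.left := fun E => E.2
    refine isFinitePresentation_of_fp (isCart_push hf haff hM) _ (coversTop_affine Y) fun ⟨E, hE⟩ => ?_
    have := isAffine_bcE hf haff E
    let := (πfn hf E).toAlgebra
    have := finitePresentation_πfn hf hfin hfp E
    have := finitePresentation_sect (M := M) (bcE hf E)
    let := bcModule hf M E
    have : IsScalarTower (fn E) (fn (bcE hf E)) (sectModEt M (bcE hf E)) :=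
      .of_algebraMap_smul fun _ _ => rfl
    exact Module.FinitePresentation.trans (fn E) (sectModEt M (bcE hf E)) (fn (bcE hf E))
  · intro h
    haveI : ∀ E : {E : EtOver Y // IsAffine E.obj.left.left}, IsAffine (bcE hf E.1).obj.left.left := fun E =>
      have := E.2
      isAffine_bcE hf haff E.1
    refine isFinitePresentation_of_fp hM _ (coversTop_bcE hf hY) fun ⟨E, hE⟩ => ?_
    let := (πfn hf E).toAlgebra
    have := finitePresentation_πfn hf hfin hfp E
    let := bcModule hf M E
    have : IsScalarTower (fn E) (fn (bcE hf E)) (sectModEt M (bcE hf E)) :=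
      .of_algebraMap_smul fun _ _ => rfl
    have : Module.FinitePresentation (fn E) (sectModEt M (bcE hf E)) :=
      finitePresentation_sect (M := pushM hf M) E
    exact finitePresentation_of_restrictScalars (fn E) (fn (bcE hf E)) (sectModEt M (bcE hf E))

end Groth.Agent.Lib.EtMod
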