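import Groth.Agent.Lib.EtMod.Torsion
import Groth.Agent.Lib.EtMod.WeakAss
import Groth.Agent.Lib.AlgSpMor.QC
import Mathlib.RingTheory.Ideal.Operations
import Mathlib.AlgebraicGeometry.Morphisms.QuasiCompact

/-!
# Sections supported on a closed subset with quasi-compact complement
-/

universe u

set_option backward.isDefEq.respectTransparency false
set_option linter.style.haveILetI false

open CategoryTheory CategoryTheory.Limits AlgebraicGeometry Opposite AlgSp
open TensorProduct Groth.Agent.Lib.AlgSpDecent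

namespace Groth.Agent.Lib.EtMod

variable {S : Scheme.{u}} {X : Sp S}

theorem mem_zeroLocus_iff_le {U : Scheme.{u}} (J : Ideal Γ(U, ⊤)) (v : U) :
    v ∈ U.zeroLocus (U := ⊤) (J : Set Γ(U, ⊤)) ↔ J ≤ primeAtPt U v := by
  rw [Scheme.mem_zeroLocus_iff]
  refine forall₂_congr fun f _ => ?_
  rw [Scheme.mem_basicOpen _ _ _ (Set.mem_univ v : v ∈ (⊤ : U.Opens))]
  rfl

theorem le_radical_of_zeroLocus_subset {U : Scheme.{u}} [IsAffine U] {I J : Ideal Γ(U, ⊤)}
    (h : U.zeroLocus (U := ⊤) (J : Set Γ(U, ⊤)) ⊆ U.zeroLocus (U := ⊤) (I : Set Γ(U, ⊤))) :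
    I ≤ J.radical := by
  rw [Ideal.radical_eq_sInf]
  refine le_sInf fun p ⟨hJ, hp⟩ => ?_
  obtain ⟨v, rfl⟩ := exists_primeAtPt_eq p
  exact (mem_zeroLocus_iff_le I v).1 (h ((mem_zeroLocus_iff_le J v).2 hJ))

/-- The sections vanishing away from a subset of the points. -/
def suppSub (T : Set (Points X)) (F : ModEt X) : F.val.Submodule where
  obj V :=
    { carrier := {s | ∀ (W : EtOver X) (k : W ⟶ V.unop),
        (∀ w, Points.ofPt W.obj.hom w ∉ T) → res F k s = 0}
      add_mem' := fun {s t} hs ht W k hw => by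
        change res F k ((s : sectModEt F V.unop) + t) = 0
        rw [map_add, hs W k hw, ht W k hw, add_zero]
      zero_mem' := fun W k _ => map_zero (res F k)
      smul_mem' := fun r s hs W k hw => by
        let r' : fn V.unop := r.down
        let s' : sectModEt F V.unop := s
        change res F k (r' • s') = 0
        rw [res_smul, hs W k hw, smul_zero] }
  map {V V'} g := fun s hs W k hw => by
    have h := hs W (k ≫ g.unop) hw
    rw [res_comp_apply] at h
    exact h

theorem mem_suppSub_of_closure {T : Set (Points X)} {F : ModEt X} {V : EtOver X} {s : sectModEt F V}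
    (hs : s ∈ (SubSheaf.closure (suppSub T F)).obj (op V)) : s ∈ (suppSub T F).obj (op V) := by
  intro W k hw
  refine eq_of_sieve ((etTop X).pullback_stable k hs) fun W' c hc => ?_
  rw [map_zero, ← res_comp_apply]
  have h := hc W' (𝟙 _) (fun w => ofPt_comp_left c w ▸ hw _)
  change res F (𝟙 W') (res F (c ≫ k) s) = 0 at h
  rwa [res_id_apply] at h

theorem mem_suppSub_iff {T : Set (Points X)} (hT : IsClosed T) {F : ModEt X} (hF : IsCart F) (E : EtOver X)
    [IsAffine E.obj.left.left] (s : sectModEt F E) :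
    s ∈ (suppSub T F).obj (op E) ↔
      E.obj.left.left.zeroLocus (U := ⊤) (annSect s : Set (fn E)) ⊆ {w | Points.ofPt E.obj.hom w ∈ T} := by
  constructor
  · intro h v hv
    by_contra hvT
    have hopen : IsOpen {w : E.obj.left.left | Points.ofPt E.obj.hom w ∉ T} :=
      (hT.preimage (Points.continuous_ofPt E.obj.hom)).isOpen_compl
    obtain ⟨O, hO, hvO, hOle⟩ := exists_isAffineOpen_mem_and_subset
      (X := E.obj.left.left) (U := ⟨_, hopen⟩) hvT
    let O' : E.obj.left.left.Etale := MorphismProperty.Over.mk ⊤ O.ι (show Etale _ from inferInstance)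
    let W := (EtOver.ofChart E.obj.hom E.property).obj O'
    let j : W ⟶ E := EtOver.homMk (EtOver.homOfEtale O') rfl
    haveI : IsAffine W.obj.left.left := hO
    have h0 : res F j s = 0 := h W j fun w => by
      rw [← ofPt_comp_left j w]
      exact hOle w.2
    exact annSect_not_le hF j ⟨v, hvO⟩ h0 ((mem_zeroLocus_iff_le _ v).1 hv)
  · intro h W k hw
    obtain ⟨ι, V, j, hV, hj⟩ := exists_affine_cover_obj W
    refine eq_of_cover V j hj fun i => ?_
    have := hV i
    rw [map_zero, ← res_comp_apply]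
    by_contra hne
    obtain ⟨v, hle, -⟩ := exists_weakAss_of_ne_zero hne
    refine hw ((j i).hom.left.left v) ?_
    rw [ofPt_comp_left, ← ofPt_comp_left (j i ≫ k)]
    refine h ((mem_zeroLocus_iff_le _ _).2 fun a ha => ?_)
    rw [← primeAtPt_comap]
    refine hle ?_
    change fnMap (j i ≫ k) a • res F (j i ≫ k) s = 0
    rw [← res_smul, show a • s = 0 from ha, map_zero]

/-- The preimage of a closed subset with quasi-compact complement is cut out by finitely many
functions on affine objects. -/
theorem exists_fg_ideal {U X' : Space S} (j : U ⟶ X') (hj : RepWith @IsOpenImmersion j.hom)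
    (hjqc : IsQuasiCompactMor j.hom) (W : EtOver X'.obj) [IsAffine W.obj.left.left] :
    ∃ I : Ideal (fn W), I.FG ∧ W.obj.left.left.zeroLocus (U := ⊤) (I : Set (fn W)) =
      {w | Points.ofPt W.obj.hom w ∈ (Set.range (Points.map j.hom))ᶜ} := by
  have hq : RepWith @QuasiCompact j.hom := (Groth.Agent.Lib.AlgSpMor.QC.repWith_quasiCompact_iff hj.1).2 hjqc
  let P := hj.1.pullback W.obj.hom
  let p : P.left ⟶ W.obj.left.left := (hj.1.snd W.obj.hom).left
  haveI : IsOpenImmersion p := hj.2 _ _ _ (hj.1.isPullback W.obj.hom)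
  haveI : QuasiCompact p := hq.2 _ _ _ (hj.1.isPullback W.obj.hom)
  have hrange : Set.range p = {w | Points.ofPt W.obj.hom w ∈ Set.range (Points.map j.hom)} := by
    ext w
    constructor
    · rintro ⟨v, rfl⟩
      refine ⟨Points.ofPt (hj.1.fst W.obj.hom) v, ?_⟩
      rw [← Core.ofPt_comp, (hj.1.isPullback W.obj.hom).w, Core.ofPt_map_comp]
    · rintro ⟨y, hy⟩
      obtain ⟨z, -, hz⟩ := Core.exists_point_of_isPullback (hj.1.isPullback W.obj.hom) y
        (Points.ofScheme W.obj.left w) (by rw [hy, Core.map_ofScheme])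
      obtain ⟨v, rfl⟩ := (Points.schemeEquiv P).surjective z
      refine ⟨v, (Points.schemeEquiv W.obj.left).injective ?_⟩
      change Points.ofScheme W.obj.left (p v) = Points.ofScheme W.obj.left w
      rw [← Core.ofPt_yon_map, ← Core.map_ofScheme]
      exact hz
  have hc : IsCompact (Set.range p) ∧ IsOpen (Set.range p) := by
    haveI : CompactSpace P.left := QuasiCompact.compactSpace_of_compactSpace p
    exact ⟨isCompact_range p.continuous, p.isOpenEmbedding.isOpen_range⟩
  obtain ⟨s, hs, hU⟩ := isCompact_and_isOpen_iff_finite_and_eq_biUnion_basicOpen.1 hc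
  refine ⟨Ideal.span s, Submodule.fg_def.2 ⟨s, hs, rfl⟩, ?_⟩
  rw [Scheme.zeroLocus_span]
  ext w
  rw [Scheme.mem_zeroLocus_iff, Set.mem_ofPred_eq, Set.mem_compl_iff]
  change _ ↔ ¬ w ∈ {w | Points.ofPt W.obj.hom w ∈ Set.range (Points.map j.hom)}
  rw [← hrange, hU]
  simp

theorem exists_pow_annihilates_iff {F : ModEt X} {E : EtOver X} [IsAffine E.obj.left.left] {T : Set (Points X)}
    {I : Ideal (fn E)} (hI : I.FG)
    (hIT : E.obj.left.left.zeroLocus (U := ⊤) (I : Set (fn E)) = {w | Points.ofPt E.obj.hom w ∈ T})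
    (s : sectModEt F E) :
    E.obj.left.left.zeroLocus (U := ⊤) (annSect s : Set (fn E)) ⊆ {w | Points.ofPt E.obj.hom w ∈ T} ↔
      ∃ n : ℕ, ∀ a ∈ I ^ n, upΓ E a • s = 0 := by
  rw [← hIT]
  constructor
  · intro h
    exact Ideal.exists_pow_le_of_le_radical_of_fg (le_radical_of_zeroLocus_subset h) hI
  · rintro ⟨n, hn⟩ v hv
    rw [mem_zeroLocus_iff_le] at hv ⊢
    intro a ha
    exact (isPrime_primeAtPt _ v).mem_of_pow_mem n (hv (hn _ (Ideal.pow_mem_pow ha n)))

theorem lTensor_mk_eq_zero {A B : Type u} [CommRing A] [CommRing B] [Algebra A B] {N : Type (u + 1)}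
    [AddCommGroup N] [Module A N] (a : A) (n : ℕ) (z : B ⊗[A] N) (h : a ^ n • z = 0) :
    (LocalizedModule.mkLinearMap (Submonoid.powers a) N).lTensor B z = 0 := by
  have hb : Function.Bijective ((a ^ n) • (LinearMap.id :
      LocalizedModule (Submonoid.powers a) N →ₗ[A] LocalizedModule (Submonoid.powers a) N)) :=
    (Module.End.isUnit_iff _).1 (IsLocalizedModule.map_units
      (LocalizedModule.mkLinearMap (Submonoid.powers a) N) (⟨a ^ n, n, rfl⟩ : Submonoid.powers a))
  refine ((LinearEquiv.ofBijective _ hb).lTensor B).injective ?_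
  rw [map_zero]
  change ((a ^ n) • (LinearMap.id : LocalizedModule (Submonoid.powers a) N →ₗ[A] _)).lTensor B
    ((LocalizedModule.mkLinearMap (Submonoid.powers a) N).lTensor B z) = 0
  rw [LinearMap.lTensor_smul, LinearMap.smul_apply, LinearMap.lTensor_id, LinearMap.id_apply,
    ← map_smul, h, map_zero]

/-- Sections supported on a closed subset with quasi-compact complement form a quasi-coherent
submodule. -/
theorem isCart_suppSub {T : Set (Points X)} (hT : IsClosed T) {F : ModEt X} (hF : IsCart F)
    (hfg : ∀ (E : EtOver X) [IsAffine E.obj.left.left], ∃ I : Ideal (fn E), I.FG ∧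
      E.obj.left.left.zeroLocus (U := ⊤) (I : Set (fn E)) = {w | Points.ofPt E.obj.hom w ∈ T}) :
    IsCart (SubSheaf.closureSheaf (suppSub T F)) ∧
      ∀ (E : EtOver X) [IsAffine E.obj.left.left],
        Set.range (secMap (SubSheaf.closureι (suppSub T F)) E) =
          {s : sectModEt F E | E.obj.left.left.zeroLocus (U := ⊤) (annSect s : Set (fn E)) ⊆
            {w | Points.ofPt E.obj.hom w ∈ T}} := by
  let ι := SubSheaf.closureι (suppSub T F)
  have hrange : ∀ (E : EtOver X) [IsAffine E.obj.left.left] (s : sectModEt F E), s ∈ Set.range (secMap ι E) ↔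
      E.obj.left.left.zeroLocus (U := ⊤) (annSect s : Set (fn E)) ⊆
        {w | Points.ofPt E.obj.hom w ∈ T} := fun E _ s => by
    rw [← mem_suppSub_iff hT hF E]
    exact ⟨fun ⟨x, hx⟩ => hx ▸ mem_suppSub_of_closure x.2,
      fun h => ⟨⟨s, SubSheaf.le_closure (suppSub T F) (op E) h⟩, rfl⟩⟩
  refine ⟨?_, fun E _ => Set.ext (hrange E)⟩
  intro E V _ _ g
  haveI := flat_fn g
  classical
  obtain ⟨I, ⟨G, hG⟩, hIT⟩ := hfg E
  let L := fun a : G => LocalizedModule.mkLinearMap (Submonoid.powers (a : fn E)) (sectModEt F E)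
  let d : sectModEt F E →ₗ[fn E] ∀ a : G, LocalizedModule (Submonoid.powers (a : fn E)) (sectModEt F E) :=
    LinearMap.pi L
  have hinjE : ∀ E, Function.Injective (secMap ι E) := fun E a b h => Subtype.ext h
  have hex : Function.Exact (secMap ι E) d := fun s => by
    refine Iff.trans ?_ (hrange E s).symm
    rw [exists_pow_annihilates_iff ⟨G, hG⟩ hIT]
    constructor
    · intro h
      refine Ideal.exists_pow_le_of_le_radical_of_fg (J := annSect s) ?_ ⟨G, hG⟩
      rw [← hG, Ideal.span, Submodule.span_le]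
      intro a ha
      obtain ⟨⟨_, k, rfl⟩, hk⟩ :=
        (IsLocalizedModule.eq_zero_iff (Submonoid.powers a) (L ⟨a, ha⟩)).1 (congrFun h ⟨a, ha⟩)
      exact ⟨k, hk⟩
    · rintro ⟨n, hn⟩
      refine funext fun a => (IsLocalizedModule.eq_zero_iff (Submonoid.powers (a : fn E)) (L a)).2
        ⟨⟨_, n, rfl⟩, ?_⟩
      exact hn _ (Ideal.pow_mem_pow (by rw [← hG]; exact Submodule.subset_span a.2) n)
  have h₁ : IsBaseChange (Fn g) (mResL F g) := hF g
  have hpow : ∀ (a : fn E), a ∈ I → ∀ q : sectModEt (SubSheaf.closureSheaf (suppSub T F)) V,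
      ∃ n : ℕ, a ^ n • (h₁.equiv.symm (show MSec F g from secMap ι V q)) = 0 := fun a ha q => by
    have hq := (hrange V _).1 ⟨q, rfl⟩
    have hmem : fnMap g a ∈ (annSect (secMap ι V q)).radical := by
      refine le_radical_of_zeroLocus_subset (I := Ideal.span {fnMap g a}) (fun v hv => ?_)
        (Ideal.subset_span rfl)
      rw [mem_zeroLocus_iff_le, Ideal.span_le, Set.singleton_subset_iff]
      have hvT : g.hom.left.left v ∈ {w | Points.ofPt E.obj.hom w ∈ T} := by
        rw [Set.mem_ofPred_eq, ofPt_comp_left]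
        exact hq hv
      rw [← hIT, mem_zeroLocus_iff_le, ← primeAtPt_comap] at hvT
      exact hvT ha
    obtain ⟨n, hn⟩ := hmem
    refine ⟨n, ?_⟩
    have h' : a ^ n • (show MSec F g from secMap ι V q) = 0 := by
      change fnMap g (a ^ n) • secMap ι V q = 0
      rw [map_pow]
      exact hn
    refine (LinearMap.map_smul_of_tower h₁.equiv.symm.toLinearMap (a ^ n) _).symm.trans ?_
    exact (congrArg h₁.equiv.symm.toLinearMap h').trans (map_zero _)
  have key : IsBaseChange (Fn g) (mResL (SubSheaf.closureSheaf (suppSub T F)) g) :=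
    Alg.isBaseChange_ker (B := Fn g) (f₀ := mResL (SubSheaf.closureSheaf (suppSub T F)) g) h₁
      (r := secMap ι E) (d := d) (hinjE E) hex (s := mSecMap ι g) (hinjE V)
      (fun q => by
        refine (TensorProduct.piRight (fn E) (fn E) (Fn g) fun a : G =>
          LocalizedModule (Submonoid.powers (a : fn E)) (sectModEt F E)).injective ?_
        rw [map_zero]
        funext a
        have hpi : ∀ z, TensorProduct.piRight (fn E) (fn E) (Fn g)
            (fun a : G => LocalizedModule (Submonoid.powers (a : fn E)) (sectModEt F E))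
            (d.lTensor (Fn g) z) a = (L a).lTensor (Fn g) z := fun z => by
          induction z using TensorProduct.induction_on with
          | zero => simp
          | tmul b n => simp [d]
          | add x y hx hy => simp only [map_add, Pi.add_apply, hx, hy]
        rw [hpi]
        obtain ⟨n, hn⟩ := hpow _ (by rw [← hG]; exact Submodule.subset_span a.2) q
        exact lTensor_mk_eq_zero _ n _ hn)
      (fun p => secMap_res ι g p)
  exact key

end Groth.Agent.Lib.EtMod
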