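import Groth.Agent.Lib.EtMod.StalkLocal
import Groth.Agent.Lib.EtMod.Supported
import Groth.Agent.Lib.EtMod.PushWeakAss
import Groth.Agent.Lib.EtMod.ClosedScalar

/-!
# Supports of coherent modules and closed subspaces
-/

universe u

set_option backward.isDefEq.respectTransparency false
set_option linter.style.haveILetI false

open CategoryTheory CategoryTheory.Limits AlgebraicGeometry Opposite AlgSp
open Groth.Agent.Lib.AlgSpStalk.Lifts Groth.Agent.Lib.AlgSpStalk.Point
open Groth.Agent.Lib.AlgSpDecent

namespace Groth.Agent.Lib.EtMod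

variable {S : Scheme.{u}} {Z X : Sp S} {M : ModEt X}

/-- The trace of a closed subspace on an affine chart. -/
theorem mem_range_map_iff {i : Z ⟶ X} (hi : RepWith @IsClosedImmersion i) (E : EtOver X)
    [IsAffine E.obj.left.left] (u : E.obj.left.left) :
    Points.ofPt E.obj.hom u ∈ Set.range (Points.map i) ↔
      RingHom.ker (πfn hi.1 E) ≤ primeAtPt E.obj.left.left u := by
  constructor
  · rintro ⟨y, hy⟩
    obtain ⟨w, -, rfl⟩ := exists_point_bcE hi.1 E u y hy
    rw [← primeAtPt_comap]
    exact Ideal.comap_mono bot_le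
  · intro hle
    haveI := isAffine_bcE_closed hi E
    have hs := surjective_πfn hi E
    haveI := Ideal.map_isPrime_of_surjective hs hle
    obtain ⟨d, hd⟩ := exists_primeAtPt_eq ((primeAtPt E.obj.left.left u).map (πfn hi.1 E))
    have hdu : bcP hi.1 E d = u := by
      apply primeAtPt_injective
      rw [← primeAtPt_comap, hd]
      change Ideal.comap (πfn hi.1 E) _ = _
      rw [Ideal.comap_map_of_surjective _ hs]
      exact sup_eq_left.2 hle
    exact ⟨_, (map_ofPt_bcE hi.1 E d).trans (congrArg _ hdu)⟩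

/-- A section killed by a function invertible at a point vanishes near it. -/
theorem exists_res_zero_of_not_le {E : EtOver X} [IsAffine E.obj.left.left] (s : sectModEt M E)
    (u : E.obj.left.left) (h : ¬ annSect s ≤ primeAtPt E.obj.left.left u) :
    ∃ (W : EtOver X) (_ : IsAffine W.obj.left.left) (b : W ⟶ E) (w : W.obj.left.left),
      b.hom.left.left w = u ∧ res M b s = 0 := by
  obtain ⟨t, ht, ht'⟩ := SetLike.not_le_iff_exists.1 h
  have hu : u ∈ E.obj.left.left.basicOpen t := by
    rw [Scheme.mem_basicOpen _ _ _ (Set.mem_univ u : u ∈ (⊤ : E.obj.left.left.Opens))]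
    by_contra hnu
    exact ht' hnu
  let O' : E.obj.left.left.Etale := MorphismProperty.Over.mk ⊤ (E.obj.left.left.basicOpen t).ι
    (show Etale _ from inferInstance)
  let E' := (EtOver.ofChart E.obj.hom E.property).obj O'
  let a : E' ⟶ E := EtOver.homMk (EtOver.homOfEtale O') rfl
  haveI : IsAffine E'.obj.left.left := (isAffineOpen_top E.obj.left.left).basicOpen t
  refine ⟨E', inferInstance, a, ⟨u, hu⟩, rfl, ?_⟩
  have hunit : IsUnit (fnMap a t) := by
    by_contra hnu
    obtain ⟨m, hm, hmT⟩ := exists_max_ideal_of_mem_nonunits hnu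
    haveI := hm.isPrime
    obtain ⟨v, hv⟩ := exists_primeAtPt_eq m
    have h1 : t ∈ primeAtPt E.obj.left.left (a.hom.left.left v) := by
      rw [← primeAtPt_comap, hv]
      exact hmT
    exact h1 ((Scheme.mem_basicOpen _ _ _
      (Set.mem_univ _ : a.hom.left.left v ∈ (⊤ : E.obj.left.left.Opens))).1 v.2)
  refine hunit.smul_eq_zero.1 ?_
  rw [← res_smul, show t • s = 0 from ht, map_zero]

/-- Every point of an open set lies on an affine chart inside it. -/
theorem exists_chart_in_open (hX : IsAlgSpace X) {O : Set (Points X)} (hO : IsOpen O) {x : Points X}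
    (hx : x ∈ O) : ∃ (E : EtOver X) (_ : IsAffine E.obj.left.left),
      Set.range (Points.ofPt E.obj.hom) ⊆ O ∧ x ∈ Set.range (Points.ofPt E.obj.hom) := by
  obtain ⟨E, hE, u, rfl⟩ := exists_affine_point hX x
  obtain ⟨V, hV, huV, hle⟩ := exists_isAffineOpen_mem_and_subset
    (X := E.obj.left.left) (U := ⟨_, hO.preimage (Points.continuous_ofPt E.obj.hom)⟩) hx
  let O' : E.obj.left.left.Etale := MorphismProperty.Over.mk ⊤ V.ι (show Etale _ from inferInstance)
  let W := (EtOver.ofChart E.obj.hom E.property).obj O'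
  let j : W ⟶ E := EtOver.homMk (EtOver.homOfEtale O') rfl
  haveI : IsAffine W.obj.left.left := hV
  refine ⟨W, inferInstance, ?_, ⟨⟨u, huV⟩, (ofPt_comp_left j _).symm⟩⟩
  rintro _ ⟨w, rfl⟩
  rw [← ofPt_comp_left j w]
  exact hle w.2

variable (hX : IsAlgSpace X) (p : FieldPt X) (hp : p.IsGeometric)

include hX hp

/-- A module vanishing on a chart has vanishing stalks there. -/
theorem isZero_stalk_of_chart (hM : IsCart M) (E' : EtOver X) [IsAffine E'.obj.left.left]
    (h : ∀ s : sectModEt M E', s = 0) (hpE : Points.mk p ∈ Set.range (Points.ofPt E'.obj.hom)) :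
    IsZero (stalkEt p ((toAbEt X).obj M)) := by
  have key : ∀ z : stk hX p hp M, z = 0 := fun z => by
    obtain ⟨V, y, x, rfl⟩ := (etPoint hX p hp).toPresheafFiber_jointly_surjective z
    obtain ⟨u, hu⟩ := hpE
    obtain ⟨m, -⟩ := exists_lift p hp E' u hu
    obtain ⟨lP, e₁, e₂⟩ := exists_lift_prod p m y
    obtain ⟨W, hW, j, l', hl'⟩ := exists_affine_refine p hp lP
    have h0 : res M (j ≫ EtOver.prodSnd E' V) x = 0 := eq_zero_of_range_subset hM h W (by
      rintro _ ⟨w, rfl⟩
      exact ⟨_, ofPt_comp_left (j ≫ EtOver.prodFst E' V) w⟩) _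
    change germEt hX p hp M y x = 0
    rw [show y = (FieldPt.liftsTo p).map (j ≫ EtOver.prodSnd E' V) l' by
      rw [Functor.map_comp_apply, hl', e₂]]
    refine (GrothendieckTopology.Point.toPresheafFiber_w_apply _ _ _ _ _).symm.trans ?_
    exact (congrArg (germEt hX p hp M l') h0).trans (map_zero _)
  have hsub : Subsingleton (stk hX p hp M) := ⟨fun a b => (key a).trans (key b).symm⟩
  exact @AddCommGrpCat.isZero_of_subsingleton _ hsub

/-- A finite module whose stalk vanishes vanishes near the point. -/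
theorem exists_chart_of_isZero_stalk (hM : IsCart M)
    (hfin : ∀ (E : EtOver X) [IsAffine E.obj.left.left], Module.Finite (fn E) (sectModEt M E))
    (h : IsZero (stalkEt p ((toAbEt X).obj M))) :
    ∃ (E' : EtOver X) (_ : IsAffine E'.obj.left.left),
      Points.mk p ∈ Set.range (Points.ofPt E'.obj.hom) ∧ ∀ s : sectModEt M E', s = 0 := by
  haveI : Subsingleton (stk hX p hp M) := AddCommGrpCat.subsingleton_of_isZero h
  obtain ⟨E, hE, ⟨l⟩⟩ := exists_affine_nbhd hX p hp
  have := hfin E
  obtain ⟨E', hE', a, v, hv, h'⟩ := exists_chart_eq_zero hM (l.1.left (pt₀ p)) fun s => by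
    obtain ⟨W, hW, b, l', hl', hres⟩ :=
      exists_res_eq hX p hp l (Subsingleton.elim (germEt hX p hp M l s) (germEt hX p hp M l 0))
    exact ⟨W, hW, b, l'.1.left (pt₀ p), lift_pt p b l' l hl', hres.trans (map_zero _)⟩
  exact ⟨E', hE', ⟨v, by rw [← ofPt_comp_left a v, hv, ofPt_lift]⟩, h'⟩

/-- Sections killed near a point give a vanishing stalk. -/
theorem isZero_stalk_of_annSect (hM : IsCart M) (E : EtOver X) [IsAffine E.obj.left.left]
    [Module.Finite (fn E) (sectModEt M E)] (u : E.obj.left.left)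
    (hu : Points.ofPt E.obj.hom u = Points.mk p)
    (h : ∀ s : sectModEt M E, ¬ annSect s ≤ primeAtPt E.obj.left.left u) :
    IsZero (stalkEt p ((toAbEt X).obj M)) := by
  obtain ⟨E', hE', a, v, hv, h'⟩ :=
    exists_chart_eq_zero hM u fun s => exists_res_zero_of_not_le s u (h s)
  exact isZero_stalk_of_chart hX p hp hM E' h' ⟨v, by rw [← ofPt_comp_left a v, hv, hu]⟩

/-- A vanishing stalk kills all sections near the point. -/
theorem annSect_not_le_of_isZero_stalk (hM : IsCart M)
    (hfin : ∀ (E : EtOver X) [IsAffine E.obj.left.left], Module.Finite (fn E) (sectModEt M E))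
    (h : IsZero (stalkEt p ((toAbEt X).obj M))) (E : EtOver X) [IsAffine E.obj.left.left]
    (u : E.obj.left.left) (hu : Points.ofPt E.obj.hom u = Points.mk p) (s : sectModEt M E) :
    ¬ annSect s ≤ primeAtPt E.obj.left.left u := by
  obtain ⟨E', hE', ⟨u', hu'⟩, h'⟩ := exists_chart_of_isZero_stalk hX p hp hM hfin h
  obtain ⟨W, hW, a, b, w, ha, -⟩ := exists_common_chart (hu.trans hu'.symm)
  rw [← ha]
  refine annSect_not_le hM a w (eq_zero_of_range_subset hM h' W ?_ _)
  rintro _ ⟨w', rfl⟩
  exact ⟨_, ofPt_comp_left b w'⟩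

omit p hp

/-- A set containing the geometric points with nonvanishing stalk contains the supports of
sections. -/
theorem zeroLocus_annSect_subset (hM : IsCart M)
    (hfin : ∀ (E : EtOver X) [IsAffine E.obj.left.left], Module.Finite (fn E) (sectModEt M E))
    {T : Set (Points X)}
    (hT : ∀ p : FieldPt X, p.IsGeometric → Points.mk p ∉ T → IsZero (stalkEt p ((toAbEt X).obj M)))
    (E : EtOver X) [IsAffine E.obj.left.left] (s : sectModEt M E) :
    E.obj.left.left.zeroLocus (U := ⊤) (annSect s : Set (fn E)) ⊆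
      {w | Points.ofPt E.obj.hom w ∈ T} := by
  intro v hv
  by_contra hvT
  obtain ⟨q, hq, hqv⟩ := exists_geometric (Points.ofPt E.obj.hom v)
  refine annSect_not_le_of_isZero_stalk hX q hq hM hfin (hT q hq (hqv ▸ hvT)) E v hqv.symm s ?_
  exact (mem_zeroLocus_iff_le _ v).1 hv

end Groth.Agent.Lib.EtMod
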