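import Groth.Agent.Lib.EtMod.ClosedScalar

/-!
# Direct images of modules along closed immersions are fully faithful
-/

universe u

set_option backward.isDefEq.respectTransparency false

open CategoryTheory CategoryTheory.Limits AlgebraicGeometry Opposite AlgSp

namespace Groth.Agent.Lib.EtMod

variable {S : Scheme.{u}} {Z X : Sp S} {i : Z ⟶ X} (hi : RepWith @IsClosedImmersion i)

include hi in
theorem pushEt_full_faithful (hX : IsAlgSpace X) :
    (pushEt hi.1 AddCommGrpCat.{u + 1}).Full ∧ (pushEt hi.1 AddCommGrpCat.{u + 1}).Faithful :=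
  Groth.Agent.Lib.AlgSpPush.FullyFaithful.full_faithful
    Groth.Agent.Lib.AlgSpPush.Refine.refProp_isClosedImmersion hi hX _

theorem toAbEt_map_push {G H : ModEt Z} (φ : G ⟶ H) :
    (toAbEt X).map ((pushModEt hi.1).map φ) = (pushEt hi.1 AddCommGrpCat.{u + 1}).map ((toAbEt Z).map φ) :=
  rfl

/-- Sections of a map of abelian sheaves. -/
noncomputable def abSec {G H : ModEt Z} (φ : (toAbEt Z).obj G ⟶ (toAbEt Z).obj H) (D : EtOver Z) :
    sectModEt G D →+ sectModEt H D :=
  (φ.hom.app (op D)).hom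

theorem abSec_res {G H : ModEt Z} (φ : (toAbEt Z).obj G ⟶ (toAbEt Z).obj H) {D D' : EtOver Z} (g : D' ⟶ D)
    (x : sectModEt G D) : abSec φ D' (res G g x) = res H g (abSec φ D x) :=
  NatTrans.naturality_apply φ.hom g.op x

/-- A map of abelian sheaves agreeing with a linear one on base changes is linear. -/
theorem abSec_smul (hX : IsAlgSpace X) {G H : ModEt Z} (φ : (toAbEt Z).obj G ⟶ (toAbEt Z).obj H)
    (ψ : pushM hi.1 G ⟶ pushM hi.1 H)
    (hφ : ∀ (W : EtOver X) (y : sectModEt G (bcE hi.1 W)), abSec φ (bcE hi.1 W) y = secMap ψ W y)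
    (D : EtOver Z) (a : fn D) (x : sectModEt G D) : abSec φ D (a • x) = a • abSec φ D x := by
  choose W hW h b hb hd using exists_scalar_cover hi hX D a
  refine eq_of_cover _ h (fun d => ⟨d, hd d⟩) fun d => ?_
  rw [← abSec_res, res_smul, res_smul, ← abSec_res, ← hb, hφ, hφ]
  exact (secMap ψ (W d)).map_smul (b d) (res G (h d) x)

/-- Direct images along closed immersions are full on modules. -/
theorem pushModEt_full (hX : IsAlgSpace X) : (pushModEt hi.1).Full := by
  refine ⟨fun {G H} ψ => ?_⟩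
  have := (pushEt_full_faithful hi hX).1
  let ψ' : (pushEt hi.1 AddCommGrpCat.{u + 1}).obj ((toAbEt Z).obj G) ⟶
      (pushEt hi.1 AddCommGrpCat.{u + 1}).obj ((toAbEt Z).obj H) := (toAbEt X).map ψ
  obtain ⟨φ, hφ⟩ := (pushEt hi.1 AddCommGrpCat.{u + 1}).map_surjective ψ'
  have hφ' : ∀ (W : EtOver X) (y : sectModEt G (bcE hi.1 W)), abSec φ (bcE hi.1 W) y = secMap ψ W y :=
    fun W y => congrArg (fun χ : (pushEt hi.1 AddCommGrpCat.{u + 1}).obj ((toAbEt Z).obj G) ⟶
      (pushEt hi.1 AddCommGrpCat.{u + 1}).obj ((toAbEt Z).obj H) => (χ.hom.app (op W)).hom y) hφ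
  refine ⟨⟨PresheafOfModules.homMk φ.hom fun D r m => abSec_smul hi hX φ ψ hφ' D.unop r.down m⟩, ?_⟩
  ext W y
  exact hφ' W.unop y

/-- Direct images along closed immersions are faithful on modules. -/
theorem pushModEt_faithful (hX : IsAlgSpace X) : (pushModEt hi.1).Faithful := by
  refine ⟨fun {G H} {φ φ'} h => ?_⟩
  have := (pushEt_full_faithful hi hX).2
  exact (toAbEt Z).map_injective ((pushEt hi.1 AddCommGrpCat.{u + 1}).map_injective
    (((toAbEt_map_push hi φ).symm.trans (congrArg ((toAbEt X).map) h)).trans (toAbEt_map_push hi φ')))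

end Groth.Agent.Lib.EtMod
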