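import Groth.Agent.Lib.EtMod.OfAction
import Groth.Agent.Lib.EtMod.ClosedFF

/-!
# Modules killed by the ideal of a closed immersion are direct images
-/

universe u

set_option backward.isDefEq.respectTransparency false

open CategoryTheory CategoryTheory.Limits AlgebraicGeometry Opposite AlgSp

namespace Groth.Agent.Lib.EtMod

variable {S : Scheme.{u}} {Z X : Sp S} {i : Z ⟶ X} (hi : RepWith @IsClosedImmersion i)
  {F : ModEt X} {G : AbEt Z}
  (e : (pushEt hi.1 AddCommGrpCat.{u + 1}).obj G ≅ (toAbEt X).obj F)

/-- The identification on base changes. -/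
noncomputable def eFun (W : EtOver X) : gsec G (bcE hi.1 W) ≃+ sectModEt F W :=
  (((sheafToPresheaf _ _).mapIso e).app (op W)).addCommGroupIsoToAddEquiv

theorem eFun_res {W W' : EtOver X} (k : W' ⟶ W) (y : gsec G (bcE hi.1 W)) :
    eFun hi e W' (gres G ((EtOver.bc hi.1).map k) y) = res F k (eFun hi e W y) :=
  NatTrans.naturality_apply e.hom.hom k.op y

/-- The operator of a function of the target. -/
noncomputable def opW (W : EtOver X) (b : fn W) (y : gsec G (bcE hi.1 W)) : gsec G (bcE hi.1 W) :=
  (eFun hi e W).symm (b • eFun hi e W y)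

theorem opW_add (W : EtOver X) (b : fn W) (y y' : gsec G (bcE hi.1 W)) :
    opW hi e W b (y + y') = opW hi e W b y + opW hi e W b y' := by
  simp [opW]

theorem add_opW (W : EtOver X) (b b' : fn W) (y : gsec G (bcE hi.1 W)) :
    opW hi e W (b + b') y = opW hi e W b y + opW hi e W b' y := by
  simp [opW, add_smul]

theorem mul_opW (W : EtOver X) (b b' : fn W) (y : gsec G (bcE hi.1 W)) :
    opW hi e W (b * b') y = opW hi e W b (opW hi e W b' y) := by
  simp [opW, mul_smul]

theorem one_opW (W : EtOver X) (y : gsec G (bcE hi.1 W)) : opW hi e W 1 y = y := by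
  simp [opW]

theorem gres_opW_map {W W' : EtOver X} (k : W' ⟶ W) (b : fn W) (y : gsec G (bcE hi.1 W)) :
    gres G ((EtOver.bc hi.1).map k) (opW hi e W b y) = opW hi e W' (fnMap k b) (gres G ((EtOver.bc hi.1).map k) y) := by
  apply (eFun hi e W').injective
  simp only [opW, eFun_res, AddEquiv.apply_symm_apply, res_smul]

variable (hkill : ∀ (W : EtOver X) [IsAffine W.obj.left.left] (b : fn W), πfn hi.1 W b = 0 →
  ∀ s : sectModEt F W, b • s = 0)

include hkill in
theorem opW_congr (W : EtOver X) [IsAffine W.obj.left.left] {b b' : fn W}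
    (h : πfn hi.1 W b = πfn hi.1 W b') (y : gsec G (bcE hi.1 W)) : opW hi e W b y = opW hi e W b' y := by
  have h0 : (b - b') • eFun hi e W y = 0 := hkill W _ (by rw [map_sub, h, sub_self]) _
  rw [sub_smul, sub_eq_zero] at h0
  simp [opW, h0]

theorem πfn_fnMap {W W' : EtOver X} (k : W' ⟶ W) (b : fn W) :
    fnMap ((EtOver.bc hi.1).map k) (πfn hi.1 W b) = πfn hi.1 W' (fnMap k b) := by
  have h := congrArg (fun k => (Scheme.Hom.appTop k).hom b) (isPullback_bc hi.1 k).w
  simp only [Scheme.Hom.comp_appTop, CommRingCat.hom_comp, RingHom.comp_apply] at h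
  exact h

include hkill in
theorem gres_opW {W W' : EtOver X} [IsAffine W.obj.left.left] [IsAffine W'.obj.left.left]
    (m : bcE hi.1 W' ⟶ bcE hi.1 W) {b : fn W} {b' : fn W'}
    (h : fnMap m (πfn hi.1 W b) = πfn hi.1 W' b') (y : gsec G (bcE hi.1 W)) :
    gres G m (opW hi e W b y) = opW hi e W' b' (gres G m y) := by
  choose V hV k l hkl hx using exists_bc_local hi m
  refine gres_ext G _ (fun x => (EtOver.bc hi.1).map (k x)) (fun x => ⟨x, hx x⟩) fun x => ?_
  have := hV x
  rw [← gres_comp, hkl, gres_opW_map, gres_opW_map, ← gres_comp, hkl]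
  refine opW_congr hi e hkill (V x) ?_ _
  rw [← πfn_fnMap hi, ← πfn_fnMap hi, ← h, ← fnMap_comp_apply, hkl]

/-- The defining property of the action. -/
def Good (D : EtOver Z) (a : fn D) (x t : gsec G D) : Prop :=
  ∀ (W : EtOver X) [IsAffine W.obj.left.left] (h : bcE hi.1 W ⟶ D) (b : fn W),
    πfn hi.1 W b = fnMap h a → gres G h t = opW hi e W b (gres G h x)

theorem good_unique (hX : IsAlgSpace X) {D : EtOver Z} {a : fn D} {x t t' : gsec G D}
    (ht : Good hi e D a x t) (ht' : Good hi e D a x t') : t = t' := by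
  choose W hW h b hb hd using exists_scalar_cover hi hX D a
  refine gres_ext G _ h (fun d => ⟨d, hd d⟩) fun d => ?_
  have := hW d
  rw [ht (W d) (h d) (b d) (hb d), ht' (W d) (h d) (b d) (hb d)]

include hkill in
theorem opW_compat (hX : IsAlgSpace X) {D : EtOver Z} (a : fn D) (x : gsec G D)
    {W W' : EtOver X} [IsAffine W.obj.left.left] [IsAffine W'.obj.left.left]
    (h : bcE hi.1 W ⟶ D) (h' : bcE hi.1 W' ⟶ D) {b : fn W} {b' : fn W'}
    (hb : πfn hi.1 W b = fnMap h a) (hb' : πfn hi.1 W' b' = fnMap h' a) :
    gres G (EtOver.pullbackFst h h') (opW hi e W b (gres G h x)) =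
      gres G (EtOver.pullbackSnd h h') (opW hi e W' b' (gres G h' x)) := by
  choose V hV m c hc hp using
    exists_scalar_cover hi hX (EtOver.pullbackObj h h') (fnMap (EtOver.pullbackFst h h' ≫ h) a)
  refine gres_ext G _ m (fun p => ⟨p, hp p⟩) fun p => ?_
  have := hV p
  rw [← gres_comp, ← gres_comp, gres_opW hi e hkill (m p ≫ EtOver.pullbackFst h h') (b' := c p),
    gres_opW hi e hkill (m p ≫ EtOver.pullbackSnd h h') (b' := c p), ← gres_comp, ← gres_comp]
  · simp only [Category.assoc, EtOver.pullback_condition]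
  · rw [hb', hc, ← fnMap_comp_apply, ← fnMap_comp_apply]
    simp only [Category.assoc, EtOver.pullback_condition]
  · rw [hb, hc, ← fnMap_comp_apply, ← fnMap_comp_apply]
    simp only [Category.assoc]

include hkill in
theorem exists_good (hX : IsAlgSpace X) (D : EtOver Z) (a : fn D) (x : gsec G D) :
    ∃ t, Good hi e D a x t := by
  choose W hW h b hb hd using exists_scalar_cover hi hX D a
  obtain ⟨t, ht⟩ := exists_gres_glue G (fun d => bcE hi.1 (W d)) h (fun d => ⟨d, hd d⟩)
    (fun d => opW hi e (W d) (b d) (gres G (h d) x)) (fun d d' => by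
      have := hW d
      have := hW d'
      exact opW_compat hi e hkill hX a x (h d) (h d') (hb d) (hb d'))
  refine ⟨t, fun W' _ h' b' hb' => ?_⟩
  refine gres_ext G _ (fun d => EtOver.pullbackFst h' (h d)) (fun w => ?_) fun d => ?_
  · exact ⟨h'.hom.left.left w, exists_pullbackFst_preimage h' (h _) (hd _)⟩
  · have := hW d
    rw [← gres_comp, EtOver.pullback_condition, gres_comp, ht]
    exact (opW_compat hi e hkill hX a x h' (h d) hb' (hb d)).symm

/-- The action of functions. -/
noncomputable def closedAct (hX : IsAlgSpace X) : FnAction G where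
  act D a x := (exists_good hi e hkill hX D a x).choose
  act_add D a x y := good_unique hi e hX (exists_good hi e hkill hX D a (x + y)).choose_spec
    fun W _ h b hb => by
      rw [map_add, (exists_good hi e hkill hX D a x).choose_spec W h b hb,
        (exists_good hi e hkill hX D a y).choose_spec W h b hb, map_add, opW_add]
  add_act D a a' x := good_unique hi e hX (exists_good hi e hkill hX D (a + a') x).choose_spec
    fun W _ h b hb => by
      obtain ⟨c, hc⟩ := surjective_πfn hi W (fnMap h a)
      obtain ⟨c', hc'⟩ := surjective_πfn hi W (fnMap h a')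
      rw [map_add, (exists_good hi e hkill hX D a x).choose_spec W h c hc,
        (exists_good hi e hkill hX D a' x).choose_spec W h c' hc', ← add_opW]
      exact opW_congr hi e hkill W (by rw [hb, map_add, map_add, hc, hc']) _
  mul_act D a a' x := good_unique hi e hX (exists_good hi e hkill hX D (a * a') x).choose_spec
    fun W _ h b hb => by
      obtain ⟨c, hc⟩ := surjective_πfn hi W (fnMap h a)
      obtain ⟨c', hc'⟩ := surjective_πfn hi W (fnMap h a')
      rw [(exists_good hi e hkill hX D a _).choose_spec W h c hc,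
        (exists_good hi e hkill hX D a' x).choose_spec W h c' hc', ← mul_opW]
      exact opW_congr hi e hkill W (by rw [hb, map_mul, map_mul, hc, hc']) _
  one_act D x := good_unique hi e hX (exists_good hi e hkill hX D 1 x).choose_spec
    fun W _ h b hb => by
      rw [opW_congr hi e hkill W (b' := 1) (by rw [hb, map_one, map_one]), one_opW]
  act_res {D D'} g a x := good_unique hi e hX
    (fun W _ h b hb => by
      rw [← gres_comp, (exists_good hi e hkill hX D a x).choose_spec W (h ≫ g) b
        (by rw [hb, fnMap_comp_apply]), gres_comp])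
    (exists_good hi e hkill hX D' (fnMap g a) (gres G g x)).choose_spec

theorem eFun_smul (hX : IsAlgSpace X) (W : EtOver X) [IsAffine W.obj.left.left] (b : fn W)
    (y : gsec G (bcE hi.1 W)) :
    eFun hi e W ((closedAct hi e hkill hX).act (bcE hi.1 W) (πfn hi.1 W b) y) = b • eFun hi e W y := by
  have h := (exists_good hi e hkill hX (bcE hi.1 W) (πfn hi.1 W b) y).choose_spec W (𝟙 _) b
    (fnMap_id_apply _ _).symm
  have hid : ∀ z : gsec G (bcE hi.1 W), gres G (𝟙 (bcE hi.1 W)) z = z := fun z =>
    ConcreteCategory.congr_hom (G.obj.map_id (op (bcE hi.1 W))) z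
  rw [hid, hid] at h
  refine (congrArg (eFun hi e W) h).trans ?_
  exact (eFun hi e W).apply_symm_apply _

theorem eq_of_affine_smul (hX : IsAlgSpace X) (E : EtOver X) (b : fn E) (y : gsec G (bcE hi.1 E)) :
    eFun hi e E ((closedAct hi e hkill hX).act (bcE hi.1 E) (πfn hi.1 E b) y) = b • eFun hi e E y := by
  obtain ⟨ι, U, j, hU, hj⟩ := exists_affine_cover_obj E
  refine eq_of_cover U j hj fun t => ?_
  have := hU t
  rw [← eFun_res, (closedAct hi e hkill hX).act_res, πfn_fnMap hi, eFun_smul, eFun_res, res_smul]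

/-- The direct image of the module structure is the module. -/
theorem exists_iso_push (hX : IsAlgSpace X) :
    Nonempty (pushM hi.1 (closedAct hi e hkill hX).toModEt ≅ F) := by
  let A := closedAct hi e hkill hX
  let φ : pushM hi.1 A.toModEt ⟶ F := ⟨PresheafOfModules.homMk e.hom.hom fun E r y => by
    exact eq_of_affine_smul hi e hkill hX E.unop r.down y⟩
  have : IsIso ((toAbEt X).map φ) := by
    rw [show (toAbEt X).map φ = e.hom from rfl]
    infer_instance
  have := isIso_of_reflects_iso φ (toAbEt X)
  exact ⟨asIso φ⟩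

end Groth.Agent.Lib.EtMod
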