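import Groth.Agent.Lib.EtMod.Push
import Mathlib.RingTheory.TensorProduct.IsBaseChangePi

/-!
# Sections of modules as modules over rings mapping to the functions
-/

universe u

set_option backward.isDefEq.respectTransparency false

open CategoryTheory CategoryTheory.Limits AlgebraicGeometry Opposite AlgSp

namespace Groth.Agent.Lib.EtMod

variable {S : Scheme.{u}} {X : Sp S} (M : ModEt X)

/-- Sections as a module over a ring mapping to the functions. -/
def RSec {A : Type u} [CommRing A] {W : EtOver X} (_ρ : A →+* fn W) : Type (u + 1) := sectModEt M W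

variable {A B : Type u} [CommRing A] [CommRing B] {W W' : EtOver X}

noncomputable instance (ρ : A →+* fn W) : AddCommGroup (RSec M ρ) :=
  inferInstanceAs (AddCommGroup (sectModEt M W))

noncomputable instance (ρ : A →+* fn W) : Module A (RSec M ρ) :=
  Module.compHom (sectModEt M W) ρ

/-- Restriction of sections. -/
noncomputable def rsecRes (k : W' ⟶ W) (ρ : A →+* fn W) (ρ' : A →+* fn W')
    (h : ∀ a, fnMap k (ρ a) = ρ' a) : RSec M ρ →ₗ[A] RSec M ρ' where
  toFun s := res M k s
  map_add' := map_add (res M k)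
  map_smul' a s := (res_smul k (ρ a) s).trans (congrArg (· • res M k s) (h a))

/-- Restriction of sections over a change of rings. -/
noncomputable def rsecSemi (k : W' ⟶ W) (ρ : A →+* fn W) (ρ' : B →+* fn W') :
    RSec M ρ →+ RSec M ρ' :=
  res M k

theorem rsecSemi_smul (k : W' ⟶ W) (ρ : A →+* fn W) (ρ' : B →+* fn W') (g : A →+* B)
    (h : ∀ a, fnMap k (ρ a) = ρ' (g a)) (a : A) (s : RSec M ρ) :
    rsecSemi M k ρ ρ' (a • s) = g a • rsecSemi M k ρ ρ' s :=
  (res_smul k (ρ a) s).trans (congrArg (· • res M k s) (h a))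

noncomputable instance rsecTop (ρ : A →+* fn W) : Module (fn W) (RSec M ρ) :=
  secModule (M := M) W

/-- Restriction as a semilinear map between modules over the functions. -/
theorem rsecSemi_top_smul (k : W' ⟶ W) (ρ : A →+* fn W) (ρ' : B →+* fn W') (a : fn W) (s : RSec M ρ) :
    rsecSemi M k ρ ρ' (a • s) = fnMap k a • rsecSemi M k ρ ρ' s :=
  res_smul k a s

theorem rsec_smul (ρ : A →+* fn W) (a : A) (s : RSec M ρ) : a • s = ρ a • s :=
  rfl

/-- Base changes of sections seen over the functions. -/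
theorem bcProp_top {k : W' ⟶ W} (h : IsBC M k) (ρ : A →+* fn W) (ρ' : B →+* fn W') :
    BCProp (fnMap k) (rsecSemi M k ρ ρ') (rsecSemi_top_smul M k ρ ρ') :=
  h

/-- Base changes along pushouts of rings of functions. -/
theorem bcProp_rsecSemi {k : W' ⟶ W} (h : IsBC M k) (ρ : A →+* fn W) (ρ' : B →+* fn W') (g : A →+* B)
    (hc : ∀ a, fnMap k (ρ a) = ρ' (g a))
    (po : IsPushout (CommRingCat.ofHom g) (CommRingCat.ofHom ρ) (CommRingCat.ofHom ρ')
      (CommRingCat.ofHom (fnMap k))) :
    BCProp g (rsecSemi M k ρ ρ') (rsecSemi_smul M k ρ ρ' g hc) :=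
  bcProp_of_pushout g ρ ρ' (fnMap k) po (rsec_smul M ρ) (rsec_smul M ρ') _
    (rsecSemi_top_smul M k ρ ρ') _ (bcProp_top M h ρ ρ')

section Algebra

variable (g : A →+* B)

/-- A product of base changes. -/
theorem bcProp_pi {ι : Type*} [Finite ι] [Small.{u + 1} ι] {P Q : ι → Type (u + 1)}
    [∀ i, AddCommGroup (P i)] [∀ i, AddCommGroup (Q i)] [∀ i, Module A (P i)] [∀ i, Module B (Q i)]
    (r : ∀ i, P i →+ Q i) (hr : ∀ i a p, r i (a • p) = g a • r i p) (h : ∀ i, BCProp g (r i) (hr i)) :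
    letI := g.toAlgebra
    letI : ∀ i, Module A (Q i) := fun i => Module.compHom (Q i) g
    haveI : ∀ i, IsScalarTower A B (Q i) := fun i => IsScalarTower.of_algebraMap_smul fun _ _ => rfl
    IsBaseChange B (LinearMap.pi fun i => ({ toFun := r i, map_add' := map_add _, map_smul' := hr i } :
      P i →ₗ[A] Q i) ∘ₗ LinearMap.proj i) := by
  let := g.toAlgebra
  let : ∀ i, Module A (Q i) := fun i => Module.compHom (Q i) g
  have : ∀ i, IsScalarTower A B (Q i) := fun i => IsScalarTower.of_algebraMap_smul fun _ _ => rfl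
  exact IsBaseChange.pi _ h

/-- Flat base change of an equalizer of finite products. -/
theorem bcProp_of_equalizer (hg : g.Flat) {ι κ : Type} [Finite ι] [Finite κ]
    {P₀ Q₀ : Type (u + 1)} [AddCommGroup P₀] [AddCommGroup Q₀] [Module A P₀] [Module B Q₀]
    {P : ι → Type (u + 1)} {Q : ι → Type (u + 1)} {P' : κ → Type (u + 1)} {Q' : κ → Type (u + 1)}
    [∀ i, AddCommGroup (P i)] [∀ i, AddCommGroup (Q i)] [∀ i, Module A (P i)] [∀ i, Module B (Q i)]
    [∀ i, AddCommGroup (P' i)] [∀ i, AddCommGroup (Q' i)] [∀ i, Module A (P' i)] [∀ i, Module B (Q' i)]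
    (r₀ : P₀ →+ Q₀) (h₀ : ∀ a p, r₀ (a • p) = g a • r₀ p)
    (r : ∀ i, P i →+ Q i) (hr : ∀ i a p, r i (a • p) = g a • r i p) (h : ∀ i, BCProp g (r i) (hr i))
    (r' : ∀ i, P' i →+ Q' i) (hr' : ∀ i a p, r' i (a • p) = g a • r' i p)
    (h' : ∀ i, BCProp g (r' i) (hr' i))
    (c : ∀ i, P₀ →ₗ[A] P i) (d : (∀ i, P i) →ₗ[A] ∀ j, P' j)
    (hc : Function.Injective (LinearMap.pi c)) (hex : Function.Exact (LinearMap.pi c) d)
    (c' : ∀ i, Q₀ →ₗ[B] Q i) (d' : (∀ i, Q i) →ₗ[B] ∀ j, Q' j)
    (hc' : Function.Injective (LinearMap.pi c')) (hd' : ∀ q, d' (LinearMap.pi c' q) = 0)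
    (e₁ : ∀ i p, c' i (r₀ p) = r i (c i p))
    (e₂ : ∀ x j, d' (fun i => r i (x i)) j = r' j (d x j)) : BCProp g r₀ h₀ := by
  unfold BCProp
  let := g.toAlgebra
  let := Module.compHom Q₀ g
  let : ∀ i, Module A (Q i) := fun i => Module.compHom (Q i) g
  let : ∀ i, Module A (Q' i) := fun i => Module.compHom (Q' i) g
  have : IsScalarTower A B Q₀ := IsScalarTower.of_algebraMap_smul fun _ _ => rfl
  have : ∀ i, IsScalarTower A B (Q i) := fun i => IsScalarTower.of_algebraMap_smul fun _ _ => rfl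
  have : ∀ i, IsScalarTower A B (Q' i) := fun i => IsScalarTower.of_algebraMap_smul fun _ _ => rfl
  have : Module.Flat A B := hg
  exact Alg.isBaseChange_of_exact (bcProp_pi g r hr h) (bcProp_pi g r' hr' h') (r := LinearMap.pi c) (d := d)
    hc hex (s := LinearMap.pi c') (d' := d') hc' hd' (fun p => funext fun i => e₁ i p)
    (fun x => funext fun j => e₂ x j)

end Algebra

end Groth.Agent.Lib.EtMod
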