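import Groth.Agent.Lib.EtMod.ClosedScalar
import Groth.Agent.Lib.EtMod.RSec
import Groth.Agent.Lib.EtMod.FPSec

/-!
# Quasi-coherence descends along direct images by closed immersions
-/

universe u

set_option backward.isDefEq.respectTransparency false

open CategoryTheory CategoryTheory.Limits AlgebraicGeometry Opposite AlgSp
open TensorProduct

namespace Groth.Agent.Lib.EtMod

/-- A base change along the original map is a base change along the pushout. -/
theorem Alg.isBaseChange_to_pushout {A B A' B' : Type u} [CommRing A] [CommRing B] [CommRing A'] [CommRing B']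
    [Algebra A B] [Algebra A A'] [Algebra A B'] [Algebra B B'] [Algebra A' B'] [IsScalarTower A B B']
    [IsScalarTower A A' B'] [Algebra.IsPushout A B A' B'] {P Q : Type (u + 1)} [AddCommGroup P] [AddCommGroup Q]
    [Module A P] [Module A' P] [IsScalarTower A A' P] [Module A Q] [Module B Q] [Module A' Q] [Module B' Q]
    [IsScalarTower A B Q] [IsScalarTower A A' Q] [IsScalarTower A' B' Q] [IsScalarTower B B' Q]
    {g : P →ₗ[A'] Q} (hg : IsBaseChange B (g.restrictScalars A)) : IsBaseChange B' g := by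
  let c := Algebra.IsPushout.cancelBaseChange A B A' B' P
  let Φ : B' ⊗[A'] P →ₗ[B'] Q := LinearMap.liftBaseChange B' g
  have key : ∀ z, Φ (c.symm z) = hg.equiv z := fun z => by
    induction z using TensorProduct.induction_on with
    | zero => simp
    | tmul b p =>
      simp [Φ, c, IsBaseChange.equiv_tmul, LinearMap.liftBaseChange_tmul]
    | add x y hx hy => simp only [map_add, hx, hy]
  have hbij : Function.Bijective Φ := by
    have : ⇑Φ = hg.equiv ∘ c := funext fun w => by
      rw [Function.comp_apply, ← key, LinearEquiv.symm_apply_apply]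
    rw [this]
    exact hg.equiv.bijective.comp c.bijective
  exact IsBaseChange.of_equiv (LinearEquiv.ofBijective Φ hbij) fun p =>
    (LinearMap.liftBaseChange_tmul B' g 1 p).trans (one_smul B' _)

/-- Base changes along a pushout square, conversely. -/
theorem bcProp_to_pushout {A B A' B' : Type u} [CommRing A] [CommRing B] [CommRing A'] [CommRing B']
    (g : A →+* B) (π : A →+* A') (π' : B →+* B') (g' : A' →+* B')
    (po : IsPushout (CommRingCat.ofHom g) (CommRingCat.ofHom π) (CommRingCat.ofHom π') (CommRingCat.ofHom g'))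
    {P Q : Type (u + 1)} [AddCommGroup P] [AddCommGroup Q] [Module A' P] [Module B' Q] [Module A P]
    [Module B Q] (hP : ∀ (a : A) (p : P), a • p = π a • p) (hQ : ∀ (b : B) (q : Q), b • q = π' b • q)
    (r : P →+ Q) (hr : ∀ a p, r (a • p) = g' a • r p) (hr' : ∀ a p, r (a • p) = g a • r p)
    (h : BCProp g r hr') : BCProp g' r hr := by
  have hcomm : ∀ a, π' (g a) = g' (π a) := fun a => congrArg (fun k => k.hom a) po.w
  let := g.toAlgebra
  let := π.toAlgebra
  let := π'.toAlgebra
  let := g'.toAlgebra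
  let := (π'.comp g).toAlgebra
  let := Module.compHom Q g
  let := Module.compHom Q g'
  have : IsScalarTower A B B' := .of_algebraMap_eq fun _ => rfl
  have : IsScalarTower A A' B' := .of_algebraMap_eq hcomm
  have : Algebra.IsPushout A B A' B' := CommRingCat.isPushout_iff_isPushout.1 po
  have : IsScalarTower A A' P := .of_algebraMap_smul fun a p => (hP a p).symm
  have : IsScalarTower A B Q := .of_algebraMap_smul fun _ _ => rfl
  have : IsScalarTower B B' Q := .of_algebraMap_smul fun b q => (hQ b q).symm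
  have : IsScalarTower A' B' Q := .of_algebraMap_smul fun _ _ => rfl
  have : IsScalarTower A A' Q := .of_algebraMap_smul fun a q => by
    change g' (π a) • q = g a • q
    rw [hQ, hcomm]
  let F : P →ₗ[A'] Q := { toFun := r, map_add' := map_add _, map_smul' := hr }
  have h' : IsBaseChange B (F.restrictScalars A) := h
  have h2 : IsBaseChange B' F := Alg.isBaseChange_to_pushout (A := A) (B := B) (A' := A') (B' := B') h'
  exact h2

variable {S : Scheme.{u}} {Z X : Sp S} {i : Z ⟶ X} (hi : RepWith @IsClosedImmersion i) {M : ModEt Z}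

theorem bcProp_push_rsec (hpush : IsCart (pushM hi.1 M)) {W W' : EtOver X} [IsAffine W.obj.left.left]
    [IsAffine W'.obj.left.left] (l : W' ⟶ W)
    (hc : ∀ a, fnMap ((EtOver.bc hi.1).map l) (πfn hi.1 W a) = πfn hi.1 W' (fnMap l a)) :
    BCProp (fnMap l) (rsecSemi M ((EtOver.bc hi.1).map l) (πfn hi.1 W) (πfn hi.1 W'))
      (rsecSemi_smul M _ _ _ (fnMap l) hc) :=
  hpush l

theorem isBC_bc_map (hpush : IsCart (pushM hi.1 M)) {W W' : EtOver X} [IsAffine W.obj.left.left]
    [IsAffine W'.obj.left.left] (l : W' ⟶ W) : IsBC M ((EtOver.bc hi.1).map l) := by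
  have := isAffine_bcE_closed hi W
  have := isAffine_bcE_closed hi W'
  have hc : ∀ a, fnMap ((EtOver.bc hi.1).map l) (πfn hi.1 W a) = πfn hi.1 W' (fnMap l a) := fun a => by
    have h := congrArg (fun k => (Scheme.Hom.appTop k).hom a) (isPullback_bc hi.1 l).w
    simp only [Scheme.Hom.comp_appTop, CommRingCat.hom_comp, RingHom.comp_apply] at h
    exact h
  exact bcProp_to_pushout (fnMap l) (πfn hi.1 W) (πfn hi.1 W') (fnMap ((EtOver.bc hi.1).map l))
    (isPushout_appTop_of_isPullback (isPullback_bc hi.1 l).flip)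
    (rsec_smul M (πfn hi.1 W)) (rsec_smul M (πfn hi.1 W')) _ (rsecSemi_top_smul M _ _ _) _
    (bcProp_push_rsec hi hpush l hc)

/-- Every object over a base change is covered by base changes of morphisms. -/
theorem exists_bc_over (hX : IsAlgSpace X) {W : EtOver X} {V : EtOver Z} (g : V ⟶ bcE hi.1 W)
    (v : V.obj.left.left) :
    ∃ (W' : EtOver X) (_ : IsAffine W'.obj.left.left) (n : bcE hi.1 W' ⟶ V) (l : W' ⟶ W),
      n ≫ g = (EtOver.bc hi.1).map l ∧ v ∈ Set.range n.hom.left.left := by
  obtain ⟨W₁, hW₁, h, w, hw⟩ := exists_bc_affine hi hX V v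
  obtain ⟨W', hW', k, l, hkl, y, hy⟩ := exists_bc_local hi (h ≫ g) w
  refine ⟨W', hW', (EtOver.bc hi.1).map k ≫ h, l, by rw [Category.assoc, hkl], y, ?_⟩
  change h.hom.left.left (((EtOver.bc hi.1).map k).hom.left.left y) = v
  rw [hy, hw]

/-- Base changes of affine objects cover. -/
theorem coversTop_bc_affine (hX : IsAlgSpace X) :
    (etTop Z).CoversTop fun E : {E : EtOver X // IsAffine E.obj.left.left} => bcE hi.1 E.1 := by
  intro D
  choose W hW h hd using exists_bc_affine hi hX D
  refine (etTop Z).superset_covering ?_ (ofArrows_mem_etTop (fun d => bcE hi.1 (W d)) h fun d => ⟨d, hd d⟩)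
  intro T k hk
  obtain ⟨_, c, _, ⟨d⟩, rfl⟩ := hk
  exact (Sieve.mem_ofObjects_iff ..).mpr ⟨⟨W d, hW d⟩, ⟨c⟩⟩


theorem secHom_secHom_comp {X₀ E V W T : EtOver Z} {P : SliceMod X₀} {f : E ⟶ X₀} (c : T ⟶ W) (n : W ⟶ V)
    (g : V ⟶ E) (m : Sec P f g) :
    secHom P f c (Category.assoc c n g).symm (secHom P f n rfl m) = secHom P f (c ≫ n) rfl m :=
  sres_comp P n c _ _ _ m

theorem rTensor_fnHom_comp {E V W T : EtOver Z} (c : T ⟶ W) (n : W ⟶ V) (g : V ⟶ E) {N : Type (u + 1)}
    [AddCommGroup N] [Module (fn E) N] (z : Fn g ⊗[fn E] N) :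
    (fnHom (c ≫ n) (rfl : (c ≫ n) ≫ g = (c ≫ n) ≫ g)).toLinearMap.rTensor N z =
      (fnHom c (Category.assoc c n g).symm).toLinearMap.rTensor N
        ((fnHom n (rfl : n ≫ g = n ≫ g)).toLinearMap.rTensor N z) := by
  rw [← LinearMap.comp_apply, ← LinearMap.rTensor_comp]
  exact congrArg (fun φ => (LinearMap.rTensor N φ) z) (LinearMap.ext fun b => fnMap_comp_apply c n b)

/-- Bijectivity from a covering on which it holds. -/
theorem bijective_tens_of_cover {X₀ E : EtOver Z} {P : SliceMod X₀} {f : E ⟶ X₀} [IsAffine E.obj.left.left]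
    {N : Type (u + 1)} [AddCommGroup N] [Module (fn E) N] (θ : N →ₗ[fn E] SSec P f)
    (hcov : ∀ ⦃V : EtOver Z⦄ [IsAffine V.obj.left.left] (g : V ⟶ E) (v : V.obj.left.left),
      ∃ (W : EtOver Z) (n : W ⟶ V), Function.Bijective (tens θ (n ≫ g)) ∧ v ∈ Set.range n.hom.left.left)
    ⦃V : EtOver Z⦄ [IsAffine V.obj.left.left] (g : V ⟶ E) : Function.Bijective (tens θ g) := by
  refine bijective_tens θ (fun V _ g z hz => ?_) (fun V _ g m => ?_) g
  · choose W n hn hv using hcov g
    refine ⟨Sieve.ofArrows W n, ofArrows_mem_etTop _ n fun v => ⟨v, hv v⟩, fun T _ j hj => ?_⟩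
    obtain ⟨_, c, _, ⟨v⟩, rfl⟩ := hj
    have h0 : (fnHom (n v) (rfl : n v ≫ g = n v ≫ g)).toLinearMap.rTensor N z = 0 :=
      (hn v).1 (by rw [map_zero, tens_rTensor, hz, map_zero])
    rw [rTensor_fnHom_comp, h0, map_zero]
  · choose W n hn hv using hcov g
    refine ⟨Sieve.ofArrows W n, ofArrows_mem_etTop _ n fun v => ⟨v, hv v⟩, fun T _ j hj => ?_⟩
    obtain ⟨_, c, _, ⟨v⟩, rfl⟩ := hj
    obtain ⟨z, hz⟩ := (hn v).2 (secHom P f (n v) rfl m)
    refine ⟨(fnHom c (Category.assoc c (n v) g).symm).toLinearMap.rTensor N z, ?_⟩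
    rw [tens_rTensor, hz]
    exact secHom_secHom_comp c (n v) g m

theorem bijective_tens_bc (hX : IsAlgSpace X) (hpush : IsCart (pushM hi.1 M)) {W : EtOver X}
    [IsAffine W.obj.left.left] [IsAffine (bcE hi.1 W).obj.left.left] ⦃V : EtOver Z⦄
    [IsAffine V.obj.left.left] (g : V ⟶ bcE hi.1 W) :
    Function.Bijective (tens (LinearMap.id :
      SSec (M.over (bcE hi.1 W)) (𝟙 _) →ₗ[fn (bcE hi.1 W)] SSec (M.over (bcE hi.1 W)) (𝟙 _)) g) := by
  refine bijective_tens_of_cover _ (fun V _ g v => ?_) g
  obtain ⟨W', hW', n, l, hl, hv⟩ := exists_bc_over hi hX g v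
  exact ⟨_, n, bijective_tens_of_isBaseChange (P := M.over (bcE hi.1 W)) _
    (hl.symm ▸ isBC_bc_map hi hpush l), hv⟩

/-- Quasi-coherence of a module with cartesian direct image. -/
theorem isQuasicoherent_of_push (hX : IsAlgSpace X) (hpush : IsCart (pushM hi.1 M)) : M.IsQuasicoherent :=
  SheafOfModules.QuasicoherentData.isQuasicoherent (M := M)
    { I := {E : EtOver X // IsAffine E.obj.left.left}
      X := fun E => bcE hi.1 E.1
      coversTop := coversTop_bc_affine hi hX
      presentation := fun E =>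
        have := E.2
        have := isAffine_bcE_closed hi E.1
        presentationOfBijective fun _ _ g => bijective_tens_bc hi hX hpush g }

/-- Finite presentation of a module with finitely presented direct image over a Noetherian base. -/
theorem isFinitePresentation_of_push (hX : IsAlgSpace X) (hZN : IsLocNoethSp Z)
    [(pushM hi.1 M).IsFinitePresentation] : M.IsFinitePresentation := by
  have := isQuasicoherent_of_push hi hX (M := M) (isCart_of_isQuasicoherent (pushM hi.1 M))
  haveI : ∀ E : {E : EtOver X // IsAffine E.obj.left.left}, IsAffine (bcE hi.1 E.1).obj.left.left := fun E =>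
    have := E.2
    isAffine_bcE_closed hi E.1
  refine isFinitePresentation_of_fp (isCart_of_isQuasicoherent M) _ (coversTop_bc_affine hi hX) fun E => ?_
  have := E.2
  have := isNoetherianRing_fn hZN (bcE hi.1 E.1)
  let := (πfn hi.1 E.1).toAlgebra
  let := bcModule hi.1 M E.1
  have : IsScalarTower (fn E.1) (fn (bcE hi.1 E.1)) (sectModEt M (bcE hi.1 E.1)) :=
    .of_algebraMap_smul fun _ _ => rfl
  have : Module.Finite (fn E.1) (sectModEt M (bcE hi.1 E.1)) :=
    finite_of_isFinitePresentation (M := pushM hi.1 M) E.1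
  have : Module.Finite (fn (bcE hi.1 E.1)) (sectModEt M (bcE hi.1 E.1)) :=
    Module.Finite.of_restrictScalars_finite (fn E.1) _ _
  exact Module.finitePresentation_of_finite _ _

end Groth.Agent.Lib.EtMod
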