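import Groth.Agent.Lib.EtMod.ClosedEss
import Groth.Agent.Lib.EtMod.ClosedQCoh
import Groth.Agent.Lib.AlgSpPush.Essential
import Groth.Agent.Lib.AlgSpMor.MonoLft
import Groth.Agent.Lib.AlgSpLimit.ClosedTransitions

/-!
# The essential image of modules under a closed immersion
-/

universe u

set_option backward.isDefEq.respectTransparency false

open CategoryTheory CategoryTheory.Limits AlgebraicGeometry Opposite AlgSp

namespace Groth.Agent.Lib.EtMod

variable {S : Scheme.{u}} {Z X : Sp S} {i : Z ⟶ X} (hi : RepWith @IsClosedImmersion i)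

theorem subsingleton_of_disjoint {F : ModEt X}
    (hkill : ∀ (W : EtOver X) [IsAffine W.obj.left.left] (b : fn W), πfn hi.1 W b = 0 →
      ∀ s : sectModEt F W, b • s = 0)
    (E : EtOver X) [IsEmpty (bcE hi.1 E).obj.left.left] (s t : sectModEt F E) : s = t := by
  obtain ⟨ι, U, j, hU, hj⟩ := exists_affine_cover_obj E
  refine eq_of_cover U j hj fun k => ?_
  have := hU k
  have : IsEmpty (bcE hi.1 (U k)).obj.left.left :=
    ⟨fun w => IsEmpty.false (((EtOver.bc hi.1).map (j k)).hom.left.left w)⟩
  have h1 : πfn hi.1 (U k) 1 = 0 := Subsingleton.elim _ _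
  rw [← one_smul (fn (U k)) (res F (j k) s), ← one_smul (fn (U k)) (res F (j k) t), hkill _ _ h1, hkill _ _ h1]

include hi in
/-- Closed immersions are integral and universally injective. -/
theorem integral_univInj : RepWith @IsIntegralHom i ∧ IsUnivInjectiveMor i := by
  refine ⟨⟨hi.1, fun T W a fst snd sq => ?_⟩, ?_⟩
  · have : IsClosedImmersion snd.left := hi.2 a fst snd sq
    change IsIntegralHom snd.left
    infer_instance
  · have := Groth.Agent.Lib.AlgSpLimit.mono_of_closedImm hi
    exact Groth.Agent.Lib.AlgSpMor.MonoLft.isUnivInjectiveMor_of_mono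

/-- Modules killed by the ideal are direct images. -/
theorem exists_push_iso (hZ : IsAlgSpace Z) (hX : IsAlgSpace X) (F : ModEt X)
    (hkill : ∀ (W : EtOver X) [IsAffine W.obj.left.left] (b : fn W), πfn hi.1 W b = 0 →
      ∀ s : sectModEt F W, b • s = 0) :
    ∃ G : ModEt Z, Nonempty (pushM hi.1 G ≅ F) := by
  have hii := integral_univInj hi
  have hu := hii.2
  have := Groth.Agent.Lib.AlgSpPush.Essential.isIso_unit hii.1 hu hZ hX ((toAbEt X).obj F) fun E hE => by
    have : IsEmpty (bcE hi.1 E).obj.left.left := hE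
    exact ⟨⟨fun s t => subsingleton_of_disjoint hi hkill E s t⟩, ⟨(0 : sectModEt F E)⟩⟩
  let G₀ := (pullEt hii.1.1 AddCommGrpCat.{u + 1}).obj ((toAbEt X).obj F)
  let e : (pushEt hi.1 AddCommGrpCat.{u + 1}).obj G₀ ≅ (toAbEt X).obj F :=
    (@asIso _ _ _ _ ((pullPushAdjEt hii.1.1 AddCommGrpCat.{u + 1}).unit.app ((toAbEt X).obj F)) this).symm
  exact ⟨_, exists_iso_push hi e hkill hX⟩

theorem le_annSect_push (hi' : Representable i) (G : ModEt Z) (E : EtOver X) (hE : IsAffine E.obj.left.left)
    (s : sectModEt (pushM hi.1 G) E) : (idealOfRep hi').ideal E hE ≤ annSect s := by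
  intro a ha
  rw [annSect_push]
  change a ∈ Ideal.comap (πfn hi.1 E) _
  rw [Ideal.mem_comap, show πfn hi.1 E a = 0 from (mem_idealOfRep_iff hi' E hE a).1 ha]
  exact Submodule.zero_mem _

theorem kill_of_le_annSect (hi' : Representable i) {F : ModEt X}
    (h : ∀ (E : EtOver X) (hE : IsAffine E.obj.left.left) (s : sectModEt F E),
      (idealOfRep hi').ideal E hE ≤ annSect s)
    (W : EtOver X) [hW : IsAffine W.obj.left.left] (b : fn W) (hb : πfn hi.1 W b = 0) (s : sectModEt F W) :
    b • s = 0 :=
  (mem_annSect_iff s b).1 (h W hW s ((mem_idealOfRep_iff hi' W hW b).2 hb))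

theorem isCart_of_iso {M N : ModEt X} (e : M ≅ N) (hM : IsCart M) : IsCart N := by
  have := isQuasicoherent_of_isCart hM
  have := (SheafOfModules.isQuasicoherent.{u + 1} (OEtRing X)).prop_of_iso e this
  exact isCart_of_isQuasicoherent N

theorem isFinitePresentation_congr {M N : ModEt X} (e : M ≅ N) (hM : M.IsFinitePresentation) :
    N.IsFinitePresentation :=
  (SheafOfModules.isFinitePresentation.{u + 1} (OEtRing X)).prop_of_iso e hM

theorem isQuasicoherent_of_push_iso (hX : IsAlgSpace X) {G : ModEt Z} {F : ModEt X}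
    (e : pushM hi.1 G ≅ F) (hF : F.IsQuasicoherent) : G.IsQuasicoherent :=
  isQuasicoherent_of_push hi hX (isCart_of_iso e.symm (isCart_of_isQuasicoherent F))

theorem isFinitePresentation_of_push_iso (hX : IsAlgSpace X) (hZN : IsLocNoethSp Z) {G : ModEt Z}
    {F : ModEt X} (e : pushM hi.1 G ≅ F) (hF : F.IsFinitePresentation) : G.IsFinitePresentation :=
  have := isFinitePresentation_congr e.symm hF
  isFinitePresentation_of_push hi hX hZN

end Groth.Agent.Lib.EtMod
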