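import Groth.Agent.Lib.EtMod.LocFree
import Groth.Agent.Lib.EtMod.PushWeakAss
import Groth.Agent.Lib.EtMod.SubFam.Unit
import Groth.Agent.Lib.AffThick.DeformProp
import Groth.Agent.S10293

/-!
# Finite locally free morphisms and the direct image of the structure sheaf
-/

universe u

set_option backward.isDefEq.respectTransparency false
set_option linter.style.haveILetI false

open CategoryTheory CategoryTheory.Limits AlgebraicGeometry Opposite AlgSp

namespace Groth.Agent.Lib.EtMod.FinLocFreePush

open Groth.Agent.Lib.EtMod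

variable {S : Scheme.{u}} {X Y : AlgSp.Space S} {f : X.obj ⟶ Y.obj} (hf : Representable f)

theorem finite_projective_of_finLocFree {U V : Scheme.{u}} [IsAffine U] [IsAffine V] (g : U ⟶ V)
    (h : Mor2.IsFinLocFree g) :
    letI := g.appTop.hom.toAlgebra
    Module.Finite Γ(V, ⊤) Γ(U, ⊤) ∧ Module.Projective Γ(V, ⊤) Γ(U, ⊤) := by
  letI := g.appTop.hom.toAlgebra
  obtain ⟨h1, h2, h3⟩ := h
  haveI hfi : Module.Finite Γ(V, ⊤) Γ(U, ⊤) := ((HasAffineProperty.iff_of_isAffine (P := @IsFinite)).1 h1).2
  have hfl : g.appTop.hom.Flat := (HasRingHomProperty.iff_of_isAffine (P := @Flat)).1 h2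
  have hfp : g.appTop.hom.FinitePresentation :=
    (HasRingHomProperty.iff_of_isAffine (P := @LocallyOfFinitePresentation)).1 h3
  haveI : Module.Flat Γ(V, ⊤) Γ(U, ⊤) := hfl
  haveI : Algebra.FinitePresentation Γ(V, ⊤) Γ(U, ⊤) := hfp
  haveI := Module.FinitePresentation.of_finite_of_finitePresentation (R := Γ(V, ⊤)) (S := Γ(U, ⊤))
  exact ⟨hfi, Module.Flat.projective_of_finitePresentation⟩

theorem finLocFree_of_finite_projective {U V : Scheme.{u}} [IsAffine U] [IsAffine V] (g : U ⟶ V)
    (h : letI := g.appTop.hom.toAlgebra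
      Module.Finite Γ(V, ⊤) Γ(U, ⊤) ∧ Module.Projective Γ(V, ⊤) Γ(U, ⊤)) :
    Mor2.IsFinLocFree g := by
  letI := g.appTop.hom.toAlgebra
  obtain ⟨h1, h2⟩ := h
  haveI := h1
  haveI := h2
  haveI : Module.FinitePresentation Γ(V, ⊤) Γ(U, ⊤) := Module.finitePresentation_of_projective _ _
  have hfl : Module.Flat Γ(V, ⊤) Γ(U, ⊤) := inferInstance
  have hfp : Algebra.FinitePresentation Γ(V, ⊤) Γ(U, ⊤) := Algebra.FinitePresentation.of_finitePresentation _ _
  exact ⟨(HasAffineProperty.iff_of_isAffine (P := @IsFinite)).2 ⟨inferInstance, h1⟩,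
    (HasRingHomProperty.iff_of_isAffine (P := @Flat)).2 hfl,
    (HasRingHomProperty.iff_of_isAffine (P := @LocallyOfFinitePresentation)).2 hfp⟩

/-- Sections of the direct image of the structure sheaf. -/
noncomputable def pushSec (E : EtOver Y.obj) :
    letI := (πfn hf E).toAlgebra
    sectModEt (pushM hf (unitModEt X.obj)) E ≃ₗ[fn E] fn (bcE hf E) :=
  letI := (πfn hf E).toAlgebra
  { toFun := fun s => (unitSec (bcE hf E)).symm (show sectModEt (unitModEt X.obj) (bcE hf E) from s)
    invFun := fun a => unitSec (bcE hf E) a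
    left_inv := fun s => (unitSec (bcE hf E)).apply_symm_apply _
    right_inv := fun a => (unitSec (bcE hf E)).symm_apply_apply _
    map_add' := fun _ _ => rfl
    map_smul' := fun _ _ => rfl }

theorem isAffineMor_of_finLocFree (h : IsFinLocFreeMor f) : IsAffineMor f :=
  isAffineMor_of_isFiniteMor ((Groth.Agent.Lib.AffThick.DeformProp.isFinLocFreeMor_iff_props Y.property).1 h).1

/-- The forward direction. -/
theorem exists_data (h : IsFinLocFreeMor f) :
    ∃ q : SheafOfModules.LocalGeneratorsData.{u + 1} ((pushModEt hf).obj (unitModEt X.obj)),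
      q.IsLocallyFreeData ∧ q.IsFiniteType := by
  have haff := isAffineMor_of_finLocFree h
  refine LocFree.exists_locallyFreeData (M := pushM hf (unitModEt X.obj))
    (isCart_push hf haff isCart_unit) fun E _ => ?_
  haveI := isAffine_bcE hf haff E
  have hE : Mor2.IsFinLocFree (bcP hf E) := Groth.Agent.Lib.AlgSpace.repWith_property h (hf.isPullback E.obj.hom)
  letI := (πfn hf E).toAlgebra
  obtain ⟨h1, h2⟩ := finite_projective_of_finLocFree (bcP hf E) hE
  haveI := h1
  haveI := h2
  exact ⟨Module.Finite.equiv (pushSec hf E).symm, Module.Projective.of_equiv (pushSec hf E).symm⟩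

/-- The backward direction. -/
theorem isFinLocFreeMor_of_data {g : X ⟶ Y} (hg : Representable g.hom) (haff : IsAffineMor g.hom)
    (q : SheafOfModules.LocalGeneratorsData.{u + 1} ((pushModEt hg).obj (unitModEt X.obj)))
    (hq : q.IsLocallyFreeData) (hft : q.IsFiniteType) : IsFinLocFreeMor g.hom := by
  obtain ⟨V, p, hp, hps⟩ := Y.property.atlas
  have he : IsEtaleMor p := Groth.Agent.Lib.AlgSpDecent.DescendMor.isEtaleMor_of_repWith hp
  refine Groth.Agent.S10293.result g V p hp hps (hg.fst p) ((yon S).map (hg.snd p)) (hg.isPullback p) ?_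
  refine (repWith_yon_map_iff finLocFree _).2 ?_
  let EV : EtOver Y.obj := EtOver.mk p hp
  have key : ∀ W : V.left.affineOpens, Mor2.IsFinLocFree ((hg.snd p).left ∣_ W.1) := fun W => by
    let E := ProjLoc.openObj (X := Y.obj) he W.1
    haveI : IsAffine E.obj.left.left := W.2
    haveI := isAffine_bcE hg haff E
    letI := (πfn hg E).toAlgebra
    have hE := LocFree.finite_and_projective_of_data (M := pushM hg (unitModEt X.obj))
      (isCart_push hg haff isCart_unit) q hq hft E (N := fn (bcE hg E)) (pushSec hg E)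
    have h2 : Mor2.IsFinLocFree (bcP hg E) := finLocFree_of_finite_projective (bcP hg E) hE
    let j : E ⟶ EV := EtOver.homMk (Over.homMk W.1.ι rfl) rfl
    have sq₁ : IsPullback ((EtOver.bc hg).map j).hom.left.left (bcP hg E) (bcP hg EV) W.1.ι :=
      isPullback_bc hg j
    have sq₂ : IsPullback ((hg.snd p).left ⁻¹ᵁ W.1).ι ((hg.snd p).left ∣_ W.1) (bcP hg EV) W.1.ι :=
      (isPullback_morphismRestrict (hg.snd p).left W.1).flip
    have e : ((hg.snd p).left ∣_ W.1) = (sq₂.isoIsPullback _ _ sq₁).hom ≫ bcP hg E :=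
      (IsPullback.isoIsPullback_hom_snd _ _ _ _).symm
    rw [e]
    exact ⟨(MorphismProperty.cancel_left_of_respectsIso @IsFinite _ _).2 h2.1,
      (MorphismProperty.cancel_left_of_respectsIso @Flat _ _).2 h2.2.1,
      (MorphismProperty.cancel_left_of_respectsIso @LocallyOfFinitePresentation _ _).2 h2.2.2⟩
  exact ⟨IsZariskiLocalAtTarget.of_iSup_eq_top (P := @IsFinite) _ (iSup_affineOpens_eq_top V.left) fun W => (key W).1,
    IsZariskiLocalAtTarget.of_iSup_eq_top (P := @Flat) _ (iSup_affineOpens_eq_top V.left) fun W => (key W).2.1,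
    IsZariskiLocalAtTarget.of_iSup_eq_top (P := @LocallyOfFinitePresentation) _ (iSup_affineOpens_eq_top V.left)
      fun W => (key W).2.2⟩

end Groth.Agent.Lib.EtMod.FinLocFreePush
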