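import Groth.Agent.Lib.EtMod.Colimit

/-!
# The largest quasi-coherent submodule
-/

universe u

set_option backward.isDefEq.respectTransparency false

open CategoryTheory CategoryTheory.Limits AlgebraicGeometry Opposite AlgSp

namespace Groth.Agent.Lib.EtMod

variable {S : Scheme.{u}} {X : Sp S}

/-- A morphism vanishes on the closure of the range of another one when the composite vanishes. -/
theorem comp_eq_zero_of_range_le {H H' G Q : ModEt X} (φ : H ⟶ G) (φ' : H' ⟶ G) (π : G ⟶ Q)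
    (h : φ' ≫ π = 0) (hr : SubSheaf.closure (SubSheaf.range φ) = SubSheaf.closure (SubSheaf.range φ')) :
    φ ≫ π = 0 := by
  refine SheafOfModules.hom_ext (PresheafOfModules.hom_ext fun V => ModuleCat.hom_ext (LinearMap.ext fun x => ?_))
  obtain ⟨V⟩ := V
  have hm : φ.val.app (op V) x ∈ (SubSheaf.closure (SubSheaf.range φ')).obj (op V) :=
    hr ▸ SubSheaf.le_closure (SubSheaf.range φ) (op V) ⟨x, rfl⟩
  refine SubSheaf.sections_ext Q hm fun W k hk => ?_
  obtain ⟨y, hy⟩ := hk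
  change Q.val.map k.op (π.val.app (op V) (φ.val.app (op V) x)) = Q.val.map k.op 0
  rw [map_zero, ← PresheafOfModules.naturality_apply]
  refine (congrArg (π.val.app (op W)) hy).symm.trans ?_
  exact congrArg (fun ψ : H' ⟶ Q => ψ.val.app (op W) y) h

/-- Every module inside a quasi-coherent module has a largest quasi-coherent submodule. -/
theorem exists_largest {F G : ModEt X} (hF : IsCart F) (ι : G ⟶ F) [Mono ι] :
    ∃ (G' : ModEt X) (κ : G' ⟶ G), Mono κ ∧ IsCart G' ∧
      ∀ (H : ModEt X) (φ : H ⟶ G), IsCart H → ∃ ψ : H ⟶ G', ψ ≫ κ = φ := by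
  let Idx : Type (u + 1) := {R : G.val.Submodule //
    ∃ (H : ModEt X) (φ : H ⟶ G), IsCart H ∧ SubSheaf.closure (SubSheaf.range φ) = R}
  choose H φ hH hR using fun R : Idx => R.2
  let Φ : (∐ H) ⟶ G := Sigma.desc φ
  let π := cokernel.π (Φ ≫ ι)
  let d : cokernel (Φ ≫ ι) ⟶ cokernel ι := cokernel.desc _ (cokernel.π ι) (by simp)
  have hd : π ≫ d = cokernel.π ι := cokernel.π_desc _ _ _
  have hle : kernel.ι π ≫ cokernel.π ι = 0 := by rw [← hd, kernel.condition_assoc, zero_comp]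
  let hlim := Abelian.monoIsKernelOfCokernel _ (cokernelIsCokernel ι)
  let κ : kernel π ⟶ G := hlim.lift (KernelFork.ofι (kernel.ι π) hle)
  have hκ : κ ≫ ι = kernel.ι π := hlim.fac _ WalkingParallelPair.zero
  refine ⟨kernel π, κ, mono_of_mono_fac hκ,
    isCart_kernel π hF (isCart_cokernel (Φ ≫ ι) (isCart_sigma H hH) hF), fun H₀ φ₀ h₀ => ?_⟩
  let R : Idx := ⟨_, H₀, φ₀, h₀, rfl⟩
  have hφR : φ R ≫ ι ≫ π = 0 := by
    have e : Sigma.ι H R ≫ Φ = φ R := Sigma.ι_desc _ _
    rw [← e, Category.assoc, ← Category.assoc Φ, cokernel.condition, comp_zero]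
  have h0 : φ₀ ≫ ι ≫ π = 0 := comp_eq_zero_of_range_le φ₀ (φ R) (ι ≫ π) hφR (hR R).symm
  refine ⟨kernel.lift π (φ₀ ≫ ι) (by rw [Category.assoc, h0]), ?_⟩
  rw [← cancel_mono ι, Category.assoc, hκ, kernel.lift_ι]

end Groth.Agent.Lib.EtMod
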