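import Groth.Agent.Lib.EtMod.ProjLocal
import Groth.Agent.Lib.QCoh.Localizing
import Mathlib.Topology.Sheaves.SheafCondition.UniqueGluing

/-!
# Zariski companions of modules with small sections on the small etale site
-/

universe u

set_option backward.isDefEq.respectTransparency false
set_option linter.style.haveILetI false

open CategoryTheory CategoryTheory.Limits AlgebraicGeometry Opposite AlgSp TopologicalSpace
open Groth.Agent.Lib.EtMod.ProjLoc

namespace Groth.Agent.Lib.EtMod.ZarRes

variable {S : Scheme.{u}} {X : Sp S} {V : Over S} {q : (yon S).obj V ⟶ X} (he : IsEtaleMor q)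

/-- Inclusions of opens of a chart. -/
noncomputable abbrev openMap {W W' : V.left.Opens} (h : W' ≤ W) : openObj he W' ⟶ openObj he W :=
  (EtOver.postcomp q he).map ((EtOver.ofScheme V).map (etaleOfLE h))

theorem openMap_left {W W' : V.left.Opens} (h : W' ≤ W) :
    (openMap he h).hom.left.left = V.left.homOfLE h :=
  rfl

theorem openMap_apply {W W' : V.left.Opens} (h : W' ≤ W) (x : W'.toScheme) :
    W.ι ((openMap he h).hom.left.left x) = W'.ι x := by
  show (V.left.homOfLE h ≫ W.ι) x = _
  rw [Scheme.homOfLE_ι]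

theorem mono_openMap {W W' : V.left.Opens} (h : W' ≤ W) {T : EtOver X} {a b : T ⟶ openObj he W'}
    (e : a ≫ openMap he h = b ≫ openMap he h) : a = b := by
  have e' : a.hom.left.left ≫ V.left.homOfLE h = b.hom.left.left ≫ V.left.homOfLE h :=
    congrArg (fun k : T ⟶ openObj he W => k.hom.left.left) e
  exact EtOver.hom_ext _ _ (Over.OverMorphism.ext ((cancel_mono _).1 e'))

theorem openMap_comp {W W' W'' : V.left.Opens} (h : W' ≤ W) (h' : W'' ≤ W') :
    openMap he h' ≫ openMap he h = openMap he (h'.trans h) :=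
  EtOver.hom_ext _ _ (Over.OverMorphism.ext (V.left.homOfLE_homOfLE h' h))

theorem openMap_refl (W : V.left.Opens) : openMap he (le_refl W) = 𝟙 _ :=
  EtOver.hom_ext _ _ (Over.OverMorphism.ext (V.left.homOfLE_rfl W))

theorem exists_openLift {W W' : V.left.Opens} (h : W' ≤ W) {T : EtOver X} (a : T ⟶ openObj he W)
    (hr : ∀ t, W.ι (a.hom.left.left t) ∈ W') : ∃ l : T ⟶ openObj he W', l ≫ openMap he h = a := by
  let φ : T.obj.left.left ⟶ (W'.toScheme) := IsOpenImmersion.lift (V.left.homOfLE h) a.hom.left.left (by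
    rintro _ ⟨t, rfl⟩
    exact ⟨⟨W.ι (a.hom.left.left t), hr t⟩, Subtype.ext (openMap_apply he h ⟨W.ι (a.hom.left.left t), hr t⟩)⟩)
  have hφ : φ ≫ V.left.homOfLE h = a.hom.left.left := IsOpenImmersion.lift_fac _ _ _
  have hW : (φ ≫ V.left.homOfLE h) ≫ (openObj he W).obj.left.hom = T.obj.left.hom := by
    rw [hφ]; exact Over.w a.hom.left
  let ψ : T.obj.left ⟶ (openObj he W').obj.left := Over.homMk φ (by
    refine Eq.trans ?_ hW
    show φ ≫ W'.ι ≫ V.hom = (φ ≫ V.left.homOfLE h) ≫ W.ι ≫ V.hom
    rw [Category.assoc, Scheme.homOfLE_ι_assoc])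
  have hψ : ψ ≫ (openMap he h).hom.left = a.hom.left := Over.OverMorphism.ext hφ
  refine ⟨EtOver.homMk ψ ?_, EtOver.hom_ext _ _ hψ⟩
  refine Eq.trans ?_ (EtOver.w a)
  rw [← hψ, Functor.map_comp, Category.assoc]
  exact congrArg (fun k => (yon S).map ψ ≫ k) (EtOver.w (openMap he h)).symm

theorem fnMap_openMap {W W' : V.left.Opens} (h : W' ≤ W) (a : Γ(V.left, W)) :
    fnMap (openMap he h) (W.topIso.inv a) = W'.topIso.inv (V.left.presheaf.map (homOfLE h).op a) := by
  show (V.left.homOfLE h).appTop (W.topIso.inv a) = _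
  rw [← ConcreteCategory.comp_apply, ← ConcreteCategory.comp_apply]
  refine ConcreteCategory.congr_hom ?_ a
  simp [Scheme.Opens.topIso, Scheme.Hom.appTop, ← Functor.map_comp]

variable (M : ModEt X)

theorem small_sect (hs : ∀ E : EtOver X, IsAffine E.obj.left.left → Small.{u} (sectModEt M E))
    (W : V.left.Opens) : Small.{u} (sectModEt M (openObj he W)) := by
  have h : ∀ v : W.toScheme, ∃ W' : V.left.Opens, IsAffineOpen W' ∧ W.ι v ∈ W' ∧ W' ≤ W := fun v => by
    obtain ⟨W', h1, h2, h3⟩ := exists_isAffineOpen_mem_and_subset (x := W.ι v) (U := W) v.2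
    exact ⟨W', h1, h2, h3⟩
  choose W' hW' hv hle using h
  haveI : ∀ v, Small.{u} (sectModEt M (openObj he (W' v))) := fun v => hs _ (hW' v)
  refine small_of_injective (β := ∀ v : W.toScheme, sectModEt M (openObj he (W' v)))
    (f := fun s v => res M (openMap he (hle v)) s) fun s t hst => ?_
  exact eq_of_cover (fun v => openObj he (W' v)) (fun v => openMap he (hle v))
    (fun v => ⟨v, ⟨W.ι v, hv v⟩, Subtype.ext (openMap_apply he (hle v) ⟨W.ι v, hv v⟩)⟩)
    fun v => congrFun hst v

variable [∀ W : V.left.Opens, Small.{u} (sectModEt M (openObj he W))]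

/-- The shrunk sections over an open. -/
def Sec (W : V.left.Opens) : Type u := Shrink.{u} (sectModEt M (openObj he W))

/-- The identification. -/
noncomputable def up (W : V.left.Opens) : sectModEt M (openObj he W) ≃ Sec he M W := equivShrink _

noncomputable instance (W : V.left.Opens) : AddCommGroup (Sec he M W) := (up he M W).symm.addCommGroup

/-- The identification, additively. -/
noncomputable def upAdd (W : V.left.Opens) : Sec he M W ≃+ sectModEt M (openObj he W) := (up he M W).symm.addEquiv

noncomputable instance (W : V.left.Opens) : Module Γ(V.left, W) (Sec he M W) :=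
  letI : Module Γ(V.left, W) (sectModEt M (openObj he W)) := Module.compHom (R := fn (openObj he W)) _ W.topIso.inv.hom
  (upAdd he M W).module Γ(V.left, W)

theorem upAdd_smul (W : V.left.Opens) (a : Γ(V.left, W)) (s : Sec he M W) :
    upAdd he M W (a • s) = (show fn (openObj he W) from W.topIso.inv a) • upAdd he M W s :=
  (upAdd he M W).apply_symm_apply _

/-- Restriction. -/
noncomputable def resSec {W W' : V.left.Opens} (h : W' ≤ W) : Sec he M W →+ Sec he M W' :=
  (upAdd he M W').symm.toAddMonoidHom.comp ((res M (openMap he h)).comp (upAdd he M W).toAddMonoidHom)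

theorem upAdd_resSec {W W' : V.left.Opens} (h : W' ≤ W) (s : Sec he M W) :
    upAdd he M W' (resSec he M h s) = res M (openMap he h) (upAdd he M W s) :=
  (upAdd he M W').apply_symm_apply _

set_option maxHeartbeats 1000000 in
theorem resSec_refl {W : V.left.Opens} (h : W ≤ W) (s : Sec he M W) : resSec he M h s = s := by
  apply (upAdd he M W).injective
  rw [upAdd_resSec, openMap_refl, res_id_apply]

theorem resSec_resSec {W W' W'' : V.left.Opens} (h : W' ≤ W) (h' : W'' ≤ W') (s : Sec he M W) :
    resSec he M h' (resSec he M h s) = resSec he M (h'.trans h) s := by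
  apply (upAdd he M W'').injective
  rw [upAdd_resSec, upAdd_resSec, upAdd_resSec, ← res_comp_apply, openMap_comp]

/-- The presheaf of groups. -/
noncomputable def ab : V.left.Opensᵒᵖ ⥤ AddCommGrpCat.{u} where
  obj W := AddCommGrpCat.of (Sec he M W.unop)
  map i := AddCommGrpCat.ofHom (resSec he M i.unop.le)
  map_id W := AddCommGrpCat.ext fun s => resSec_refl he M _ s
  map_comp i j := AddCommGrpCat.ext fun s => (resSec_resSec he M i.unop.le j.unop.le s).symm

noncomputable instance (W : V.left.Opensᵒᵖ) : Module (V.left.ringCatSheaf.obj.obj W) ((ab he M).obj W) :=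
  inferInstanceAs (Module Γ(V.left, W.unop) (Sec he M W.unop))

/-- The presheaf of modules. -/
noncomputable def pre : PresheafOfModules.{u} V.left.ringCatSheaf.obj :=
  PresheafOfModules.ofPresheaf (R := V.left.ringCatSheaf.obj) (ab he M) fun W W' i r s => by
    show resSec he M i.unop.le ((show Γ(V.left, W.unop) from r) • (show Sec he M W.unop from s)) =
      (show Γ(V.left, W'.unop) from V.left.presheaf.map i r) • resSec he M i.unop.le s
    apply (upAdd he M W'.unop).injective
    rw [upAdd_resSec, upAdd_smul, upAdd_smul, upAdd_resSec, res_smul, fnMap_openMap]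
    rfl

theorem isSheaf_ab : TopCat.Presheaf.IsSheaf (ab he M) := by
  rw [TopCat.Presheaf.isSheaf_iff_isSheafUniqueGluing]
  intro ι U sf hsf
  let W : V.left.Opens := iSup U
  let g : ∀ i, openObj he (U i) ⟶ openObj he W := fun i => openMap he (le_iSup U i)
  have hcov : ∀ x : (openObj he W).obj.left.left, ∃ i, x ∈ Set.range (g i).hom.left.left := fun x => by
    obtain ⟨i, hi⟩ := Opens.mem_iSup.1 (show W.ι x ∈ iSup U from x.2)
    exact ⟨i, ⟨W.ι x, hi⟩, Subtype.ext (openMap_apply he (le_iSup U i) ⟨W.ι x, hi⟩)⟩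
  obtain ⟨t, ht⟩ := exists_glue (M := M) _ g hcov (fun i => upAdd he M (U i) (sf i)) fun i j => by
    have hc := EtOver.pullback_condition (g i) (g j)
    obtain ⟨l, hl⟩ := exists_openLift he (inf_le_left : U i ⊓ U j ≤ U i) (EtOver.pullbackFst (g i) (g j))
      fun t => ⟨((EtOver.pullbackFst (g i) (g j)).hom.left.left t).2, by
        have e := congrArg (fun k : EtOver.pullbackObj (g i) (g j) ⟶ openObj he W => (k.hom.left.left ≫ W.ι) t) hc
        have e₁ := openMap_apply he (le_iSup U i) ((EtOver.pullbackFst (g i) (g j)).hom.left.left t)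
        have e₂ := openMap_apply he (le_iSup U j) ((EtOver.pullbackSnd (g i) (g j)).hom.left.left t)
        exact (show Scheme.Opens.ι (X := V.left) (U i) _ = Scheme.Opens.ι (X := V.left) (U j) _ from e₁.symm.trans (e.trans e₂)) ▸
          ((EtOver.pullbackSnd (g i) (g j)).hom.left.left t).2⟩
    have hl' : l ≫ openMap he (inf_le_right : U i ⊓ U j ≤ U j) = EtOver.pullbackSnd (g i) (g j) := by
      apply mono_openMap he (le_iSup U j)
      rw [Category.assoc, openMap_comp, ← hc, ← hl, Category.assoc, openMap_comp]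
    rw [← hl, ← hl', res_comp_apply, res_comp_apply, ← upAdd_resSec, ← upAdd_resSec]
    exact congrArg (fun z => res M l (upAdd he M _ z)) (hsf i j)
  refine ⟨(upAdd he M W).symm t, fun i => ?_, fun s hs => ?_⟩
  · apply (upAdd he M (U i)).injective
    refine (upAdd_resSec he M _ _).trans ?_
    rw [AddEquiv.apply_symm_apply]
    exact ht i
  · apply (upAdd he M W).injective
    rw [AddEquiv.apply_symm_apply]
    refine eq_of_cover _ g hcov fun i => ?_
    rw [ht i, ← hs i]
    exact (upAdd_resSec he M _ s).symm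

/-- The Zariski companion. -/
noncomputable def mod : V.left.Modules where
  val := pre he M
  isSheaf := isSheaf_ab he M

theorem away_fnMap {U : V.left.Opens} (hU : IsAffineOpen U) (f : Γ(V.left, U)) :
    IsLocalization.Away (show fn (openObj he U) from U.topIso.inv f)
      (Fn (openMap he (V.left.basicOpen_le f))) := by
  let D := V.left.basicOpen f
  let g := openMap he (V.left.basicOpen_le f)
  let eU := U.topIso.commRingCatIsoToRingEquiv
  let eD := D.topIso.commRingCatIsoToRingEquiv
  haveI := hU.isLocalization_basicOpen f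
  have key : ∀ a : Γ(V.left, U), algebraMap (fn (openObj he U)) (Fn g) (eU.symm a) =
      eD.symm (algebraMap Γ(V.left, U) Γ(V.left, D) a) := fun a => by
    rw [algebraMap_fn]
    exact fnMap_openMap he _ a
  have hn : ∀ (n : ℕ), (show fn (openObj he U) from U.topIso.inv f) ^ n = eU.symm (f ^ n) := fun n =>
    (map_pow U.topIso.inv.hom f n).symm
  refine (isLocalization_iff _ _).2 ⟨?_, ?_, ?_⟩
  · rintro ⟨_, n, rfl⟩
    show IsUnit (algebraMap (fn (openObj he U)) (Fn g) ((show fn (openObj he U) from U.topIso.inv f) ^ n))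
    rw [hn, key]
    exact (IsLocalization.map_units Γ(V.left, D) (⟨f ^ n, n, rfl⟩ : Submonoid.powers f)).map eD.symm
  · intro z
    obtain ⟨⟨a, ⟨_, n, rfl⟩⟩, ha⟩ := IsLocalization.surj (Submonoid.powers f) (eD z)
    refine ⟨⟨eU.symm a, ⟨_, n, rfl⟩⟩, ?_⟩
    show z * algebraMap (fn (openObj he U)) (Fn g) ((show fn (openObj he U) from U.topIso.inv f) ^ n) =
      algebraMap (fn (openObj he U)) (Fn g) (eU.symm a)
    rw [hn, key, key, ← ha, map_mul]
    exact congrArg (fun w : Fn g => w * _) (eD.symm_apply_apply z).symm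
  · intro x y hxy
    have hx : algebraMap Γ(V.left, U) Γ(V.left, D) (eU x) = algebraMap Γ(V.left, U) Γ(V.left, D) (eU y) :=
      eD.symm.injective ((key _).symm.trans ((congrArg _ (eU.symm_apply_apply x)).trans
        (hxy.trans ((congrArg _ (eU.symm_apply_apply y)).symm.trans (key _)))))
    obtain ⟨⟨_, n, rfl⟩, hc⟩ := IsLocalization.exists_of_eq (M := Submonoid.powers f) hx
    refine ⟨⟨_, n, rfl⟩, eU.injective ?_⟩
    show eU ((show fn (openObj he U) from U.topIso.inv f) ^ n * x) = eU ((show fn (openObj he U) from U.topIso.inv f) ^ n * y)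
    rw [hn, map_mul, map_mul, RingEquiv.apply_symm_apply]
    exact hc

theorem isQuasicoherent_mod (hM : IsCart M) : (mod he M).IsQuasicoherent := by
  refine QCoh.Localizing.isQCoh_of_forall_exists_localizes fun x => ?_
  obtain ⟨U, hU, hxU, -⟩ := exists_isAffineOpen_mem_and_subset (X := V.left) (x := x) (U := ⊤) trivial
  refine ⟨U, hU, hxU, fun f => ?_⟩
  let D := V.left.basicOpen f
  let hle : D ≤ U := V.left.basicOpen_le f
  haveI : IsAffine (openObj he U).obj.left.left := hU
  haveI : IsAffine (openObj he D).obj.left.left := hU.basicOpen f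
  let g := openMap he hle
  let f₀ : fn (openObj he U) := U.topIso.inv f
  haveI := away_fnMap he hU f
  have hb : IsBaseChange (Fn g) (mResL M g) := hM g
  have hl := (isLocalizedModule_iff_isBaseChange (Submonoid.powers f₀) (Fn g) (mResL M g)).2 hb
  refine ⟨fun (s : Sec he M D) => ?_, fun (t : Sec he M U) ht => ?_⟩
  · obtain ⟨⟨t, ⟨_, n, rfl⟩⟩, ht⟩ := hl.surj (show MSec M g from upAdd he M D s)
    refine ⟨n, (upAdd he M U).symm t, ?_⟩
    refine (upAdd he M D).injective ?_
    refine (upAdd_resSec he M hle _).trans ?_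
    rw [AddEquiv.apply_symm_apply]
    refine Eq.trans ?_ (upAdd_smul he M D _ s).symm
    refine Eq.trans (show res M g t = fnMap g (f₀ ^ n) • upAdd he M D s from ht.symm) ?_
    refine congrArg (fun w : fn (openObj he D) => w • upAdd he M D s) ?_
    rw [map_pow]
    refine ((congrArg (· ^ n) (fnMap_openMap he hle f))).trans ?_
    exact (map_pow D.topIso.inv.hom _ n).symm
  · obtain ⟨⟨_, n, rfl⟩, hn⟩ := hl.exists_of_eq (x₁ := upAdd he M U t) (x₂ := 0) (by
      rw [map_zero]
      exact (upAdd_resSec he M hle t).symm.trans ((congrArg (upAdd he M D) ht).trans (map_zero _)))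
    refine ⟨n, (upAdd he M U).injective ?_⟩
    refine (upAdd_smul he M U _ t).trans ?_
    rw [map_zero]
    refine Eq.trans ?_ (hn.trans (smul_zero _))
    exact congrArg (fun w : fn (openObj he U) => w • upAdd he M U t) (map_pow U.topIso.inv.hom f n)

/-- An isomorphism on sections. -/
noncomputable def isoEquiv {Y : Sp S} {A B : ModEt Y} (P : A ≅ B) (E : EtOver Y) :
    sectModEt A E ≃+ sectModEt B E where
  toFun := secMap P.hom E
  invFun := secMap P.inv E
  left_inv s := congrArg (fun φ : A ⟶ A => secMap φ E s) P.hom_inv_id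
  right_inv s := congrArg (fun φ : B ⟶ B => secMap φ E s) P.inv_hom_id
  map_add' := map_add (secMap P.hom E)

section Companion

variable {X : AlgSp.Space S} {q : (yon S).obj V ⟶ X.obj} (he : IsEtaleMor q) (hrep : Representable q)
  [(SheafOfModules.pushforward.{u + 1} (bcRingHom hrep)).IsRightAdjoint]
  (M : ModEt X.obj) [∀ W : V.left.Opens, Small.{u} (sectModEt M (openObj he W))]

/-- Sections of the pullback to the chart. -/
noncomputable def pullEquiv (W : V.left.Opens) :
    sectModEt ((pullModEt hrep).obj M) ((EtOver.ofScheme V).obj (etaleOfOpen V.left W)) ≃+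
      sectModEt M (openObj he W) :=
  isoEquiv ((pullIsoRestr hrep he).app M) ((EtOver.ofScheme V).obj (etaleOfOpen V.left W))

/-- The companion. -/
noncomputable def companion :
    ZarCompanion V.left (mod he M) ((resSchModEt V).obj ((pullModEt hrep).obj M)) where
  iso W := ((pullEquiv he hrep M W).trans (upAdd he M W).symm).trans AddEquiv.ulift.symm
  map_smul W a m := by
    refine congrArg ULift.up ((upAdd he M W).injective ?_)
    refine ((upAdd he M W).apply_symm_apply _).trans (Eq.trans ?_ (upAdd_smul he M W _ _).symm)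
    refine Eq.trans ?_ (congrArg (fun w => _ • w) ((upAdd he M W).apply_symm_apply _).symm)
    exact map_smul (secMap ((pullIsoRestr hrep he).app M).hom _)
      (show fn ((EtOver.ofScheme V).obj (etaleOfOpen V.left W)) from W.topIso.inv a)
      (show sectModEt ((pullModEt hrep).obj M) ((EtOver.ofScheme V).obj (etaleOfOpen V.left W)) from m)
  map_res {W W'} h m := by
    refine congrArg ULift.up ((upAdd he M W').injective ?_)
    refine ((upAdd he M W').apply_symm_apply _).trans (Eq.trans ?_ (upAdd_resSec he M h _).symm)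
    refine Eq.trans ?_ (congrArg (res M _) ((upAdd he M W).apply_symm_apply _).symm)
    exact secMap_res ((pullIsoRestr hrep he).app M).hom ((EtOver.ofScheme V).map (etaleOfLE h)) m

end Companion

end Groth.Agent.Lib.EtMod.ZarRes
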