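import Groth.Agent.Lib.EtMod.RetractFree
import Groth.Agent.Lib.EtMod.ZarRes
import Groth.Agent.Lib.EtMod.Coherent
import Mathlib.RingTheory.Localization.Free
import Mathlib.RingTheory.Localization.BaseChange
import Mathlib.RingTheory.Spectrum.Prime.FreeLocus
import Mathlib.Algebra.Category.ModuleCat.Sheaf.LocallyFree

/-!
# Modules with finite projective sections over affine objects are finite locally free
-/

universe u v

set_option backward.isDefEq.respectTransparency false
set_option linter.style.haveILetI false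

open CategoryTheory CategoryTheory.Limits AlgebraicGeometry Opposite AlgSp
open TensorProduct

namespace Groth.Agent.Lib.EtMod.LocFree

/-- A finite projective module is free near every prime, in base change form. -/
theorem Alg.exists_free_away {A : Type u} [CommRing A] (N : Type v) [AddCommGroup N] [Module A N]
    [Module.Finite A N] [Module.Projective A N] (p : Ideal A) [p.IsPrime] :
    ∃ r, r ∉ p ∧ ∀ (B : Type u) [CommRing B] [Algebra A B] [IsLocalization.Away r B] (P : Type v)
      [AddCommGroup P] [Module A P] [Module B P] [IsScalarTower A B P] (l : N →ₗ[A] P),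
      IsBaseChange B l → Module.Free B P ∧ Module.Finite B P := by
  haveI : Module.FinitePresentation A N := Module.finitePresentation_of_projective A N
  haveI : Module.Free (Localization.AtPrime p) (LocalizedModule p.primeCompl N) :=
    Module.free_of_flat_of_isLocalRing
  obtain ⟨r, hr, hfree, -⟩ := Module.FinitePresentation.exists_free_localizedModule_powers
    p.primeCompl (LocalizedModule.mkLinearMap p.primeCompl N) (Localization.AtPrime p)
  refine ⟨r, hr, fun B _ _ _ P _ _ _ _ l hl => ?_⟩
  let R := Localization.Away r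
  let e : R ≃ₐ[A] B := IsLocalization.algEquiv (Submonoid.powers r) R B
  letI : Algebra R B := e.toAlgHom.toRingHom.toAlgebra
  haveI : IsScalarTower A R B := IsScalarTower.of_algebraMap_eq fun a => (e.commutes a).symm
  haveI := hfree
  haveI : Module.Free R (R ⊗[A] N) :=
    Module.Free.of_equiv ((isLocalizedModule_iff_isBaseChange (Submonoid.powers r) R
      (LocalizedModule.mkLinearMap (Submonoid.powers r) N)).1 inferInstance).equiv.symm
  let f : B ⊗[R] (R ⊗[A] N) ≃ₗ[B] P :=
    (AlgebraTensorModule.cancelBaseChange A R B B N).trans hl.equiv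
  exact ⟨Module.Free.of_equiv f, Module.Finite.equiv f⟩

variable {S : Scheme.{u}} {X : Sp S}

/-- A slice module with a finite basis of sections is free. -/
theorem exists_generators_iso {X₀ : EtOver X} {P : SliceMod X₀} [IsAffine X₀.obj.left.left]
    (hb : ∀ ⦃V : EtOver X⦄ [IsAffine V.obj.left.left] (g : V ⟶ X₀),
      Function.Bijective (tens (LinearMap.id : SSec P (𝟙 X₀) →ₗ[fn X₀] SSec P (𝟙 X₀)) g))
    [Module.Free (fn X₀) (SSec P (𝟙 X₀))] [Module.Finite (fn X₀) (SSec P (𝟙 X₀))] :
    ∃ σ : P.GeneratingSections, IsIso σ.π ∧ σ.IsFiniteType := by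
  classical
  let b := Module.Free.chooseBasis (fn X₀) (SSec P (𝟙 X₀))
  haveI : Finite (Module.Free.ChooseBasisIndex (fn X₀) (SSec P (𝟙 X₀))) := inferInstance
  let s := fun i => genAll P (b i)
  haveI he : Epi (P.freeHomEquiv.symm s) :=
    epi_genFam (fun i => b i) (fun x => ⟨b.repr x, b.linearCombination_repr x⟩) fun _ _ g => (hb g).2
  let π : sfree (Module.Free.ChooseBasisIndex (fn X₀) (SSec P (𝟙 X₀))) ⟶ P := P.freeHomEquiv.symm s
  have hπ : ∀ n, sMap π (𝟙 X₀) (combBase (𝟙 X₀) _ n) = Finsupp.linearCombination (fn X₀) (fun i => b i) n :=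
    fun n => sMap_genFam_combBase (fun i => b i) n
  have hK : Epi (genMap (kernel π)) := epi_genMap fun _ _ g =>
    surjective_tens_kernel π (combBase (𝟙 X₀) _) g (bijective_tens_combBase g).2 (hb g).1
  have h0 : kernel.ι π ≫ 𝟙 _ = 0 :=
    RetractFree.comp_eq_zero_of_gen π (𝟙 _) (kernel.ι π) (kernel.condition π) hK fun n hn => by
      rw [hπ] at hn
      have : n = 0 := b.linearIndependent (hn.trans (map_zero _).symm)
      rw [this, map_zero, map_zero]
  rw [Category.comp_id] at h0
  haveI : Mono π := Abelian.mono_of_kernel_ι_eq_zero π h0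
  refine ⟨⟨_, s, he⟩, ?_, ⟨‹_›⟩⟩
  exact isIso_of_mono_of_epi π

/-- The object of a basic open near a point. -/
theorem exists_free_object {M : ModEt X} (hM : IsCart M) (E : EtOver X) [IsAffine E.obj.left.left]
    (x : E.obj.left.left)
    (hP : ∀ (E' : EtOver X) [IsAffine E'.obj.left.left], Module.Finite (fn E') (sectModEt M E') ∧
      Module.Projective (fn E') (sectModEt M E')) :
    ∃ (W : EtOver X) (j : W ⟶ E) (_ : IsAffine W.obj.left.left), x ∈ Set.range j.hom.left.left ∧
      Module.Free (fn W) (sectModEt M W) ∧ Module.Finite (fn W) (sectModEt M W) := by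
  let V := E.obj.left
  have he : IsEtaleMor E.obj.hom := Groth.Agent.Lib.AlgSpDecent.DescendMor.isEtaleMor_of_repWith E.property
  let T := ProjLoc.openObj (V := V) he (⊤ : V.left.Opens)
  haveI : IsAffine T.obj.left.left := isAffineOpen_top V.left
  obtain ⟨h1, h2⟩ := hP T
  let p := ((isAffineOpen_top V.left).primeIdealOf ⟨x, trivial⟩).asIdeal.comap
    ((⊤ : V.left.Opens).topIso.hom.hom : fn T →+* Γ(V.left, ⊤))
  obtain ⟨r, hr, hfree⟩ := Alg.exists_free_away (A := fn T) (sectModEt M T) p
  let f : Γ(V.left, ⊤) := (⊤ : V.left.Opens).topIso.hom r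
  let W := ProjLoc.openObj (V := V) he (V.left.basicOpen f)
  haveI : IsAffine W.obj.left.left := (isAffineOpen_top V.left).basicOpen f
  let g : W ⟶ T := ZarRes.openMap he (V.left.basicOpen_le f)
  haveI : IsLocalization.Away r (Fn g) := by
    have h := ZarRes.away_fnMap he (isAffineOpen_top V.left) f
    have e : (⊤ : V.left.Opens).topIso.inv f = r :=
      ConcreteCategory.congr_hom (⊤ : V.left.Opens).topIso.hom_inv_id r
    rwa [e] at h
  have hfr := hfree (Fn g) (MSec M g) (mResL M g) (hM g)
  let j₂ : T.obj.left ⟶ V := Over.homMk (⊤ : V.left.Opens).ι rfl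
  let i : T ⟶ E := EtOver.homMk j₂ rfl
  refine ⟨W, g ≫ i, inferInstance, ?_, hfr.1, hfr.2⟩
  have hx : x ∈ V.left.basicOpen f := by
    have hm : (isAffineOpen_top V.left).primeIdealOf ⟨x, trivial⟩ ∈
        (isAffineOpen_top V.left).fromSpec ⁻¹ᵁ V.left.basicOpen f := by
      rw [(isAffineOpen_top V.left).fromSpec_preimage_basicOpen]
      exact hr
    have he' : (isAffineOpen_top V.left).fromSpec ((isAffineOpen_top V.left).primeIdealOf ⟨x, trivial⟩) = x :=
      (isAffineOpen_top V.left).fromSpec_primeIdealOf ⟨x, trivial⟩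
    exact he' ▸ hm
  exact ⟨⟨x, hx⟩, ZarRes.openMap_apply he (V.left.basicOpen_le f) ⟨x, hx⟩⟩

/-- Finite projective sections over affine objects give finite locally free data. -/
theorem exists_locallyFreeData {M : ModEt X} (hM : IsCart M)
    (hP : ∀ (E' : EtOver X) [IsAffine E'.obj.left.left], Module.Finite (fn E') (sectModEt M E') ∧
      Module.Projective (fn E') (sectModEt M E')) :
    ∃ q : SheafOfModules.LocalGeneratorsData.{u + 1} M, q.IsLocallyFreeData ∧ q.IsFiniteType := by
  let I := {W : EtOver X // IsAffine W.obj.left.left ∧ Module.Free (fn W) (sectModEt M W) ∧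
    Module.Finite (fn W) (sectModEt M W)}
  have h : ∀ W : I, ∃ σ : (M.over W.1).GeneratingSections, IsIso σ.π ∧ σ.IsFiniteType := fun W => by
    haveI := W.2.1
    haveI : Module.Free (fn W.1) (SSec (M.over W.1) (𝟙 W.1)) := W.2.2.1
    haveI : Module.Finite (fn W.1) (SSec (M.over W.1) (𝟙 W.1)) := W.2.2.2
    exact exists_generators_iso fun _ _ g => bijective_tens_of_isCart hM g
  choose σ hσ₁ hσ₂ using h
  have hcov : (etTop X).CoversTop fun W : I => W.1 := fun Y => by
    choose W₀ j hW hj using fun v : Y.obj.left.left => exists_affine_open_obj v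
    choose x hx using hj
    have hh : ∀ v, ∃ (W : EtOver X) (k : W ⟶ W₀ v) (_ : IsAffine W.obj.left.left),
        x v ∈ Set.range k.hom.left.left ∧
        Module.Free (fn W) (sectModEt M W) ∧ Module.Finite (fn W) (sectModEt M W) := fun v =>
      haveI := hW v
      exists_free_object hM (W₀ v) (x v) hP
    choose W k hWa hk hfree hfin using hh
    refine (etTop X).superset_covering ?_ (ofArrows_mem_etTop W (fun v => k v ≫ j v) fun v => ⟨v, ?_⟩)
    · intro T l hl
      obtain ⟨_, c, _, ⟨v⟩, rfl⟩ := hl
      exact (Sieve.mem_ofObjects_iff ..).mpr ⟨⟨W v, hWa v, hfree v, hfin v⟩, ⟨c⟩⟩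
    · obtain ⟨w, hw⟩ := hk v
      refine ⟨w, ?_⟩
      exact (congrArg (j v).hom.left.left hw).trans (hx v)
  let q : SheafOfModules.LocalGeneratorsData.{u + 1} M :=
    { I := I, X := fun W => W.1, coversTop := hcov, generators := σ }
  have h1 : q.IsLocallyFreeData := { isIso := hσ₁ }
  have h2 : q.IsFiniteType := { isFiniteType := hσ₂ }
  exact ⟨q, h1, h2⟩

/-- Conversely. -/
theorem finite_and_projective_of_data {M : ModEt X} (hM : IsCart M)
    (q : SheafOfModules.LocalGeneratorsData.{u + 1} M) (hq : q.IsLocallyFreeData) (hft : q.IsFiniteType)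
    (E : EtOver X) [IsAffine E.obj.left.left] {N : Type u} [AddCommGroup N] [Module (fn E) N]
    (ψ : sectModEt M E ≃ₗ[fn E] N) : Module.Finite (fn E) N ∧ Module.Projective (fn E) N := by
  haveI : M.IsFiniteType := { exists_localGeneratorsData := ⟨q, hft⟩ }
  haveI := finite_of_isFiniteType hM E
  obtain ⟨C, hC⟩ := exists_affCover (q.coversTop E)
  refine ⟨Module.Finite.equiv ψ, ProjLoc.projective_of_cover hM C (fun k => ?_) ψ⟩
  obtain ⟨i, ⟨b⟩⟩ := (Sieve.mem_ofObjects_iff ..).1 (hC k)
  haveI := hq.isIso i
  exact RetractFree.projective_of_retract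
    (Retract.ofIso (asIso (q.generators i).π).symm) b

end Groth.Agent.Lib.EtMod.LocFree
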