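import Groth.Agent.Lib.EtMod.Basic

/-!
# Modules from actions of functions on abelian sheaves
-/

universe u

set_option backward.isDefEq.respectTransparency false

open CategoryTheory CategoryTheory.Limits AlgebraicGeometry Opposite AlgSp

namespace Groth.Agent.Lib.EtMod

variable {S : Scheme.{u}} {Z : Sp S} (G : AbEt Z)

/-- Sections of an abelian sheaf. -/
abbrev gsec (D : EtOver Z) : Type (u + 1) := G.obj.obj (op D)

/-- Restriction of sections of an abelian sheaf. -/
noncomputable def gres {D D' : EtOver Z} (g : D' ⟶ D) : gsec G D →+ gsec G D' :=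
  (G.obj.map g.op).hom

theorem gres_comp {D D' D'' : EtOver Z} (h : D'' ⟶ D') (g : D' ⟶ D) (x : gsec G D) :
    gres G (h ≫ g) x = gres G h (gres G g x) :=
  ConcreteCategory.congr_hom (G.obj.map_comp g.op h.op) x

theorem isSheaf_forget_ab :
    Presieve.IsSheaf (etTop Z) (G.obj ⋙ CategoryTheory.forget AddCommGrpCat.{u + 1}) :=
  (isSheaf_iff_isSheaf_of_type _ _).1 (Presheaf.isSheaf_comp_of_isSheaf (etTop Z) G.obj _ G.property)

theorem gres_ext {D : EtOver Z} {ι : Type*} (V : ι → EtOver Z) (g : ∀ i, V i ⟶ D)
    (hcov : ∀ x : D.obj.left.left, ∃ i, x ∈ Set.range (g i).hom.left.left) {s t : gsec G D}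
    (h : ∀ i, gres G (g i) s = gres G (g i) t) : s = t := by
  have hS : (Presieve.ofArrows V g).IsSheafFor
      (G.obj ⋙ CategoryTheory.forget AddCommGrpCat.{u + 1}) := by
    rw [Presieve.isSheafFor_iff_generate]
    exact isSheaf_forget_ab G _ (ofArrows_mem_etTop V g hcov)
  exact hS.isSeparatedFor.ext fun W k hk => by
    obtain ⟨i⟩ := hk
    exact h i

theorem exists_gres_glue {D : EtOver Z} {ι : Type*} (V : ι → EtOver Z) (g : ∀ i, V i ⟶ D)
    (hcov : ∀ x : D.obj.left.left, ∃ i, x ∈ Set.range (g i).hom.left.left)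
    (s : ∀ i, gsec G (V i))
    (hs : ∀ i j, gres G (EtOver.pullbackFst (g i) (g j)) (s i) =
      gres G (EtOver.pullbackSnd (g i) (g j)) (s j)) :
    ∃ t : gsec G D, ∀ i, gres G (g i) t = s i := by
  have hS : (Presieve.ofArrows V g).IsSheafFor
      (G.obj ⋙ CategoryTheory.forget AddCommGrpCat.{u + 1}) := by
    rw [Presieve.isSheafFor_iff_generate]
    exact isSheaf_forget_ab G _ (ofArrows_mem_etTop V g hcov)
  refine ((Presieve.isSheafFor_arrows_iff _ g).1 hS s fun i j W a b hab => ?_).exists
  let l : W ⟶ EtOver.pullbackObj (g i) (g j) :=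
    (EtOver.pullbackIsLimit (g i) (g j)).lift (PullbackCone.mk a b hab)
  have ha : l ≫ EtOver.pullbackFst (g i) (g j) = a :=
    (EtOver.pullbackIsLimit (g i) (g j)).fac _ WalkingCospan.left
  have hb : l ≫ EtOver.pullbackSnd (g i) (g j) = b :=
    (EtOver.pullbackIsLimit (g i) (g j)).fac _ WalkingCospan.right
  change gres G a (s i) = gres G b (s j)
  rw [← ha, ← hb, gres_comp, gres_comp, hs i j]

/-- An action of the functions. -/
structure FnAction where
  act : ∀ D : EtOver Z, fn D → gsec G D → gsec G D
  act_add : ∀ D a x y, act D a (x + y) = act D a x + act D a y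
  add_act : ∀ D a b x, act D (a + b) x = act D a x + act D b x
  mul_act : ∀ D a b x, act D (a * b) x = act D a (act D b x)
  one_act : ∀ D x, act D 1 x = x
  act_res : ∀ {D D' : EtOver Z} (g : D' ⟶ D) a x, gres G g (act D a x) = act D' (fnMap g a) (gres G g x)

variable {G} (A : FnAction G)

/-- The module structure on sections. -/
@[instance_reducible]
noncomputable def FnAction.module (D : (EtOver Z)ᵒᵖ) : Module ((OEtRing Z).obj.obj D) (G.obj.obj D) where
  smul r x := A.act D.unop r.down x
  one_smul x := A.one_act D.unop x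
  mul_smul r r' x := A.mul_act D.unop r.down r'.down x
  smul_zero r := (AddMonoidHom.mk' (fun y : gsec G D.unop => A.act D.unop r.down y) (A.act_add D.unop r.down)).map_zero
  smul_add r x y := A.act_add D.unop r.down x y
  add_smul r r' x := A.add_act D.unop r.down r'.down x
  zero_smul x := (AddMonoidHom.mk' (fun a : fn D.unop => A.act D.unop a x) (fun a b => A.add_act D.unop a b x)).map_zero

/-- The module. -/
noncomputable def FnAction.toModEt : ModEt Z :=
  letI := A.module
  { val := PresheafOfModules.ofPresheaf G.obj (fun _ _ g r m => A.act_res g.unop r.down m)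
    isSheaf := G.property }

theorem FnAction.smul_eq (D : EtOver Z) (a : fn D) (x : gsec G D) :
    (a • (show sectModEt A.toModEt D from x) : sectModEt A.toModEt D) = A.act D a x :=
  rfl

theorem FnAction.res_eq {D D' : EtOver Z} (g : D' ⟶ D) (x : gsec G D) :
    res A.toModEt g x = gres G g x :=
  rfl

end Groth.Agent.Lib.EtMod
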