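import Groth.Agent.Lib.EtMod.Slice
import Mathlib.Algebra.Category.ModuleCat.Sheaf.Quasicoherent

/-!
# Sections of presented modules on a slice over affine objects
-/

universe u

set_option backward.isDefEq.respectTransparency false

open CategoryTheory CategoryTheory.Limits AlgebraicGeometry Opposite AlgSp
open TensorProduct

namespace Groth.Agent.Lib.EtMod

variable {S : Scheme.{u}} {X : Sp S} {X₀ E : EtOver X} {P Q : SliceMod X₀} {f : E ⟶ X₀}
  {N N' : Type (u + 1)} [AddCommGroup N] [Module (fn E) N] [AddCommGroup N'] [Module (fn E) N']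

/-- A morphism on sections over the base. -/
noncomputable def secS (φ : P ⟶ Q) (f : E ⟶ X₀) {V : EtOver X} (g : V ⟶ E) :
    Sec P f g →ₗ[Fn g] Sec Q f g :=
  sMap φ (g ≫ f)

theorem secS_secHom (φ : P ⟶ Q) {V W : EtOver X} (h : W ⟶ V) {g : V ⟶ E} {g' : W ⟶ E}
    (e : h ≫ g = g') (s : Sec P f g) :
    secS φ f g' (secHom P f h e s) = secHom Q f h e (secS φ f g s) :=
  sMap_sres φ h (eq_assoc f h e) s

theorem secS_resL (φ : P ⟶ Q) {V : EtOver X} (g : V ⟶ E) (s : SSec P f) :
    secS φ f g (resL P f g s) = resL Q f g (sMap φ f s) :=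
  sMap_sres φ g rfl s

theorem tens_sMap (φ : P ⟶ Q) (θ : N →ₗ[fn E] SSec P f) {V : EtOver X} (g : V ⟶ E) (z : Fn g ⊗[fn E] N) :
    tens ((sMap φ f).comp θ) g z = secS φ f g (tens θ g z) := by
  induction z using TensorProduct.induction_on with
  | zero => simp
  | tmul b n => simp [tens_tmul, secS_resL]
  | add x y hx hy => simp only [map_add, hx, hy]

theorem tens_lTensor (ν : N' →ₗ[fn E] N) (θ : N →ₗ[fn E] SSec P f) {V : EtOver X} (g : V ⟶ E)
    (z : Fn g ⊗[fn E] N') : tens θ g (ν.lTensor (Fn g) z) = tens (θ.comp ν) g z := by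
  induction z using TensorProduct.induction_on with
  | zero => simp
  | tmul b n => simp [tens_tmul]
  | add x y hx hy => simp only [map_add, hx, hy]

theorem resL_eval (s : P.sections) {V : EtOver X} (g : V ⟶ E) :
    resL P f g (PresheafOfModules.sections.eval s (op (Over.mk f))) =
      PresheafOfModules.sections.eval s (op (Over.mk (g ≫ f))) :=
  s.2 (Over.homMk g rfl : Over.mk (g ≫ f) ⟶ Over.mk f).op

theorem sres_eval (s : P.sections) {V W : EtOver X} (h : W ⟶ V) {a : V ⟶ X₀} {b : W ⟶ X₀}
    (e : h ≫ a = b) :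
    sres P h e (PresheafOfModules.sections.eval s (op (Over.mk a))) =
      PresheafOfModules.sections.eval s (op (Over.mk b)) :=
  s.2 (Over.homMk h e : Over.mk b ⟶ Over.mk a).op

/-- Generating sections make a comparison locally surjective. -/
theorem local_surj_of_sections {ι : Type (u + 1)} (s : ι → P.sections) [Epi (P.freeHomEquiv.symm s)]
    (θ : N →ₗ[fn E] SSec P f)
    (hθ : ∀ i, ∃ n, θ n = PresheafOfModules.sections.eval (s i) (op (Over.mk f)))
    {V : EtOver X} (g : V ⟶ E) (m : Sec P f g) :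
    ∃ R ∈ etTop X V, ∀ ⦃W : EtOver X⦄ (h : W ⟶ V), R h →
      ∃ z, tens θ (h ≫ g) z = secHom P f h rfl m := by
  let Y : Over X₀ := Over.mk (g ≫ f)
  refine ⟨Sieve.overEquiv Y (SubSheaf.memSieve (SubSheaf.spanSections s) (X := Y) m),
    (GrothendieckTopology.mem_over_iff _ _).1 (SubSheaf.span_mem_of_epi s (X := Y) m), fun W h hh => ?_⟩
  have hh' : sres P h (eq_assoc f h rfl) m ∈
      Submodule.span (((OEtRing X).over X₀).obj.obj (op (Over.mk ((h ≫ g) ≫ f))))
        (Set.range fun i => PresheafOfModules.sections.eval (s i) (op (Over.mk ((h ≫ g) ≫ f)))) := by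
    have key : ∀ (w : W ⟶ X₀) (hw : h ≫ g ≫ f = w),
        sres P h hw m ∈ (SubSheaf.spanSections s).obj (op (Over.mk w)) := fun w hw => by
      subst hw
      exact (Sieve.overEquiv_iff (SubSheaf.memSieve (SubSheaf.spanSections s) (X := Y) m) h).1 hh
    exact key _ _
  obtain ⟨z, hz⟩ : ∃ z, tens θ (h ≫ g) z = (show Sec P f (h ≫ g) from sres P h (eq_assoc f h rfl) m) := by
    generalize sres P h (eq_assoc f h rfl) m = x₀ at hh' ⊢
    induction hh' using Submodule.span_induction with
    | mem x hx =>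
      obtain ⟨i, rfl⟩ := hx
      obtain ⟨n, hn⟩ := hθ i
      exact ⟨1 ⊗ₜ n, by rw [tens_tmul, one_smul, hn, resL_eval]⟩
    | zero => exact ⟨0, map_zero _⟩
    | add x y _ _ hx hy =>
      obtain ⟨a, ha⟩ := hx
      obtain ⟨b, hb⟩ := hy
      exact ⟨a + b, by rw [map_add, ha, hb]⟩
    | smul r x _ hx =>
      obtain ⟨a, ha⟩ := hx
      exact ⟨(show Fn (h ≫ g) from r.down) • a, by rw [map_smul, ha]; rfl⟩
  exact ⟨z, hz⟩

/-! ### Free modules -/

section Free

variable {ι : Type (u + 1)}

/-- The free slice module. -/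
noncomputable abbrev sfree (ι : Type (u + 1)) : SliceMod X₀ :=
  SheafOfModules.free (R := (OEtRing X).over X₀) ι

variable (f) in
/-- Finite combinations over the base. -/
noncomputable def combBase (ι : Type (u + 1)) : (ι →₀ fn E) →ₗ[fn E] SSec (sfree (X₀ := X₀) ι) f :=
  Finsupp.linearCombination (fn E) fun i =>
    PresheafOfModules.sections.eval (SheafOfModules.freeSection (R := (OEtRing X).over X₀) i) (op (Over.mk f))

theorem combBase_single (i : ι) : combBase f ι (Finsupp.single i 1) =
    PresheafOfModules.sections.eval (SheafOfModules.freeSection (R := (OEtRing X).over X₀) i)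
      (op (Over.mk f)) := by
  simp [combBase]

theorem tens_combBase_injective {V : EtOver X} (g : V ⟶ E) : Function.Injective (tens (combBase f ι) g) := by
  classical
  rw [injective_iff_map_eq_zero]
  intro z hz
  refine (TensorProduct.finsuppScalarRight (fn E) (Fn g) (Fn g) ι).injective ?_
  rw [map_zero]
  ext i
  let R' := (OEtRing X).over X₀
  let e : ι → (SheafOfModules.unit R').sections := fun j =>
    if j = i then PresheafOfModules.sectionsMk (M := (SheafOfModules.unit R').val)
      (fun Y => (1 : R'.obj.obj Y)) (fun Y Y' g => map_one (R'.obj.map g).hom)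
    else PresheafOfModules.sectionsMk (M := (SheafOfModules.unit R').val)
      (fun Y => (0 : R'.obj.obj Y)) (fun Y Y' g => map_zero (R'.obj.map g).hom)
  let c := (SheafOfModules.unit R').freeHomEquiv.symm e
  have key : ∀ z, (secS c f g (tens (combBase f ι) g z) : R'.obj.obj (op (Over.mk (g ≫ f)))) =
      upΓ V (TensorProduct.finsuppScalarRight (fn E) (Fn g) (Fn g) ι z i) := fun z => by
    rw [← tens_sMap]
    induction z using TensorProduct.induction_on with
    | zero => simp
    | tmul b n =>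
      rw [tens_tmul, TensorProduct.finsuppScalarRight_apply_tmul_apply]
      have hn : sMap c f (combBase f ι n) = n i • (PresheafOfModules.sections.eval (e i) (op (Over.mk f))
          : SSec (SheafOfModules.unit R') f) := by
        rw [combBase, Finsupp.apply_linearCombination, Finsupp.linearCombination_apply, Finsupp.sum,
          Finset.sum_eq_single i]
        · rw [Function.comp_apply]
          exact congrArg (fun t => n i • t) (congrArg
            (fun t => PresheafOfModules.sections.eval t (op (Over.mk f)))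
            (congrFun ((SheafOfModules.unit R').freeHomEquiv.apply_symm_apply e) i))
        · intro j _ hj
          rw [Function.comp_apply]
          refine (congrArg (fun t => n j • t) ((congrArg
            (fun t => PresheafOfModules.sections.eval t (op (Over.mk f)))
            (congrFun ((SheafOfModules.unit R').freeHomEquiv.apply_symm_apply e) j)).trans
              (congrArg (fun t => PresheafOfModules.sections.eval t (op (Over.mk f))) (if_neg hj)))).trans ?_
          exact smul_zero (n j)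
        · intro hi
          rw [Finsupp.notMem_support_iff.1 hi, zero_smul]
      rw [LinearMap.comp_apply, hn, map_smul, resL_eval, show e i = _ from if_pos rfl]
      change upΓ V (show fn V from b) * (upΓ V (fnMap g (n i)) * 1) =
        upΓ V (fnMap g (n i) * (show fn V from b))
      rw [mul_one, ← map_mul, mul_comm]
    | add x y hx hy =>
      simp only [map_add, Finsupp.add_apply]
      exact congrArg₂ (· + ·) hx hy
  have h := key z
  rw [hz, map_zero] at h
  exact (congrArg ULift.down h).symm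

theorem bijective_tens_combBase ⦃V : EtOver X⦄ [IsAffine V.obj.left.left] (g : V ⟶ E) :
    Function.Bijective (tens (combBase f ι) g) := by
  have : Epi ((sfree (X₀ := X₀) ι).freeHomEquiv.symm SheafOfModules.freeSection) := by
    rw [show (sfree (X₀ := X₀) ι).freeHomEquiv.symm SheafOfModules.freeSection = 𝟙 _ from
      Equiv.symm_apply_apply _ _]
    infer_instance
  refine bijective_tens (combBase f ι) (fun V _ g z hz => ⟨⊤, (etTop X).top_mem _, fun W _ h _ => ?_⟩)
    (fun V _ g m => ?_) g
  · rw [(injective_iff_map_eq_zero _).1 (tens_combBase_injective g) z hz, map_zero]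
  · obtain ⟨R, hR, h⟩ := local_surj_of_sections SheafOfModules.freeSection (combBase f ι)
      (fun i => ⟨_, combBase_single i⟩) g m
    exact ⟨R, hR, fun W _ k hk => h k hk⟩

end Free

/-- A linear map killed by a morphism lifts linearly to the kernel. -/
theorem exists_kernel_linear (φ : P ⟶ Q) (θ : N →ₗ[fn E] SSec P f) (h : ∀ n, sMap φ f (θ n) = 0) :
    ∃ θk : N →ₗ[fn E] SSec (kernel φ) f, (sMap (kernel.ι φ) f).comp θk = θ := by
  have hinj : Function.Injective (sMap (kernel.ι φ) f) := SubSheaf.kernel_ι_injective φ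
  have hmem : ∀ n, θ n ∈ LinearMap.range (sMap (kernel.ι φ) f) := fun n =>
    SubSheaf.exists_kernel_lift φ (X := Over.mk f) (θ n) (h n)
  let e := LinearEquiv.ofInjective (sMap (kernel.ι φ) f) hinj
  refine ⟨e.symm.toLinearMap.comp (θ.codRestrict _ hmem), LinearMap.ext fun n => ?_⟩
  exact congrArg Subtype.val (e.apply_symm_apply ⟨θ n, hmem n⟩)

theorem sMap_eval (φ : P ⟶ Q) (s : P.sections) {V : EtOver X} (a : V ⟶ X₀) :
    sMap φ a (PresheafOfModules.sections.eval s (op (Over.mk a))) =
      PresheafOfModules.sections.eval (SheafOfModules.sectionsMap φ s) (op (Over.mk a)) :=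
  rfl

theorem sMap_comp_zero {L : SliceMod X₀} (φ : P ⟶ Q) (ψ : Q ⟶ L) (h : φ ≫ ψ = 0) {V : EtOver X}
    (a : V ⟶ X₀) (x : SSec P a) : sMap ψ a (sMap φ a x) = 0 :=
  congrArg (fun χ : P ⟶ L => χ.val.app (op (Over.mk a)) x) h

theorem sMap_eval_kernel (φ : P ⟶ Q) (s : (kernel φ).sections) {V : EtOver X} (a : V ⟶ X₀) :
    sMap φ a (PresheafOfModules.sections.eval (SheafOfModules.sectionsMap (kernel.ι φ) s) (op (Over.mk a))) =
      0 :=
  sMap_comp_zero (kernel.ι φ) φ (kernel.condition φ) a (PresheafOfModules.sections.eval s (op (Over.mk a)))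

theorem exists_one_tmul_id (z : Fn (𝟙 E) ⊗[fn E] N) : ∃ n, (1 : Fn (𝟙 E)) ⊗ₜ n = z := by
  induction z using TensorProduct.induction_on with
  | zero => exact ⟨0, tmul_zero _ _⟩
  | tmul b n =>
    refine ⟨(show fn E from b) • n, ?_⟩
    rw [← TensorProduct.smul_tmul, ← Algebra.algebraMap_eq_smul_one, algebraMap_fn, fnMap_id_apply]
  | add x y hx hy =>
    obtain ⟨a, rfl⟩ := hx
    obtain ⟨b, rfl⟩ := hy
    exact ⟨a + b, tmul_add _ _ _⟩

theorem sres_resL_id (m : SSec P f) :
    sres P (𝟙 E) (show 𝟙 E ≫ 𝟙 E ≫ f = f by simp) (resL P f (𝟙 E) m) = m :=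
  (sres_comp P (𝟙 E) (𝟙 E) _ _ (by simp) m).trans
    ((sres_congr P (Category.id_comp (𝟙 E)) _ (Category.id_comp f) m).trans (sres_self _ m))

theorem surjective_of_tens_id {θ : N →ₗ[fn E] SSec P f} (h : Function.Surjective (tens θ (𝟙 E))) :
    Function.Surjective θ := fun m => by
  obtain ⟨z, hz⟩ := h (resL P f (𝟙 E) m)
  obtain ⟨n, rfl⟩ := exists_one_tmul_id z
  rw [tens_tmul, one_smul] at hz
  exact ⟨n, by rw [← sres_resL_id (θ n), hz, sres_resL_id]⟩

/-- Sections killed by a morphism are locally combinations of generators of its kernel. -/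
theorem local_lift_kernel (φ : P ⟶ Q) {ι' : Type (u + 1)} (t : ι' → (kernel φ).sections)
    [Epi ((kernel φ).freeHomEquiv.symm t)] (θ : N →ₗ[fn E] SSec P f) (hθ0 : ∀ n, sMap φ f (θ n) = 0)
    (hgen : ∀ j, ∃ n, θ n =
      PresheafOfModules.sections.eval (SheafOfModules.sectionsMap (kernel.ι φ) (t j)) (op (Over.mk f)))
    {V : EtOver X} (g : V ⟶ E) (m : Sec P f g) (hm : secS φ f g m = 0) :
    ∃ R ∈ etTop X V, ∀ ⦃W : EtOver X⦄ (h : W ⟶ V), R h →
      ∃ z, tens θ (h ≫ g) z = secHom P f h rfl m := by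
  obtain ⟨x, hx⟩ := SubSheaf.exists_kernel_lift φ (X := Over.mk (g ≫ f)) m hm
  obtain ⟨θk, hk⟩ := exists_kernel_linear φ θ hθ0
  have hgen' : ∀ j, ∃ n, θk n = PresheafOfModules.sections.eval (t j) (op (Over.mk f)) := fun j => by
    obtain ⟨n, hn⟩ := hgen j
    exact ⟨n, SubSheaf.kernel_ι_injective φ (X := Over.mk f)
      ((LinearMap.congr_fun hk n).trans (hn.trans (sMap_eval (kernel.ι φ) _ f).symm))⟩
  obtain ⟨R, hR, h⟩ := local_surj_of_sections t θk hgen' g (show Sec (kernel φ) f g from x)
  refine ⟨R, hR, fun W k hk' => ?_⟩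
  obtain ⟨y, hy⟩ := h k hk'
  refine ⟨y, ?_⟩
  subst hk
  exact (tens_sMap (kernel.ι φ) θk (k ≫ g) y).trans ((congrArg (secS (kernel.ι φ) f (k ≫ g)) hy).trans
    ((secS_secHom (kernel.ι φ) k rfl _).trans (congrArg (secHom P f k rfl) hx)))

/-- The part of a base change killed by a morphism comes locally from the kernel on the base. -/
theorem local_zero_of_kernel (π : P ⟶ Q) (θ₀ : N →ₗ[fn E] SSec P f)
    (hinj : ∀ ⦃W : EtOver X⦄ [IsAffine W.obj.left.left] (g : W ⟶ E), Function.Injective (tens θ₀ g))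
    {ι' : Type (u + 1)} (t : ι' → (kernel π).sections) [Epi ((kernel π).freeHomEquiv.symm t)]
    (hgen : ∀ j, ∃ n, θ₀ n =
      PresheafOfModules.sections.eval (SheafOfModules.sectionsMap (kernel.ι π) (t j)) (op (Over.mk f)))
    {V : EtOver X} (g : V ⟶ E) (z : Fn g ⊗[fn E] N) (hz : secS π f g (tens θ₀ g z) = 0) :
    ∃ R ∈ etTop X V, ∀ ⦃W : EtOver X⦄ [IsAffine W.obj.left.left] (k : W ⟶ V), R k →
      (fnHom k (rfl : k ≫ g = k ≫ g)).toLinearMap.rTensor _
        ((LinearMap.ker ((sMap π f).comp θ₀)).mkQ.lTensor (Fn g) z) = 0 := by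
  let K := LinearMap.ker ((sMap π f).comp θ₀)
  let ψ : ↥K →ₗ[fn E] SSec P f := θ₀.comp K.subtype
  have hψ : ∀ n : ↥K, sMap π f (ψ n) = 0 := fun n => n.2
  have hgen' : ∀ j, ∃ n : ↥K, ψ n =
      PresheafOfModules.sections.eval (SheafOfModules.sectionsMap (kernel.ι π) (t j)) (op (Over.mk f)) :=
    fun j => by
      obtain ⟨n, hn⟩ := hgen j
      exact ⟨⟨n, (congrArg (sMap π f) hn).trans (sMap_eval_kernel π (t j) f)⟩, hn⟩
  obtain ⟨R, hR, h⟩ := local_lift_kernel (N := ↥K) (f := f) π t ψ hψ hgen' g (tens θ₀ g z) hz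
  refine ⟨R, hR, fun W _ k hk => ?_⟩
  obtain ⟨y, hy⟩ := h k hk
  have h1 : tens θ₀ (k ≫ g) (K.subtype.lTensor (Fn (k ≫ g)) y) = tens θ₀ (k ≫ g)
      ((fnHom k (rfl : k ≫ g = k ≫ g)).toLinearMap.rTensor _ z) :=
    (tens_lTensor K.subtype θ₀ (k ≫ g) y).trans (hy.trans (tens_rTensor θ₀ k rfl z).symm)
  rw [← LinearMap.comp_apply, LinearMap.rTensor_comp_lTensor, ← LinearMap.lTensor_comp_rTensor,
    LinearMap.comp_apply, ← hinj (k ≫ g) h1, ← LinearMap.comp_apply, ← LinearMap.lTensor_comp,
    show (LinearMap.ker ((sMap π f).comp θ₀)).mkQ.comp K.subtype = 0 from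
      LinearMap.ext fun n => (Submodule.Quotient.mk_eq_zero K).2 n.2,
    LinearMap.lTensor_zero, LinearMap.zero_apply]

theorem bijective_tens_of_cokernel {ι ι' : Type (u + 1)} (π : sfree ι ⟶ P) (s : ι → P.sections)
    [Epi (P.freeHomEquiv.symm s)]
    (hs : ∀ i, SheafOfModules.sectionsMap π (SheafOfModules.freeSection i) = s i)
    (t : ι' → (kernel π).sections) [Epi ((kernel π).freeHomEquiv.symm t)]
    [IsAffine E.obj.left.left] ⦃V : EtOver X⦄ [IsAffine V.obj.left.left] (g : V ⟶ E) :
    Function.Bijective (tens (LinearMap.id : SSec P f →ₗ[fn E] SSec P f) g) := by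
  let θ₁ := (sMap π f).comp (combBase f ι)
  let K := LinearMap.ker θ₁
  let θ : (_ ⧸ K) →ₗ[fn E] SSec P f := K.liftQ θ₁ le_rfl
  have hθ : ∀ ⦃V : EtOver X⦄ [IsAffine V.obj.left.left] (g : V ⟶ E), Function.Bijective (tens θ g) := by
    refine bijective_tens θ (fun V _ g z hz => ?_) (fun V _ g m => ?_)
    · obtain ⟨z', rfl⟩ := LinearMap.lTensor_surjective (Fn g) K.mkQ_surjective z
      rw [tens_lTensor, show θ.comp K.mkQ = θ₁ from K.liftQ_mkQ _ _, tens_sMap] at hz
      exact local_zero_of_kernel π (combBase f ι)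
        (fun W _ k => (bijective_tens_combBase k).1) t
        (fun j => surjective_of_tens_id (bijective_tens_combBase (𝟙 E)).2 _) g z' hz
    · obtain ⟨R, hR, h⟩ := local_surj_of_sections s θ (fun i => by
        refine ⟨K.mkQ (Finsupp.single i 1), ?_⟩
        change sMap π f (combBase f ι (Finsupp.single i 1)) = _
        rw [combBase_single, sMap_eval, hs]) g m
      exact ⟨R, hR, fun W _ k hk => h k hk⟩
  have hsurj : Function.Surjective θ := surjective_of_tens_id (hθ (𝟙 E)).2
  have hinj : Function.Injective θ := fun a b hab => by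
    obtain ⟨a', rfl⟩ := K.mkQ_surjective a
    obtain ⟨b', rfl⟩ := K.mkQ_surjective b
    exact (Submodule.Quotient.eq K).2 (show θ₁ (a' - b') = 0 by rw [map_sub, sub_eq_zero]; exact hab)
  let e := LinearEquiv.ofBijective θ ⟨hinj, hsurj⟩
  have hid : (LinearMap.id : SSec P f →ₗ[fn E] SSec P f) = θ.comp e.symm.toLinearMap :=
    LinearMap.ext fun x => (e.apply_symm_apply x).symm
  rw [hid]
  have : ⇑(tens (θ.comp e.symm.toLinearMap) g) = tens θ g ∘ (e.symm.lTensor (Fn g)) :=
    funext fun z => (tens_lTensor e.symm.toLinearMap θ g z).symm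
  rw [this]
  exact (hθ g).comp (e.symm.lTensor (Fn g)).bijective

/-- Sections of a presented module over affine objects form base changes. -/
theorem bijective_tens_presented (σ : P.Presentation) [IsAffine E.obj.left.left] ⦃V : EtOver X⦄
    [IsAffine V.obj.left.left] (g : V ⟶ E) :
    Function.Bijective (tens (LinearMap.id : SSec P f →ₗ[fn E] SSec P f) g) :=
  have : Epi (P.freeHomEquiv.symm σ.generators.s) := σ.generators.epi
  have : Epi ((kernel σ.generators.π).freeHomEquiv.symm σ.relations.s) := σ.relations.epi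
  bijective_tens_of_cokernel σ.generators.π σ.generators.s
    (SheafOfModules.sectionsMap_freeHomEquiv_symm_freeSection σ.generators.s) σ.relations.s g

end Groth.Agent.Lib.EtMod
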