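import Groth.Agent.Lib.EtMod.Coherent
import Groth.Agent.Lib.AlgSpStalk.Stalks
import Groth.Agent.Lib.AlgSpace.OpenSubExists

/-!
# Coherent modules near a geometric point
-/

universe u

set_option backward.isDefEq.respectTransparency false

open CategoryTheory CategoryTheory.Limits AlgebraicGeometry Opposite AlgSp
open Groth.Agent.Lib.AlgSpStalk.Lifts Groth.Agent.Lib.AlgSpStalk.Point
open Groth.Agent.Lib.AlgSpDecent

namespace Groth.Agent.Lib.EtMod

variable {S : Scheme.{u}} {X : Sp S} {M N : ModEt X}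

/-- Geometric points have affine neighbourhoods refining any given one. -/
theorem exists_affine_refine (p : FieldPt X) (hp : p.IsGeometric) {E : EtOver X}
    (l : (FieldPt.liftsTo p).obj E) :
    ∃ (W : EtOver X) (_ : IsAffine W.obj.left.left) (j : W ⟶ E) (l' : (FieldPt.liftsTo p).obj W),
      (FieldPt.liftsTo p).map j l' = l := by
  obtain ⟨W, j, hW, w, hw⟩ := exists_affine_open_obj (l.1.left (pt₀ p))
  obtain ⟨l', hl', -⟩ := exists_lift_map p hp j l w hw
  exact ⟨W, hW, j, l', hl'⟩

/-- An affine neighbourhood with a lift. -/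
theorem exists_affine_nbhd (hX : IsAlgSpace X) (p : FieldPt X) (hp : p.IsGeometric) :
    ∃ (W : EtOver X) (_ : IsAffine W.obj.left.left), Nonempty ((FieldPt.liftsTo p).obj W) := by
  obtain ⟨⟨E, l⟩⟩ := exists_nbhd hX p hp
  obtain ⟨W, hW, j, l', -⟩ := exists_affine_refine p hp l
  exact ⟨W, hW, ⟨l'⟩⟩

/-- Sections over a locally closed neighbourhood vanish once the generators vanish near a point. -/
theorem exists_chart_eq_zero (hM : IsCart M) {E : EtOver X} [IsAffine E.obj.left.left]
    [Module.Finite (fn E) (sectModEt M E)] (u : E.obj.left.left)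
    (h : ∀ s : sectModEt M E, ∃ (W : EtOver X) (_ : IsAffine W.obj.left.left) (b : W ⟶ E) (w : W.obj.left.left),
      b.hom.left.left w = u ∧ res M b s = 0) :
    ∃ (E' : EtOver X) (_ : IsAffine E'.obj.left.left) (a : E' ⟶ E) (v : E'.obj.left.left),
      a.hom.left.left v = u ∧ ∀ s : sectModEt M E', s = 0 := by
  classical
  obtain ⟨G, hG⟩ := Module.Finite.fg_top (R := fn E) (M := sectModEt M E)
  have ht : ∀ s : G, ∃ t : fn E, t ∉ primeAtPt E.obj.left.left u ∧ t • (s : sectModEt M E) = 0 := fun s => by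
    obtain ⟨W, hW, b, w, hw, hs⟩ := h s
    have := annSect_not_le hM b w hs
    rw [hw] at this
    obtain ⟨t, ht, ht'⟩ := SetLike.not_le_iff_exists.1 this
    exact ⟨t, ht', ht⟩
  choose t ht ht' using ht
  let T := ∏ s : G, t s
  have hT : T ∉ primeAtPt E.obj.left.left u := fun hmem => by
    obtain ⟨s, -, hs⟩ := (Ideal.IsPrime.prod_mem_iff (hp := isPrime_primeAtPt _ u)).1 hmem
    exact ht s hs
  have hu : u ∈ E.obj.left.left.basicOpen T := by
    rw [Scheme.mem_basicOpen _ _ _ (Set.mem_univ u : u ∈ (⊤ : E.obj.left.left.Opens))]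
    by_contra hnu
    exact hT hnu
  let O := E.obj.left.left.basicOpen T
  let O' : E.obj.left.left.Etale := MorphismProperty.Over.mk ⊤ O.ι (show Etale _ from inferInstance)
  let E' := (EtOver.ofChart E.obj.hom E.property).obj O'
  let a : E' ⟶ E := EtOver.homMk (EtOver.homOfEtale O') rfl
  haveI : IsAffine E'.obj.left.left := (isAffineOpen_top E.obj.left.left).basicOpen T
  refine ⟨E', inferInstance, a, ⟨u, hu⟩, rfl, fun s => ?_⟩
  have hunit : IsUnit (fnMap a T) := by
    by_contra hnu
    obtain ⟨m, hm, hmT⟩ := exists_max_ideal_of_mem_nonunits hnu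
    haveI := hm.isPrime
    obtain ⟨v, hv⟩ := exists_primeAtPt_eq m
    have h1 : T ∈ primeAtPt E.obj.left.left (a.hom.left.left v) := by
      rw [← primeAtPt_comap, hv]
      exact hmT
    exact h1 ((Scheme.mem_basicOpen _ _ _ (Set.mem_univ _ : a.hom.left.left v ∈ (⊤ : E.obj.left.left.Opens))).1 v.2)
  have hg : ∀ g : G, res M a (g : sectModEt M E) = 0 := fun g => by
    refine (hunit.smul_eq_zero).1 ?_
    obtain ⟨c, hc⟩ := Finset.dvd_prod_of_mem t (Finset.mem_univ g)
    rw [← res_smul, show T = t g * c from hc, mul_comm, mul_smul, ht' g, smul_zero, map_zero]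
  have hall : ∀ x : sectModEt M E, res M a x = 0 := fun x => by
    have hx : x ∈ Submodule.span (fn E) (G : Set (sectModEt M E)) := hG ▸ trivial
    have := res_mem_span_res a hx
    refine (Submodule.mem_bot (fn E')).1 (Submodule.span_le.2 ?_ this)
    rintro _ ⟨g, hg', rfl⟩
    exact hg ⟨g, hg'⟩
  have hs : s ∈ Submodule.span (fn E') (Set.range (res M a)) := span_res_eq_top hM a ▸ trivial
  refine (Submodule.mem_bot (fn E')).1 (Submodule.span_le.2 ?_ hs)
  rintro _ ⟨x, rfl⟩
  exact hall x

/-- Vanishing on a chart spreads to the affine charts inside its image. -/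
theorem eq_zero_of_range_subset (hM : IsCart M) {E' : EtOver X} [IsAffine E'.obj.left.left]
    (h : ∀ s : sectModEt M E', s = 0) (V : EtOver X)
    (hV : Set.range (Points.ofPt V.obj.hom) ⊆ Set.range (Points.ofPt E'.obj.hom)) (s : sectModEt M V) :
    s = 0 := by
  choose u hu using fun v : V.obj.left.left => hV ⟨v, rfl⟩
  choose W hW a b w ha hb using fun v : V.obj.left.left => exists_common_chart (hu v)
  refine eq_of_cover W b (fun v => ⟨v, w v, hb v⟩) fun v => ?_
  have := hW v
  rw [map_zero]
  have hs : res M (b v) s ∈ Submodule.span (fn (W v)) (Set.range (res M (a v))) :=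
    span_res_eq_top hM (a v) ▸ trivial
  refine (Submodule.mem_bot (fn (W v))).1 (Submodule.span_le.2 ?_ hs)
  rintro _ ⟨x, rfl⟩
  rw [h x, map_zero]
  exact Submodule.zero_mem _

/-- A map of modules. -/
theorem injective_secMap_of_kernel (φ : M ⟶ N) (V : EtOver X)
    (h : ∀ s : sectModEt (kernel φ) V, s = 0) : Function.Injective (secMap φ V) := by
  rw [injective_iff_map_eq_zero]
  intro x hx
  obtain ⟨y, rfl⟩ := SubSheaf.exists_kernel_lift φ x hx
  exact (congrArg (secMap (kernel.ι φ) V) (h y)).trans (map_zero _)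

/-- Surjectivity over affine objects where the cokernel vanishes. -/
theorem surjective_secMap_of_cokernel (φ : M ⟶ N) (hM : IsCart M) (hN : IsCart N) (V : EtOver X)
    [IsAffine V.obj.left.left] (h : ∀ s : sectModEt (cokernel φ) V, s = 0) :
    Function.Surjective (secMap φ V) := by
  intro m
  obtain ⟨y, hy⟩ := SubSheaf.exists_kernel_lift (cokernel.π φ) m (h _)
  obtain ⟨x, hx⟩ := surjective_secMap (Abelian.factorThruImage φ) hM
    (isCart_kernel (cokernel.π φ) hN (isCart_cokernel φ hM hN)) V y
  refine ⟨x, ?_⟩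
  have e : Abelian.factorThruImage φ ≫ kernel.ι (cokernel.π φ) = φ := Abelian.image.fac φ
  exact ((congrArg (fun ψ : M ⟶ N => ψ.val.app (op V) x) e).symm.trans
    (congrArg (secMap (kernel.ι (cokernel.π φ)) V) hx)).trans hy

/-- Bijectivity over affine charts inside an image spreads to all charts inside it. -/
theorem bijective_secMap_of_affine (φ : M ⟶ N) (O : Set (Points X))
    (h : ∀ (V : EtOver X) [IsAffine V.obj.left.left],
      Set.range (Points.ofPt V.obj.hom) ⊆ O → Function.Bijective (secMap φ V))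
    (V : EtOver X) (hV : Set.range (Points.ofPt V.obj.hom) ⊆ O) : Function.Bijective (secMap φ V) := by
  have hsub : ∀ {W : EtOver X} (k : W ⟶ V), Set.range (Points.ofPt W.obj.hom) ⊆ O := fun k => by
    rintro _ ⟨w, rfl⟩
    exact hV ⟨_, ofPt_comp_left k w⟩
  have inj : ∀ (W : EtOver X) (k : W ⟶ V), Function.Injective (secMap φ W) := fun W k => by
    rw [injective_iff_map_eq_zero]
    intro x hx
    obtain ⟨ι, U, j, hU, hj⟩ := exists_affine_cover_obj W
    refine eq_of_cover U j hj fun i => ?_
    have := hU i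
    rw [map_zero]
    refine (h (U i) (hsub (j i ≫ k))).1 ?_
    rw [secMap_res, hx, map_zero, map_zero]
  refine ⟨inj V (𝟙 V), fun m => ?_⟩
  obtain ⟨ι, W, j, hW, hj⟩ := exists_affine_cover_obj V
  choose x hx using fun v => have := hW v; (h (W v) (hsub (j v))).2 (res N (j v) m)
  obtain ⟨t, ht⟩ := exists_glue (M := M) W j hj x (fun v v' => by
      refine inj _ (EtOver.pullbackFst (j v) (j v') ≫ j v) ?_
      rw [secMap_res, secMap_res, hx, hx]
      exact res_res_eq _ _ _ _ (EtOver.pullback_condition _ _) m)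
  refine ⟨t, eq_of_cover W j hj fun v => ?_⟩
  rw [← secMap_res, ht v, hx]

/-- Kernels of coherent modules are finite on affine charts. -/
theorem finite_kernel (hX : IsLocNoethSp X) (φ : M ⟶ N) [M.IsFinitePresentation] (E : EtOver X)
    [IsAffine E.obj.left.left] : Module.Finite (fn E) (sectModEt (kernel φ) E) := by
  haveI := isNoetherianRing_fn hX E
  haveI := finite_of_isFinitePresentation (M := M) E
  exact Module.Finite.of_injective (secMap (kernel.ι φ) E) (SubSheaf.kernel_ι_injective φ)

/-- Cokernels of coherent modules are finite on affine charts. -/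
theorem finite_cokernel (φ : M ⟶ N) [M.IsFinitePresentation] [N.IsFinitePresentation] (E : EtOver X)
    [IsAffine E.obj.left.left] : Module.Finite (fn E) (sectModEt (cokernel φ) E) := by
  haveI := finite_of_isFinitePresentation (M := N) E
  exact Module.Finite.of_surjective (secMap (cokernel.π φ) E) (surjective_secMap (cokernel.π φ)
    isCart_of_isFinitePresentation
    (isCart_cokernel φ isCart_of_isFinitePresentation isCart_of_isFinitePresentation) E)

/-- A set with open preimage in every chart gives an open subspace. -/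
theorem exists_open_subspace_of (X : AlgSp.Space S) {W : Set (Points X.obj)} (hW : IsOpen W) :
    ∃ (X' : AlgSp.Space S) (j : X' ⟶ X), RepWith @IsOpenImmersion j.hom ∧
      Set.range (Points.map j.hom) = W := by
  obtain ⟨F, j, hF, hj, hr⟩ := Groth.Agent.Lib.AlgSpace.exists_open_subspace X.property hW
  exact ⟨⟨F, hF⟩, ObjectProperty.homMk j, hj, hr⟩

section Stalk

variable (hX : IsAlgSpace X) (p : FieldPt X) (hp : p.IsGeometric)

/-- The stalk of a module. -/
noncomputable abbrev stk (M : ModEt X) : Type (u + 1) :=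
  ((etPoint hX p hp).presheafFiber (A := AddCommGrpCat.{u + 1})).obj ((toAbEt X).obj M).obj

/-- The class of a section in the stalk. -/
noncomputable def germEt (M : ModEt X) {E : EtOver X} (l : (FieldPt.liftsTo p).obj E) :
    sectModEt M E →+ stk hX p hp M :=
  ((etPoint hX p hp).toPresheafFiber E l ((toAbEt X).obj M).obj).hom

/-- The map on stalks. -/
noncomputable def stalkEtMap (φ : M ⟶ N) :
    stk hX p hp M →+ stk hX p hp N :=
  ((etPoint hX p hp).presheafFiber.map ((toAbEt X).map φ).hom).hom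

theorem stalkEtMap_germEt (φ : M ⟶ N) {E : EtOver X} (l : (FieldPt.liftsTo p).obj E) (s : sectModEt M E) :
    stalkEtMap hX p hp φ (germEt hX p hp M l s) = germEt hX p hp N l (secMap φ E s) :=
  GrothendieckTopology.Point.toPresheafFiber_naturality_apply (etPoint hX p hp) ((toAbEt X).map φ).hom E l s

/-- Equality in the stalk holds on an affine neighbourhood. -/
theorem exists_res_eq {E : EtOver X} (l : (FieldPt.liftsTo p).obj E) {s t : sectModEt M E}
    (h : germEt hX p hp M l s = germEt hX p hp M l t) :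
    ∃ (W : EtOver X) (_ : IsAffine W.obj.left.left) (b : W ⟶ E) (l' : (FieldPt.liftsTo p).obj W),
      (FieldPt.liftsTo p).map b l' = l ∧ res M b s = res M b t := by
  obtain ⟨V, f, y, hy, hst⟩ := ((etPoint hX p hp).toPresheafFiber_eq_iff'
    (P := ((toAbEt X).obj M).obj) E l s t).1 h
  obtain ⟨W, hW, j, l', hl'⟩ := exists_affine_refine p hp y
  refine ⟨W, hW, j ≫ f, l', ?_, ?_⟩
  · rw [Functor.map_comp_apply, hl']
    exact hy
  · rw [res_comp_apply, res_comp_apply]
    exact congrArg (res M j) hst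

omit hX hp in
/-- The point of a lift. -/
theorem lift_pt {E W : EtOver X} (b : W ⟶ E) (l' : (FieldPt.liftsTo p).obj W) (l : (FieldPt.liftsTo p).obj E)
    (h : (FieldPt.liftsTo p).map b l' = l) : b.hom.left.left (l'.1.left (pt₀ p)) = l.1.left (pt₀ p) := by
  rw [← h]
  rfl

omit hX hp in
/-- Vanishing in the kernel is tested in the source. -/
theorem res_eq_zero_of_kernel (φ : M ⟶ N) {E W : EtOver X} (b : W ⟶ E) (s : sectModEt (kernel φ) E)
    (h : res M b (secMap (kernel.ι φ) E s) = res M b 0) : res (kernel φ) b s = 0 := by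
  refine SubSheaf.kernel_ι_injective φ ((secMap_res (kernel.ι φ) b s).trans (h.trans ?_))
  rw [map_zero]
  exact (map_zero (secMap (kernel.ι φ) W)).symm

omit hX hp in
/-- A kernel section vanishing near a point. -/
theorem exists_res_zero (φ : M ⟶ N) {E : EtOver X} (l : (FieldPt.liftsTo p).obj E) (s : sectModEt (kernel φ) E)
    (h : ∃ (W : EtOver X) (_ : IsAffine W.obj.left.left) (b : W ⟶ E) (l' : (FieldPt.liftsTo p).obj W),
      (FieldPt.liftsTo p).map b l' = l ∧ res M b (secMap (kernel.ι φ) E s) = res M b 0) :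
    ∃ (W : EtOver X) (_ : IsAffine W.obj.left.left) (b : W ⟶ E) (w : W.obj.left.left),
      b.hom.left.left w = l.1.left (pt₀ p) ∧ res (kernel φ) b s = 0 := by
  obtain ⟨W, hW, b, l', hl', hres⟩ := h
  exact ⟨W, hW, b, l'.1.left (pt₀ p), lift_pt p b l' l hl', res_eq_zero_of_kernel φ b s hres⟩

/-- An injective map on a stalk has vanishing kernel near the point. -/
theorem exists_kernel_eq_zero (φ : M ⟶ N) (hK : IsCart (kernel φ))
    (hfin : ∀ (E : EtOver X) [IsAffine E.obj.left.left], Module.Finite (fn E) (sectModEt (kernel φ) E))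
    (hinj : Function.Injective (stalkEtMap hX p hp φ)) :
    ∃ (E' : EtOver X) (_ : IsAffine E'.obj.left.left), Points.mk p ∈ Set.range (Points.ofPt E'.obj.hom) ∧
      ∀ s : sectModEt (kernel φ) E', s = 0 := by
  obtain ⟨E, hE, ⟨l⟩⟩ := exists_affine_nbhd hX p hp
  have := hfin E
  obtain ⟨E', hE', a, v, hv, h⟩ := exists_chart_eq_zero hK (l.1.left (pt₀ p)) fun s => by
    have h0 : stalkEtMap hX p hp φ (germEt hX p hp M l (secMap (kernel.ι φ) E s)) =
        stalkEtMap hX p hp φ (germEt hX p hp M l 0) := by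
      rw [stalkEtMap_germEt, stalkEtMap_germEt, (exact_secMap_kernel φ E).apply_apply_eq_zero, map_zero, map_zero, map_zero]
    have h1 := hinj h0
    exact exists_res_zero p φ l s (exists_res_eq hX p hp l h1)
  exact ⟨E', hE', ⟨v, by rw [← ofPt_comp_left a v, hv, ofPt_lift]⟩, h⟩

/-- A surjective map on a stalk has vanishing cokernel near the point. -/
theorem exists_cokernel_eq_zero (φ : M ⟶ N) (hM : IsCart M) (hN : IsCart N)
    (hfin : ∀ (E : EtOver X) [IsAffine E.obj.left.left], Module.Finite (fn E) (sectModEt (cokernel φ) E))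
    (hsurj : Function.Surjective (stalkEtMap hX p hp φ)) :
    ∃ (E' : EtOver X) (_ : IsAffine E'.obj.left.left), Points.mk p ∈ Set.range (Points.ofPt E'.obj.hom) ∧
      ∀ s : sectModEt (cokernel φ) E', s = 0 := by
  obtain ⟨E, hE, ⟨l⟩⟩ := exists_affine_nbhd hX p hp
  have := hfin E
  have hC := isCart_cokernel φ hM hN
  obtain ⟨E', hE', a, v, hv, h⟩ := exists_chart_eq_zero hC (l.1.left (pt₀ p)) fun s => by
    obtain ⟨m, rfl⟩ := surjective_secMap (cokernel.π φ) hN hC E s
    obtain ⟨z, hz⟩ := hsurj (germEt hX p hp N l m)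
    obtain ⟨V, y, x, rfl⟩ := (etPoint hX p hp).toPresheafFiber_jointly_surjective z
    obtain ⟨P, hP, h₁, h₂⟩ : ∃ (P : EtOver X) (lP : (FieldPt.liftsTo p).obj P) (f : P ⟶ E) (g : P ⟶ V),
        (FieldPt.liftsTo p).map f lP = l ∧ (FieldPt.liftsTo p).map g lP = y := by
      obtain ⟨lP, e₁, e₂⟩ := exists_lift_prod p l y
      exact ⟨_, lP, _, _, e₁, e₂⟩
    obtain ⟨g, e₁, e₂⟩ := h₂
    have key : germEt hX p hp N hP (secMap φ P (res M g x)) = germEt hX p hp N hP (res N h₁ m) := by
      rw [← stalkEtMap_germEt]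
      refine (congrArg (stalkEtMap hX p hp φ) ?_).trans (hz.trans ?_)
      · change _ = germEt hX p hp M y x
        rw [← e₂]
        exact GrothendieckTopology.Point.toPresheafFiber_w_apply _ _ _ _ _
      · rw [← e₁]
        exact (GrothendieckTopology.Point.toPresheafFiber_w_apply _ _ _ _ _).symm
    obtain ⟨W, hW, b, l', hl', hres⟩ := exists_res_eq hX p hp hP key
    refine ⟨W, hW, b ≫ h₁, l'.1.left (pt₀ p), ?_, ?_⟩
    · rw [← e₁, ← hl']
      rfl
    · rw [← secMap_res, res_comp_apply, ← hres, ← secMap_res]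
      exact congrArg (fun ψ : M ⟶ cokernel φ => ψ.val.app (op W) (res M b (res M g x))) (cokernel.condition φ)
  exact ⟨E', hE', ⟨v, by rw [← ofPt_comp_left a v, hv, ofPt_lift]⟩, h⟩

/-- The map on stalks is surjective at points where the cokernel vanishes. -/
theorem surjective_stalk_of_cokernel (φ : M ⟶ N) (hM : IsCart M) (hN : IsCart N) (E' : EtOver X)
    [IsAffine E'.obj.left.left] (h : ∀ s : sectModEt (cokernel φ) E', s = 0)
    (hpE : Points.mk p ∈ Set.range (Points.ofPt E'.obj.hom)) :
    Function.Surjective (stalkEtMap hX p hp φ) := by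
  intro z
  obtain ⟨V, y, x, rfl⟩ := (etPoint hX p hp).toPresheafFiber_jointly_surjective z
  obtain ⟨u, hu⟩ := hpE
  obtain ⟨m, -⟩ := exists_lift p hp E' u hu
  obtain ⟨lP, e₁, e₂⟩ := exists_lift_prod p m y
  obtain ⟨W, hW, j, l', hl'⟩ := exists_affine_refine p hp lP
  have hrange : Set.range (Points.ofPt W.obj.hom) ⊆ Set.range (Points.ofPt E'.obj.hom) := by
    rintro _ ⟨w, rfl⟩
    exact ⟨_, ofPt_comp_left (j ≫ EtOver.prodFst E' V) w⟩
  obtain ⟨n, hn⟩ := surjective_secMap_of_cokernel φ hM hN W
    (eq_zero_of_range_subset (isCart_cokernel φ hM hN) h W hrange) (res N (j ≫ EtOver.prodSnd E' V) x)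
  refine ⟨germEt hX p hp M l' n, ?_⟩
  rw [stalkEtMap_germEt, hn]
  refine Eq.trans ?_ (congrArg (fun t => germEt hX p hp N t x)
    (show (FieldPt.liftsTo p).map (j ≫ EtOver.prodSnd E' V) l' = y by rw [Functor.map_comp_apply, hl', e₂]))
  exact GrothendieckTopology.Point.toPresheafFiber_w_apply _ _ _ _ _

end Stalk

end Groth.Agent.Lib.EtMod
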