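import Groth.Agent.Lib.EtMod.WeakAss
import Groth.Agent.Lib.Pure.ProjDescent
import Groth.Agent.Lib.EtMod.EtalePull
import Groth.Agent.Lib.EtMod.StalkLocal
import Groth.Agent.Lib.AlgSpDecent.DescendMor

/-!
# Projectivity of modules of sections is etale local
-/

universe u w

set_option backward.isDefEq.respectTransparency false
set_option linter.style.haveILetI false

open CategoryTheory CategoryTheory.Limits AlgebraicGeometry Opposite AlgSp
open scoped TensorProduct
open TensorProduct

namespace Groth.Agent.Lib.EtMod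

/-- A projective module over a projective algebra is projective. -/
theorem Alg.projective_restrict {B C : Type u} [CommRing B] [CommRing C] [Algebra B C] [Module.Projective B C]
    {T : Type w} [AddCommGroup T] [Module C T] [Module B T] [IsScalarTower B C T] [Module.Projective C T] :
    Module.Projective B T := by
  classical
  obtain ⟨s, hs⟩ := Module.projective_lifting_property (Finsupp.linearCombination C (id : T → T)) LinearMap.id
    (fun t => ⟨Finsupp.single t 1, by simp⟩)
  haveI : Module.Projective B (T →₀ C) :=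
    Module.Projective.of_equiv (finsuppLequivDFinsupp B : (T →₀ C) ≃ₗ[B] Π₀ _ : T, C).symm
  exact Module.Projective.of_split (s.restrictScalars B) ((Finsupp.linearCombination C (id : T → T)).restrictScalars B)
    (LinearMap.ext fun t => LinearMap.congr_fun hs t)

/-- Descent of projectivity along a faithfully flat family. -/
theorem Alg.projective_of_family {A : Type u} [CommRing A] {M : Type u} [AddCommGroup M] [Module A M]
    {κ : Type} [Finite κ] (B : κ → Type u) [∀ k, CommRing (B k)] [∀ k, Algebra A (B k)]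
    (hB : Alg.IsFFFamily (A := A) B) (h : ∀ k, Module.Projective (B k) (B k ⊗[A] M)) :
    Module.Projective A M := by
  classical
  cases nonempty_fintype κ
  haveI := hB.faithfullyFlat
  letI : ∀ k, Algebra (∀ k, B k) (B k) := fun k => (Pi.evalRingHom B k).toAlgebra
  haveI : ∀ k, IsScalarTower A (∀ k, B k) (B k) := fun k => IsScalarTower.of_algebraMap_eq fun a => rfl
  haveI : ∀ k, Module.Projective (∀ k, B k) (B k) := fun k => by
    refine Module.Projective.of_split (M := ∀ k, B k)
      { toFun := fun x => Pi.single k x, map_add' := fun x y => Pi.single_add k x y, map_smul' := fun b x => ?_ }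
      (Algebra.linearMap (∀ k, B k) (B k)) (LinearMap.ext fun x => Pi.single_eq_same k x)
    funext l
    rcases eq_or_ne l k with rfl | hl
    · simp [Pi.single_eq_same, Algebra.smul_def, RingHom.algebraMap_toAlgebra]
    · simp [Pi.single_eq_of_ne hl]
  haveI : ∀ k, Module.Projective (∀ k, B k) (B k ⊗[A] M) := fun k =>
    haveI := h k
    Alg.projective_restrict (C := B k)
  haveI : Module.Projective (∀ k, B k) (∀ k, B k ⊗[A] M) :=
    Module.Projective.of_equiv (DirectSum.linearEquivFunOnFintype (∀ k, B k) κ fun k => B k ⊗[A] M)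
  let e₀ : (∀ k, B k) ⊗[A] M ≃ₗ[A] ∀ k, B k ⊗[A] M := TensorProduct.piLeft (R := A) (M := B) (N := M)
  let e : ((∀ k, B k) ⊗[A] M) ≃ₗ[∀ k, B k] ∀ k, B k ⊗[A] M :=
    { e₀ with
      map_smul' := fun b x => by
        show e₀ (b • x) = b • e₀ x
        induction x using TensorProduct.induction_on with
        | zero => rw [smul_zero, map_zero, smul_zero]
        | add x y hx hy => rw [smul_add, map_add, map_add, hx, hy, smul_add]
        | tmul c m =>
          funext k
          rw [TensorProduct.smul_tmul', Pi.smul_apply']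
          simp [e₀]
          rfl }
  haveI : Module.Projective (∀ k, B k) ((∀ k, B k) ⊗[A] M) := Module.Projective.of_equiv e.symm
  exact Pure.ProjDescent.projective_of_faithfullyFlat (S := ∀ k, B k)


namespace ProjLoc

variable {S : Scheme.{u}} {X : Sp S} {F : ModEt X}

/-- Projectivity propagates along restriction. -/
theorem projective_of_hom (hF : IsCart F) {E V : EtOver X} [IsAffine E.obj.left.left] [IsAffine V.obj.left.left]
    (g : V ⟶ E) [Module.Projective (fn E) (sectModEt F E)] : Module.Projective (fn V) (sectModEt F V) := by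
  letI := (fnMap g).toAlgebra
  letI := Module.compHom (sectModEt F V) (fnMap g)
  haveI : IsScalarTower (fn E) (fn V) (sectModEt F V) :=
    IsScalarTower.of_algebraMap_smul fun _ _ => rfl
  have h := @hF E V _ _ g
  exact Module.Projective.of_equiv (R := fn V) (S := fn V) h.equiv

/-- Projectivity is local. -/
theorem projective_of_cover (hF : IsCart F) {E : EtOver X} [IsAffine E.obj.left.left] (C : AffCover E)
    (hC : ∀ k, Module.Projective (fn (C.V k)) (sectModEt F (C.V k)))
    {M : Type u} [AddCommGroup M] [Module (fn E) M] (ψ : sectModEt F E ≃ₗ[fn E] M) :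
    Module.Projective (fn E) M := by
  letI := fun k => (fnMap (C.g k)).toAlgebra
  refine Alg.projective_of_family (A := fn E) (M := M) (fun k => (fn (C.V k) : Type u))
    C.isFFFamily fun k => ?_
  letI := Module.compHom (sectModEt F (C.V k)) (fnMap (C.g k))
  haveI : IsScalarTower (fn E) (fn (C.V k)) (sectModEt F (C.V k)) :=
    IsScalarTower.of_algebraMap_smul fun _ _ => rfl
  have h := @hF E (C.V k) _ _ (C.g k)
  haveI := hC k
  exact Module.Projective.of_equiv (R := fn (C.V k)) (S := fn (C.V k))
    (h.equiv.symm.trans (AlgebraTensorModule.congr (LinearEquiv.refl (fn (C.V k)) (fn (C.V k))) ψ))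

variable (F)

/-- The object of an open of a chart. -/
noncomputable abbrev openObj {V : Over S} {q : (yon S).obj V ⟶ X} (he : IsEtaleMor q) (W : V.left.Opens) : EtOver X :=
  (EtOver.postcomp q he).obj ((EtOver.ofScheme V).obj (etaleOfOpen V.left W))

theorem exists_equiv {V : Over S} {q : (yon S).obj V ⟶ X} (hrep : Representable q) (hq : RepWith @Etale q)
    [(SheafOfModules.pushforward.{u + 1} (bcRingHom hrep)).IsRightAdjoint]
    (G : V.left.Modules) (c : ZarCompanion V.left G ((resSchModEt V).obj ((pullModEt hrep).obj F)))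
    (he : IsEtaleMor q) (W : V.left.Opens) :
    ∃ ψ : sectModEt F (openObj he W) ≃+ G.val.obj (op W),
      ∀ (a : Γ(V.left, W)) (s : sectModEt F (openObj he W)),
        ψ (HSMul.hSMul (α := fn (openObj he W)) (W.topIso.inv a) s) = a • ψ s := by
  let E' : EtOver ((yon S).obj V) := (EtOver.ofScheme V).obj (etaleOfOpen V.left W)
  let P := (pullIsoRestr hrep he).app F
  have h1 : ∀ s, secMap P.hom E' (secMap P.inv E' s) = s := fun s =>
    congrArg (fun φ : _ ⟶ _ => secMap φ E' s) P.inv_hom_id
  have h2 : ∀ s, secMap P.inv E' (secMap P.hom E' s) = s := fun s =>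
    congrArg (fun φ : _ ⟶ _ => secMap φ E' s) P.hom_inv_id
  let e₁ : sectModEt F (openObj he W) ≃+ sectModEt ((pullModEt hrep).obj F) E' :=
    { toFun := secMap P.inv E'
      invFun := secMap P.hom E'
      left_inv := h1
      right_inv := h2
      map_add' := map_add (secMap P.inv E') }
  refine ⟨(e₁.trans (c.iso W)).trans AddEquiv.ulift, fun a s => ?_⟩
  show (c.iso W (secMap P.inv E' (HSMul.hSMul (α := fn E') (β := sectModEt ((restrModEt he).obj F) E')
    (γ := sectModEt ((restrModEt he).obj F) E') (W.topIso.inv a) s))).down = _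
  rw [map_smul]
  exact congrArg ULift.down (c.map_smul W a (secMap P.inv E' s))

end ProjLoc

end Groth.Agent.Lib.EtMod

namespace Groth.Agent.Lib.EtMod.ProjLoc

variable {S : Scheme.{u}} {X : AlgSp.Space S}

/-- Functions on an open of a chart. -/
noncomputable def fnHom {V : Over S} {q : (yon S).obj V ⟶ X.obj} (he : IsEtaleMor q) (W : V.left.Opens) :
    fn (openObj he W) →+* Γ(V.left, W) := W.topIso.hom.hom

/-- Its inverse. -/
noncomputable def fnInv {V : Over S} {q : (yon S).obj V ⟶ X.obj} (he : IsEtaleMor q) (W : V.left.Opens) :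
    Γ(V.left, W) →+* fn (openObj he W) := W.topIso.inv.hom

theorem ring_pair {R T : CommRingCat.{u}} (e : R ≅ T) :
    RingHomInvPair e.hom.hom e.inv.hom ∧ RingHomInvPair e.inv.hom e.hom.hom :=
  ⟨⟨by rw [← CommRingCat.hom_comp, e.hom_inv_id]; rfl, by rw [← CommRingCat.hom_comp, e.inv_hom_id]; rfl⟩,
   ⟨by rw [← CommRingCat.hom_comp, e.inv_hom_id]; rfl, by rw [← CommRingCat.hom_comp, e.hom_inv_id]; rfl⟩⟩

/-- The criterion. -/
theorem projective_sections (F : ModEt X.obj) (hF : F.IsQuasicoherent)
    {U : Over S} (p : (yon S).obj U ⟶ X.obj) (hrep : Representable p) (hp : RepWith @Etale p)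
    (hs : RepWith @Surjective p)
    [(SheafOfModules.pushforward.{u + 1} (bcRingHom hrep)).IsRightAdjoint]
    (G : U.left.Modules)
    (c : ZarCompanion U.left G ((resSchModEt U).obj ((pullModEt hrep).obj F)))
    (hG : ∀ W : U.left.Opens, IsAffineOpen W →
      Module.Projective Γ(U.left, W) (G.val.obj (op W)))
    {V : Over S} (q : (yon S).obj V ⟶ X.obj) (hrepq : Representable q) (hq : RepWith @Etale q)
    [(SheafOfModules.pushforward.{u + 1} (bcRingHom hrepq)).IsRightAdjoint]
    (G' : V.left.Modules)
    (c' : ZarCompanion V.left G' ((resSchModEt V).obj ((pullModEt hrepq).obj F)))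
    (W : V.left.Opens) (hW : IsAffineOpen W) : Module.Projective Γ(V.left, W) (G'.val.obj (op W)) := by
  have hF' : IsCart F := @isCart_of_isQuasicoherent _ _ _ hF
  have hep : IsEtaleMor p := Groth.Agent.Lib.AlgSpDecent.DescendMor.isEtaleMor_of_repWith hp
  have heq : IsEtaleMor q := Groth.Agent.Lib.AlgSpDecent.DescendMor.isEtaleMor_of_repWith hq
  have hU : ∀ W₀ : U.left.Opens, IsAffineOpen W₀ →
      Module.Projective (fn (openObj hep W₀)) (sectModEt F (openObj hep W₀)) := fun W₀ hW₀ => by
    obtain ⟨ψ, hψ⟩ := exists_equiv F hrep hp G c hep W₀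
    haveI := hG W₀ hW₀
    haveI : RingHomInvPair (fnHom hep W₀) (fnInv hep W₀) := (ring_pair W₀.topIso).1
    haveI : RingHomInvPair (fnInv hep W₀) (fnHom hep W₀) := (ring_pair W₀.topIso).2
    refine Module.Projective.of_equiv (σ := fnInv hep W₀) (σ' := fnHom hep W₀)
      ({ ψ.symm with map_smul' := fun a m => ?_ } :
        G.val.obj (op W₀) ≃ₛₗ[fnInv hep W₀] sectModEt F (openObj hep W₀))
    refine ψ.injective ?_
    show ψ (ψ.symm (a • m)) = ψ _
    rw [AddEquiv.apply_symm_apply]
    refine Eq.trans ?_ (hψ a (ψ.symm m)).symm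
    rw [AddEquiv.apply_symm_apply]
  haveI : IsAffine (openObj (X := X.obj) heq W).obj.left.left := hW
  let E := openObj (X := X.obj) heq W
  have hcov : ∀ x : E.obj.left.left, ∃ (T : EtOver X.obj) (b : T ⟶ E),
      IsAffine T.obj.left.left ∧ x ∈ Set.range b.hom.left.left ∧
        Module.Projective (fn T) (sectModEt F T) := fun x => by
    obtain ⟨u, hu⟩ := Groth.Agent.Lib.AlgSpDecent.Core.surjective_ofPt hs (Points.ofPt E.obj.hom x)
    obtain ⟨W₀, hW₀, huW, -⟩ := exists_isAffineOpen_mem_and_subset (x := u) (U := (⊤ : U.left.Opens)) trivial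
    haveI : IsAffine (openObj (X := X.obj) hep W₀).obj.left.left := hW₀
    have hpt : Points.ofPt (openObj (X := X.obj) hep W₀).obj.hom (⟨u, huW⟩ : W₀.toScheme) = Points.ofPt p u :=
      Groth.Agent.Lib.AlgSpace.ofPt_yon_map_comp 
        (φ := (Over.homMk W₀.ι rfl : Over.mk (W₀.ι ≫ U.hom) ⟶ U)) p _
    obtain ⟨T, hT, a, b, w, ha, hb⟩ :=
      exists_common_chart (E := E) (E' := openObj (X := X.obj) hep W₀) (u := x) (u' := ⟨u, huW⟩) (hu.symm.trans hpt.symm)
    haveI := hU W₀ hW₀
    exact ⟨T, a, hT, ⟨w, ha⟩, projective_of_hom hF' b⟩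
  choose T b hT hx hP using hcov
  obtain ⟨C, hC⟩ := exists_affCover (ofArrows_mem_etTop T b fun x => ⟨x, hx x⟩)
  have hC' : ∀ k, Module.Projective (fn (C.V k)) (sectModEt F (C.V k)) := fun k => by
    obtain ⟨_, a, _, ⟨x⟩, hk⟩ := hC k
    haveI := hT x
    haveI := hP x
    exact projective_of_hom hF' a
  obtain ⟨ψ, hψ⟩ := exists_equiv F hrepq hq G' c' heq W
  letI : Module (fn E) (G'.val.obj (op W)) := Module.compHom _ (fnHom heq W)
  haveI := projective_of_cover hF' C hC' (M := G'.val.obj (op W))
    { ψ with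
      map_smul' := fun a s => by
        show ψ (a • s) = (fnHom heq W a : Γ(V.left, W)) • ψ s
        rw [← hψ]
        exact congrArg ψ (congrArg (fun a' : fn E => a' • s) (ConcreteCategory.congr_hom W.topIso.hom_inv_id a).symm) }
  haveI : RingHomInvPair (fnHom heq W) (fnInv heq W) := (ring_pair W.topIso).1
  haveI : RingHomInvPair (fnInv heq W) (fnHom heq W) := (ring_pair W.topIso).2
  exact Module.Projective.of_equiv (σ := fnHom heq W) (σ' := fnInv heq W)
    ({ AddEquiv.refl (G'.val.obj (op W)) with map_smul' := fun _ _ => rfl } :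
      G'.val.obj (op W) ≃ₛₗ[fnHom heq W] G'.val.obj (op W))

end Groth.Agent.Lib.EtMod.ProjLoc
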