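import Groth.Agent.H8.SlicePull

/-!
# Inverse images preserve quasi-coherence
-/

universe u

set_option backward.isDefEq.respectTransparency false
set_option backward.isDefEq.respectTransparency.types false
set_option linter.style.haveILetI false

open CategoryTheory CategoryTheory.Limits AlgebraicGeometry Opposite AlgSp
open Groth.Agent.H8.SlicePull

namespace Groth.Agent.Lib.EtMod.SlicePullQCoh

variable {S : Scheme.{u}} {X Y : Sp S} {f : X ⟶ Y} (hf : Representable f)

/-- Presentations of inverse images on slices. -/
theorem nonempty_presentation_pull (E : EtOver Y)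
    [(SheafOfModules.pushforward.{u + 1} (bcRingHom hf)).IsRightAdjoint]
    (N : ModEt Y) (σ : ((SheafOfModules.overFunctor (OEtRing Y) E).obj N).Presentation) :
    Nonempty ((SheafOfModules.overFunctor (OEtRing X) ((EtOver.bc hf).obj E)).obj
      ((pullModEt hf).obj N)).Presentation := by
  haveI := isRightAdjoint_slice hf E
  haveI : PreservesColimitsOfSize.{u + 1, u + 1} (slicePull hf E) :=
    (slicePullAdj hf E).leftAdjoint_preservesColimits
  obtain ⟨g, hg⟩ : ∃ g : (slicePull hf E).obj ((SheafOfModules.overFunctor (OEtRing Y) E).obj N) ⟶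
      (SheafOfModules.overFunctor (OEtRing X) ((EtOver.bc hf).obj E)).obj ((pullModEt hf).obj N), IsIso g :=
    ⟨(overPullIso hf E).inv.app N, inferInstance⟩
  exact ⟨(σ.map (slicePull hf E)
    (asIso (SheafOfModules.pullbackObjUnitToUnit (sliceRingHom hf E))).symm).ofIsIso g⟩

/-- Inverse images preserve quasi-coherence. -/
theorem isQuasicoherent_pull (hY : IsAlgSpace Y)
    [(SheafOfModules.pushforward.{u + 1} (bcRingHom hf)).IsRightAdjoint] (N : ModEt Y)
    (hN : N.IsQuasicoherent) : ((pullModEt hf).obj N).IsQuasicoherent := by
  obtain ⟨q⟩ := hN.nonempty_quasicoherentData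
  have h : ∀ i, Nonempty (((pullModEt hf).obj N).over ((EtOver.bc hf).obj (q.X i))).Presentation :=
    fun i => nonempty_presentation_pull hf (q.X i) N (q.presentation i)
  let q' : ((pullModEt hf).obj N).QuasicoherentData :=
    { I := q.I, X := fun i => (EtOver.bc hf).obj (q.X i), coversTop := coversTop_bc hf hY q.coversTop,
      presentation := fun i => (h i).some }
  exact q'.isQuasicoherent

end Groth.Agent.Lib.EtMod.SlicePullQCoh
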