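import Groth.Agent.Lib.EtMod.Present
import Groth.Agent.Lib.EtMod.SlicePullQCoh
import Mathlib.CategoryTheory.Abelian.Basic
import Mathlib.CategoryTheory.Retract

/-!
# Projective sections and retracts of free modules on slices
-/

universe u

set_option backward.isDefEq.respectTransparency false
set_option linter.style.haveILetI false

open CategoryTheory CategoryTheory.Limits AlgebraicGeometry Opposite AlgSp
open TensorProduct

namespace Groth.Agent.Lib.EtMod.RetractFree

variable {S : Scheme.{u}} {X : Sp S} {X₀ : EtOver X} {P : SliceMod X₀}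

theorem injective_combBase {E : EtOver X} [IsAffine E.obj.left.left] (f : E ⟶ X₀) (ι : Type (u + 1)) :
    Function.Injective (combBase f ι) := by
  intro a b hab
  have h := tens_combBase_injective (f := f) (ι := ι) (𝟙 E) (a₁ := (1 : Fn (𝟙 E)) ⊗ₜ a) (a₂ := (1 : Fn (𝟙 E)) ⊗ₜ b)
    (by rw [tens_tmul, tens_tmul, hab])
  classical
  have h' := congrArg (TensorProduct.finsuppScalarRight (fn E) (Fn (𝟙 E)) (Fn (𝟙 E)) ι) h
  ext i
  have h'' := DFunLike.congr_fun h' i
  rw [TensorProduct.finsuppScalarRight_apply_tmul_apply, TensorProduct.finsuppScalarRight_apply_tmul_apply,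
    Algebra.smul_def, Algebra.smul_def, mul_one, mul_one, algebraMap_fn, algebraMap_fn, fnMap_id_apply,
    fnMap_id_apply] at h''
  exact h''

theorem bijective_combBase {E : EtOver X} [IsAffine E.obj.left.left] (f : E ⟶ X₀) (ι : Type (u + 1)) :
    Function.Bijective (combBase f ι) :=
  ⟨injective_combBase f ι, surjective_of_tens_id (bijective_tens_combBase (𝟙 E)).2⟩

theorem free_hom_ext {I : Type (u + 1)} {Q : SliceMod X₀} {a b : sfree (X₀ := X₀) I ⟶ Q}
    (h : ∀ i, sMap a (𝟙 X₀) (combBase (𝟙 X₀) I (Finsupp.single i 1)) =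
      sMap b (𝟙 X₀) (combBase (𝟙 X₀) I (Finsupp.single i 1))) : a = b := by
  refine (SheafOfModules.freeHomEquiv _).injective (funext fun i => PresheafOfModules.sections_ext _ _ fun T => ?_)
  have h' := h i
  rw [combBase_single, sMap_eval, sMap_eval] at h'
  rw [← (Q.freeHomEquiv a i).2 (Over.homMk T.unop.hom : T.unop ⟶ Over.mk (𝟙 X₀)).op,
    ← (Q.freeHomEquiv b i).2 (Over.homMk T.unop.hom : T.unop ⟶ Over.mk (𝟙 X₀)).op]
  exact congrArg _ h'

theorem sMap_comp {A B C : SliceMod X₀} (a : A ⟶ B) (b : B ⟶ C) {V : EtOver X} (f : V ⟶ X₀) (x : SSec A f) :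
    sMap (a ≫ b) f x = sMap b f (sMap a f x) :=
  rfl

theorem sMap_zero {A B : SliceMod X₀} {V : EtOver X} (f : V ⟶ X₀) (x : SSec A f) :
    sMap (0 : A ⟶ B) f x = 0 :=
  rfl

theorem comp_eq_zero_of_gen [IsAffine X₀.obj.left.left] {ι : Type (u + 1)} (π : sfree (X₀ := X₀) ι ⟶ P)
    {Q K : SliceMod X₀} (e : sfree (X₀ := X₀) ι ⟶ Q) (κ : K ⟶ sfree (X₀ := X₀) ι) (w : κ ≫ π = 0)
    (hK : Epi (genMap K))
    (h : ∀ n, sMap π (𝟙 X₀) (combBase (𝟙 X₀) ι n) = 0 → sMap e (𝟙 X₀) (combBase (𝟙 X₀) ι n) = 0) :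
    κ ≫ e = 0 := by
  rw [← cancel_epi (genMap K), comp_zero]
  refine free_hom_ext fun i => ?_
  have hgen : sMap (genMap K) (𝟙 X₀) (combBase (𝟙 X₀) _ (Finsupp.single i 1)) = i :=
    (sMap_genMap_combBase K _).trans ((Finsupp.linearCombination_single _ _ _).trans (one_smul _ _))
  obtain ⟨n, hn⟩ := (bijective_combBase (𝟙 X₀) ι).2 (sMap κ (𝟙 X₀) i)
  have h0 : sMap π (𝟙 X₀) (combBase (𝟙 X₀) ι n) = 0 :=
    (congrArg (sMap π (𝟙 X₀)) hn).trans (sMap_comp_zero κ π w _ i)
  refine (sMap_comp _ _ _ _).trans ?_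
  refine (sMap_comp _ _ _ _).trans ?_
  refine Eq.trans ?_ (sMap_zero _ _).symm
  exact (congrArg (fun z => sMap e (𝟙 X₀) (sMap κ (𝟙 X₀) z)) hgen).trans
    ((congrArg (sMap e (𝟙 X₀)) hn).symm.trans (h n h0))

theorem exists_retract_aux [IsAffine X₀.obj.left.left] {ι : Type (u + 1)} (π : sfree (X₀ := X₀) ι ⟶ P) [Epi π]
    (hK : Epi (genMap (kernel π))) (lc : (ι →₀ fn X₀) →ₗ[fn X₀] SSec P (𝟙 X₀))
    (hπ : ∀ n, sMap π (𝟙 X₀) (combBase (𝟙 X₀) ι n) = lc n) (s₀ : SSec P (𝟙 X₀) →ₗ[fn X₀] ι →₀ fn X₀)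
    (hs₀ : ∀ x, lc (s₀ x) = x) (e : sfree (X₀ := X₀) ι ⟶ sfree (X₀ := X₀) ι)
    (he : ∀ n, sMap e (𝟙 X₀) (combBase (𝟙 X₀) ι n) = combBase (𝟙 X₀) ι (s₀ (lc n))) :
    Nonempty (Retract P (sfree (X₀ := X₀) ι)) := by
  have hk : kernel.ι π ≫ e = 0 := comp_eq_zero_of_gen π e (kernel.ι π) (kernel.condition π) hK fun n hn => by
    rw [he, ← hπ, hn, map_zero, map_zero]
  refine ⟨⟨Abelian.epiDesc π e hk, π, ?_⟩⟩
  rw [← cancel_epi π, ← Category.assoc, Abelian.comp_epiDesc, Category.comp_id]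
  refine free_hom_ext fun i => ?_
  rw [sMap_comp, he, hπ, hs₀, hπ]

/-- A slice module with projective sections over the base and base change is a retract of a free one. -/
theorem exists_retract [IsAffine X₀.obj.left.left]
    (hb : ∀ ⦃V : EtOver X⦄ [IsAffine V.obj.left.left] (g : V ⟶ X₀),
      Function.Bijective (tens (LinearMap.id : SSec P (𝟙 X₀) →ₗ[fn X₀] SSec P (𝟙 X₀)) g))
    [Module.Projective (fn X₀) (SSec P (𝟙 X₀))] :
    ∃ ι : Type (u + 1), Nonempty (Retract P (sfree (X₀ := X₀) ι)) := by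
  obtain ⟨s₀, hs₀⟩ := Module.projective_lifting_property
    (Finsupp.linearCombination (fn X₀) (id : SSec P (𝟙 X₀) → SSec P (𝟙 X₀))) LinearMap.id
    (fun x => ⟨Finsupp.single x 1, by simp⟩)
  haveI : Epi (genMap P) := epi_genMap fun _ _ g => (hb g).2
  refine ⟨SSec P (𝟙 X₀), exists_retract_aux (genMap P)
    (epi_genMap fun _ _ g => surjective_tens_kernel (genMap P) (combBase (𝟙 X₀) _) g
      (bijective_tens_combBase g).2 (hb g).1)
    _ (sMap_genMap_combBase P) s₀ (LinearMap.congr_fun hs₀)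
    ((sfree (X₀ := X₀) (SSec P (𝟙 X₀))).freeHomEquiv.symm fun i =>
      genAll _ (combBase (𝟙 X₀) _ (s₀ i))) fun n =>
    (sMap_genFam_combBase _ n).trans
      (Finsupp.apply_linearCombination (fn X₀) ((combBase (𝟙 X₀) (SSec P (𝟙 X₀))).comp s₀) id n).symm⟩

/-- Sections of a retract of a free module over affine objects are projective. -/
theorem projective_of_retract {ι : Type (u + 1)} (r : Retract P (sfree (X₀ := X₀) ι)) {E : EtOver X}
    [IsAffine E.obj.left.left] (f : E ⟶ X₀) : Module.Projective (fn E) (SSec P f) := by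
  haveI : Module.Projective (fn E) (SSec (sfree (X₀ := X₀) ι) f) :=
    Module.Projective.of_equiv (LinearEquiv.ofBijective (combBase f ι) (bijective_combBase f ι))
  exact Module.Projective.of_split (sMap r.i f) (sMap r.r f) (LinearMap.ext fun x =>
    congrArg (fun φ : P ⟶ P => φ.val.app (op (Over.mk f)) x) r.retract)

variable {Y : Sp S} {f : X ⟶ Y} (hf : Representable f)

open Groth.Agent.H8.SlicePull in
/-- Inverse images of modules with projective sections have projective sections over affine objects mapping to the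
base change. -/
theorem projective_pull [(SheafOfModules.pushforward.{u + 1} (bcRingHom hf)).IsRightAdjoint] {G : ModEt Y}
    (hG : IsCart G) (E : EtOver Y) [IsAffine E.obj.left.left] [Module.Projective (fn E) (sectModEt G E)]
    {V : EtOver X} [IsAffine V.obj.left.left] (k : V ⟶ (EtOver.bc hf).obj E) :
    Module.Projective (fn V) (sectModEt ((pullModEt hf).obj G) V) := by
  haveI : Module.Projective (fn E) (SSec ((SheafOfModules.overFunctor (OEtRing Y) E).obj G) (𝟙 E)) :=
    ‹Module.Projective (fn E) (sectModEt G E)›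
  obtain ⟨ι, ⟨r⟩⟩ := exists_retract (P := (SheafOfModules.overFunctor (OEtRing Y) E).obj G)
    fun W _ g => bijective_tens_of_isBaseChange g (hG g)
  haveI := isRightAdjoint_slice hf E
  obtain ⟨e⟩ : Nonempty ((slicePull hf E).obj (sfree ι) ≅ sfree (X₀ := (EtOver.bc hf).obj E) ι) :=
    ⟨SheafOfModules.pullbackObjFreeIso (sliceRingHom hf E) ι⟩
  let r₁ : Retract ((SheafOfModules.overFunctor (OEtRing X) ((EtOver.bc hf).obj E)).obj ((pullModEt hf).obj G))
      (sfree (X₀ := (EtOver.bc hf).obj E) ι) :=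
    ((Retract.ofIso ((overPullIso hf E).app G)).trans (r.map (slicePull hf E))).trans (Retract.ofIso e)
  exact projective_of_retract r₁ k

end Groth.Agent.Lib.EtMod.RetractFree
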