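import Groth.Agent.Lib.EtMod.ZarRes
import Groth.Agent.Lib.EtMod.RetractFree

/-!
# Inverse images of locally projective modules are locally projective
-/

universe u

set_option backward.isDefEq.respectTransparency false
set_option linter.style.haveILetI false

open CategoryTheory CategoryTheory.Limits AlgebraicGeometry Opposite AlgSp
open Groth.Agent.Lib.EtMod.ProjLoc

namespace Groth.Agent.Lib.EtMod.ProjPull

variable {S : Scheme.{u}} {Y : AlgSp.Space S}

/-- Local projectivity, phrased through companions, gives projective sections over affine objects. -/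
theorem projective_sect (G : ModEt Y.obj) (hG : IsCart G)
    (hsmall : ∀ E : EtOver Y.obj, IsAffine E.obj.left.left → Small.{u} (sectModEt G E))
    (hproj : ∀ {V : Over S} (q : (yon S).obj V ⟶ Y.obj) (hrepq : Representable q)
      [(SheafOfModules.pushforward.{u + 1} (bcRingHom hrepq)).IsRightAdjoint]
      (H : V.left.Modules) [Coh.IsQCoh H]
      (c : ZarCompanion V.left H ((resSchModEt V).obj ((pullModEt hrepq).obj G)))
      (W : V.left.Opens), RepWith @Etale q → IsAffineOpen W →
        Module.Projective (V.left.ringCatSheaf.obj.obj (op W)) (H.val.obj (op W)))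
    (E : EtOver Y.obj) [IsAffine E.obj.left.left] : Module.Projective (fn E) (sectModEt G E) := by
  let V := E.obj.left
  let q : (yon S).obj V ⟶ Y.obj := E.obj.hom
  have he : IsEtaleMor q := Groth.Agent.Lib.AlgSpDecent.DescendMor.isEtaleMor_of_repWith E.property
  have hr : Representable q := E.property.1
  haveI : (SheafOfModules.pushforward.{u + 1} (bcRingHom hr)).IsRightAdjoint :=
    Groth.Agent.H8.PullExists.isRightAdjoint_sheaf (bcRingHom hr)
  haveI : ∀ W : V.left.Opens, Small.{u} (sectModEt G (openObj he W)) := ZarRes.small_sect he G hsmall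
  haveI : Coh.IsQCoh (ZarRes.mod he G) := ZarRes.isQuasicoherent_mod he G hG
  let T := openObj (X := Y.obj) he (⊤ : V.left.Opens)
  haveI hP : Module.Projective Γ(V.left, ⊤) ((ZarRes.mod he G).val.obj (op ⊤)) :=
    hproj q hr (ZarRes.mod he G) (ZarRes.companion he hr G) ⊤ E.property (isAffineOpen_top _)
  haveI : RingHomInvPair (ProjLoc.fnHom (X := Y) he ⊤) (ProjLoc.fnInv (X := Y) he ⊤) := (ring_pair (⊤ : V.left.Opens).topIso).1
  haveI : RingHomInvPair (ProjLoc.fnInv (X := Y) he ⊤) (ProjLoc.fnHom (X := Y) he ⊤) := (ring_pair (⊤ : V.left.Opens).topIso).2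
  haveI : IsAffine T.obj.left.left := isAffineOpen_top V.left
  haveI : Module.Projective (fn T) (sectModEt G T) := by
    refine Module.Projective.of_equiv (σ := ProjLoc.fnInv (X := Y) he ⊤) (σ' := ProjLoc.fnHom (X := Y) he ⊤)
      ({ ZarRes.upAdd he G ⊤ with map_smul' := fun a m => ?_ } :
        (ZarRes.mod he G).val.obj (op ⊤) ≃ₛₗ[ProjLoc.fnInv (X := Y) he ⊤] sectModEt G T)
    exact ZarRes.upAdd_smul he G ⊤ a m
  let j₁ : V ⟶ T.obj.left := Over.homMk V.left.topIso.inv (by
    show V.left.topIso.inv ≫ (⊤ : V.left.Opens).ι ≫ V.hom = V.hom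
    rw [← Category.assoc, Scheme.toIso_inv_ι, Category.id_comp])
  let j₂ : T.obj.left ⟶ V := Over.homMk (⊤ : V.left.Opens).ι rfl
  have hj : j₁ ≫ j₂ = 𝟙 V := Over.OverMorphism.ext (Scheme.toIso_inv_ι V.left)
  let j : E ⟶ T := EtOver.homMk j₁ (by
    show (yon S).map j₁ ≫ (yon S).map j₂ ≫ q = q
    rw [← Category.assoc, ← Functor.map_comp, hj, CategoryTheory.Functor.map_id, Category.id_comp])
  exact projective_of_hom hG j

/-- The criterion. -/
theorem projective_sections_pull {X : AlgSp.Space S} {f : X.obj ⟶ Y.obj} (hrep : Representable f)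
    [(SheafOfModules.pushforward.{u + 1} (bcRingHom hrep)).IsRightAdjoint]
    (G : ModEt Y.obj) (hG : G.IsQuasicoherent)
    (hP : ∀ (E : EtOver Y.obj) [IsAffine E.obj.left.left], Module.Projective (fn E) (sectModEt G E))
    {U : Over S} (p : (yon S).obj U ⟶ X.obj) (hrepp : Representable p) (hp : RepWith @Etale p)
    [(SheafOfModules.pushforward.{u + 1} (bcRingHom hrepp)).IsRightAdjoint]
    (H' : U.left.Modules)
    (c' : ZarCompanion U.left H' ((resSchModEt U).obj ((pullModEt hrepp).obj ((pullModEt hrep).obj G))))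
    (W : U.left.Opens) (hW : IsAffineOpen W) : Module.Projective Γ(U.left, W) (H'.val.obj (op W)) := by
  let F : ModEt X.obj := (pullModEt hrep).obj G
  have hGc : IsCart G := @isCart_of_isQuasicoherent _ _ _ hG
  have hF : IsCart F := @isCart_of_isQuasicoherent _ _ _
    (SlicePullQCoh.isQuasicoherent_pull hrep Y.property G hG)
  have hep : IsEtaleMor p := Groth.Agent.Lib.AlgSpDecent.DescendMor.isEtaleMor_of_repWith hp
  let E := openObj (X := X.obj) hep W
  haveI : IsAffine E.obj.left.left := hW
  obtain ⟨C, hC⟩ := exists_affCover (Groth.Agent.H8.SlicePull.coversTop_bc hrep Y.property (coversTop_affine Y.obj) E)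
  have hC' : ∀ k, Module.Projective (fn (C.V k)) (sectModEt F (C.V k)) := fun k => by
    obtain ⟨D, ⟨g⟩⟩ := (Sieve.mem_ofObjects_iff ..).1 (hC k)
    haveI := D.2
    haveI := hP D.1
    exact RetractFree.projective_pull hrep hGc D.1 g
  obtain ⟨ψ, hψ⟩ := exists_equiv F hrepp hp H' c' hep W
  letI : Module (fn E) (H'.val.obj (op W)) := Module.compHom _ (ProjLoc.fnHom (X := X) hep W)
  haveI := projective_of_cover hF C hC' (M := H'.val.obj (op W))
    { ψ with
      map_smul' := fun a s => by
        show ψ (a • s) = (ProjLoc.fnHom (X := X) hep W a : Γ(U.left, W)) • ψ s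
        rw [← hψ]
        exact congrArg ψ (congrArg (fun a' : fn E => a' • s) (ConcreteCategory.congr_hom W.topIso.hom_inv_id a).symm) }
  haveI : RingHomInvPair (ProjLoc.fnHom (X := X) hep W) (ProjLoc.fnInv (X := X) hep W) := (ring_pair W.topIso).1
  haveI : RingHomInvPair (ProjLoc.fnInv (X := X) hep W) (ProjLoc.fnHom (X := X) hep W) := (ring_pair W.topIso).2
  exact Module.Projective.of_equiv (σ := ProjLoc.fnHom (X := X) hep W) (σ' := ProjLoc.fnInv (X := X) hep W)
    ({ AddEquiv.refl (H'.val.obj (op W)) with map_smul' := fun _ _ => rfl } :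
      H'.val.obj (op W) ≃ₛₗ[ProjLoc.fnHom (X := X) hep W] H'.val.obj (op W))

end Groth.Agent.Lib.EtMod.ProjPull
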