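import Groth.Agent.Lib.EtMod.Exact
import Groth.Agent.Lib.EtMod.RetractFree
import Mathlib.CategoryTheory.Adjunction.Additive
import Mathlib.LinearAlgebra.TensorProduct.Basic

/-!
# Sections of inverse images over affine objects are base changes
-/

universe u

set_option backward.isDefEq.respectTransparency false
set_option linter.style.haveILetI false

open CategoryTheory CategoryTheory.Limits AlgebraicGeometry Opposite AlgSp
open TensorProduct
open Groth.Agent.H8.SlicePull

namespace Groth.Agent.Lib.EtMod.PullSec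

variable {S : Scheme.{u}} {X : Sp S} {X₀ : EtOver X}

/-- On sections over an affine object, a right exact sequence of slice modules with base change on the first two
terms is right exact. -/
theorem exact_sMap {E : EtOver X} {f : E ⟶ X₀} {P Q R : SliceMod X₀} (φ : P ⟶ Q) (ψ : Q ⟶ R) (w : φ ≫ ψ = 0)
    (hEx : (ShortComplex.mk φ ψ w).Exact) [Epi ψ] [IsAffine E.obj.left.left]
    (hP : ∀ ⦃V : EtOver X⦄ [IsAffine V.obj.left.left] (g : V ⟶ E),
      Function.Surjective (tens (LinearMap.id : SSec P f →ₗ[fn E] SSec P f) g))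
    (hQ : ∀ ⦃V : EtOver X⦄ [IsAffine V.obj.left.left] (g : V ⟶ E),
      Function.Bijective (tens (LinearMap.id : SSec Q f →ₗ[fn E] SSec Q f) g)) :
    Function.Surjective (sMap ψ f) ∧ ∀ m, sMap ψ f m = 0 → ∃ p, sMap φ f p = m := by
  haveI : Epi (kernel.lift ψ φ w) := (ShortComplex.mk φ ψ w).exact_iff_epi_kernel_lift.1 hEx
  let I := LinearMap.range (sMap φ f)
  have hzero : ∀ x, sMap ψ f (sMap φ f x) = 0 := fun x => sMap_comp_zero φ ψ w f x
  let θ : (SSec Q f ⧸ I) →ₗ[fn E] SSec R f := I.liftQ (sMap ψ f) (by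
    rintro _ ⟨x, rfl⟩
    exact hzero x)
  have hθq : θ.comp I.mkQ = sMap ψ f := I.liftQ_mkQ _ _
  have hsurj : ∀ ⦃V : EtOver X⦄ (g : V ⟶ E) (m : Sec R f g), ∃ T ∈ etTop X V,
      ∀ ⦃W : EtOver X⦄ (k : W ⟶ V), T k → ∃ q, secS ψ f (k ≫ g) q = secHom R f k rfl m := fun V g m => by
    obtain ⟨T, hT, h⟩ := SubSheaf.exists_local_preimage ψ (X := Over.mk (g ≫ f)) m
    refine ⟨_, (GrothendieckTopology.mem_over_iff _ _).1 hT, fun W k hk => ?_⟩
    exact h (Over.homMk k (eq_assoc f k rfl) : Over.mk ((k ≫ g) ≫ f) ⟶ Over.mk (g ≫ f))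
      ((Sieve.overEquiv_iff T k).1 hk |> fun hh => by
        have e : (Over.homMk k (eq_assoc f k rfl) : Over.mk ((k ≫ g) ≫ f) ⟶ Over.mk (g ≫ f)) =
          eqToHom (by rw [Category.assoc]) ≫ Over.homMk k := Over.OverMorphism.ext (by simp)
        rw [e]
        exact T.downward_closed hh _)
  have hex : ∀ ⦃V : EtOver X⦄ (g : V ⟶ E) (m : Sec Q f g), secS ψ f g m = 0 → ∃ T ∈ etTop X V,
      ∀ ⦃W : EtOver X⦄ (k : W ⟶ V), T k → ∃ p, secS φ f (k ≫ g) p = secHom Q f k rfl m := fun V g m hm => by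
    obtain ⟨x, hx⟩ := SubSheaf.exists_kernel_lift ψ (X := Over.mk (g ≫ f)) m hm
    obtain ⟨T, hT, h⟩ := SubSheaf.exists_local_preimage (kernel.lift ψ φ w) x
    refine ⟨_, (GrothendieckTopology.mem_over_iff _ _).1 hT, fun W k hk => ?_⟩
    obtain ⟨p, hp⟩ := h (Over.homMk k (eq_assoc f k rfl) : Over.mk ((k ≫ g) ≫ f) ⟶ Over.mk (g ≫ f))
      ((Sieve.overEquiv_iff T k).1 hk |> fun hh => by
        have e : (Over.homMk k (eq_assoc f k rfl) : Over.mk ((k ≫ g) ≫ f) ⟶ Over.mk (g ≫ f)) =
          eqToHom (by rw [Category.assoc]) ≫ Over.homMk k := Over.OverMorphism.ext (by simp)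
        rw [e]
        exact T.downward_closed hh _)
    refine ⟨p, ?_⟩
    refine (congrArg (fun χ : P ⟶ Q => sMap χ ((k ≫ g) ≫ f) p) (kernel.lift_ι ψ φ w)).symm.trans ?_
    refine (congrArg (sMap (kernel.ι ψ) _) hp).trans ?_
    exact (sMap_sres (kernel.ι ψ) k (eq_assoc f k rfl) _).trans (congrArg (sres Q k _) hx)
  have hθ : ∀ ⦃V : EtOver X⦄ [IsAffine V.obj.left.left] (g : V ⟶ E), Function.Bijective (tens θ g) := by
    refine bijective_tens θ (fun V _ g z hz => ?_) (fun V _ g m => ?_)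
    · obtain ⟨z', rfl⟩ := LinearMap.lTensor_surjective (Fn g) I.mkQ_surjective z
      have hz' : secS ψ f g (tens LinearMap.id g z') = 0 := by
        rw [← tens_sMap, LinearMap.comp_id, ← hθq, ← tens_lTensor]
        exact hz
      obtain ⟨T, hT, h⟩ := hex g _ hz'
      refine ⟨T, hT, fun W _ k hk => ?_⟩
      obtain ⟨p, hp⟩ := h k hk
      obtain ⟨y, rfl⟩ := hP (k ≫ g) p
      exact lTensor_mkQ_eq_zero φ g k z' y (hQ (k ≫ g)).1 hp
    · obtain ⟨T, hT, h⟩ := hsurj g m
      refine ⟨T, hT, fun W _ k hk => ?_⟩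
      obtain ⟨q, hq⟩ := h k hk
      obtain ⟨y, rfl⟩ := (hQ (k ≫ g)).2 q
      exact ⟨I.mkQ.lTensor _ y, by rw [tens_lTensor, hθq, ← hq, ← tens_sMap, LinearMap.comp_id]⟩
  refine ⟨fun m => ?_, fun m hm => ?_⟩
  · obtain ⟨a, rfl⟩ := (bijective_tens_id_of_bijective θ hθ).2 m
    obtain ⟨q, rfl⟩ := I.mkQ_surjective a
    exact ⟨q, (LinearMap.congr_fun hθq q).symm⟩
  · have h0 : (1 : Fn (𝟙 E)) ⊗ₜ[fn E] I.mkQ m = 0 := (injective_iff_map_eq_zero _).1 (hθ (𝟙 E)).1 _ (by
      rw [tens_tmul, one_smul]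
      refine (congrArg (resL R f (𝟙 E)) ((LinearMap.congr_fun hθq m).trans hm)).trans ?_
      exact map_zero _)
    let r : Fn (𝟙 E) →ₗ[fn E] fn E :=
      { toFun := fun b => (show fn E from b)
        map_add' := fun _ _ => rfl
        map_smul' := fun a b => by
          change fnMap (𝟙 E) a * (show fn E from b) = a * (show fn E from b)
          rw [fnMap_id_apply] }
    have h1 := congrArg (TensorProduct.lid (fn E) (SSec Q f ⧸ I) ∘ r.rTensor _) h0
    exact (Submodule.Quotient.mk_eq_zero I).1 (show I.mkQ m = 0 by simpa [r] using h1)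

variable {Y : Sp S} {f : X ⟶ Y} (hf : Representable f)

/-- The slice object of a morphism into a base change. -/
noncomputable abbrev bcId (E : EtOver Y) : (EtOver.bc hf).obj E ⟶ (EtOver.bc hf).obj E :=
  (EtOver.bc hf).map (𝟙 E)

theorem comp_bcId {E : EtOver Y} {V : EtOver X} (k : V ⟶ (EtOver.bc hf).obj E) : k ≫ bcId hf E = k := by
  rw [bcId, CategoryTheory.Functor.map_id, Category.comp_id]

/-- Functions along a morphism into a base change. -/
noncomputable abbrev φk {E : EtOver Y} {V : EtOver X} (k : V ⟶ (EtOver.bc hf).obj E) : fn E →+* fn V :=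
  (fnMap k).comp (hf.snd E.obj.hom).left.appTop.hom

/-- The comparison on sections. -/
noncomputable def ηSec {E : EtOver Y} {V : EtOver X} (k : V ⟶ (EtOver.bc hf).obj E)
    (P : SliceMod E) : SSec P (𝟙 E) →+ SSec ((slicePull hf E).obj P) k where
  toFun m := sres ((slicePull hf E).obj P) k (comp_bcId hf k)
    (show SSec ((slicePull hf E).obj P) (bcId hf E) from
      ((slicePullAdj hf E).unit.app P).val.app (op (Over.mk (𝟙 E))) m)
  map_zero' := by
    rw [map_zero]
    exact map_zero (sres ((slicePull hf E).obj P) k (comp_bcId hf k))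
  map_add' a b := by
    rw [map_add]
    exact map_add (sres ((slicePull hf E).obj P) k (comp_bcId hf k)) _ _

theorem ηSec_smul {E : EtOver Y} {V : EtOver X} (k : V ⟶ (EtOver.bc hf).obj E) (P : SliceMod E)
    (a : fn E) (m : SSec P (𝟙 E)) : ηSec hf k P (a • m) = φk hf k a • ηSec hf k P m := by
  have h := map_smul (((slicePullAdj hf E).unit.app P).val.app (op (Over.mk (𝟙 E)))).hom (upΓ E a) m
  refine (congrArg (sres ((slicePull hf E).obj P) k (comp_bcId hf k)) h).trans ?_
  exact sres_smul _ k (comp_bcId hf k) _ _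

theorem ηSec_natural {E : EtOver Y} {V : EtOver X} (k : V ⟶ (EtOver.bc hf).obj E) {P Q : SliceMod E}
    (α : P ⟶ Q) (m : SSec P (𝟙 E)) :
    ηSec hf k Q (sMap α (𝟙 E) m) = sMap ((slicePull hf E).map α) k (ηSec hf k P m) := by
  refine Eq.trans ?_ (sMap_sres ((slicePull hf E).map α) k (comp_bcId hf k) _).symm
  exact congrArg (sres ((slicePull hf E).obj Q) k (comp_bcId hf k))
    (congrArg (fun χ : P ⟶ (SheafOfModules.pushforward.{u + 1} (sliceRingHom hf E)).obj ((slicePull hf E).obj Q) =>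
      χ.val.app (op (Over.mk (𝟙 E))) m) ((slicePullAdj hf E).unit.naturality α))

/-- Inverse images of free modules. -/
noncomputable def freeIso (E : EtOver Y) (ι : Type (u + 1)) :
    (slicePull hf E).obj (sfree ι) ≅ sfree (X₀ := (EtOver.bc hf).obj E) ι :=
  haveI := isRightAdjoint_slice hf E
  SheafOfModules.pullbackObjFreeIso (sliceRingHom hf E) ι

theorem ιFree_homEquiv_freeIso (E : EtOver Y) {ι : Type (u + 1)} (i : ι) :
    SheafOfModules.ιFree i ≫ (slicePullAdj hf E).homEquiv _ _ (freeIso hf E ι).hom =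
      SheafOfModules.unitToPushforwardObjUnit (sliceRingHom hf E) ≫
        (SheafOfModules.pushforward.{u + 1} (sliceRingHom hf E)).map (SheafOfModules.ιFree i) := by
  haveI := isRightAdjoint_slice hf E
  rw [← Adjunction.homEquiv_naturality_left]
  change (slicePullAdj hf E).homEquiv _ _ ((SheafOfModules.pullback (sliceRingHom hf E)).map _ ≫
    (SheafOfModules.pullbackObjFreeIso (sliceRingHom hf E) ι).hom) = _
  rw [SheafOfModules.pullback_map_ιFree_comp_pullbackObjFreeIso_hom, Adjunction.homEquiv_naturality_right]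
  exact congrArg (· ≫ _) (SheafOfModules.pullbackPushforwardAdjunction_homEquiv_pullbackObjUnitToUnit _)

theorem freeIso_ηSec {E : EtOver Y} [IsAffine E.obj.left.left] {V : EtOver X} [IsAffine V.obj.left.left]
    (k : V ⟶ (EtOver.bc hf).obj E) {ι : Type (u + 1)} (n : ι →₀ fn E) :
    sMap (freeIso hf E ι).hom k (ηSec hf k (sfree ι) (combBase (𝟙 E) ι n)) =
      combBase k ι (n.mapRange (φk hf k) (map_zero _)) := by
  induction n using Finsupp.induction_linear with
  | zero => simp
  | add a b ha hb => rw [map_add, map_add, map_add, ha, hb, ← map_add, Finsupp.mapRange_add (map_add _)]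
  | single i a =>
    have e1 : (Finsupp.single i a : ι →₀ fn E) = a • Finsupp.single i 1 := by
      rw [Finsupp.smul_single, smul_eq_mul, mul_one]
    rw [Finsupp.mapRange_single,
      show (Finsupp.single i (φk hf k a) : ι →₀ fn V) = φk hf k a • Finsupp.single i 1 by
        rw [Finsupp.smul_single, smul_eq_mul, mul_one],
      e1, map_smul (combBase (𝟙 E) ι)]
    refine (congrArg (sMap (freeIso hf E ι).hom k)
      (ηSec_smul hf k (sfree ι) a (combBase (𝟙 E) ι (Finsupp.single i 1)))).trans ?_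
    refine (map_smul (sMap (freeIso hf E ι).hom k) _ _).trans
      (Eq.trans ?_ (map_smul (combBase k ι) _ _).symm)
    refine congrArg (φk hf k a • ·) ?_
    rw [combBase_single, combBase_single]
    have h := ιFree_homEquiv_freeIso hf E i
    rw [Adjunction.homEquiv_unit] at h
    refine (sMap_sres (freeIso hf E ι).hom k (comp_bcId hf k) _).trans ?_
    have h' := congrArg (fun χ => χ.val.app (op (Over.mk (𝟙 E))) (1 : ((OEtRing Y).over E).obj.obj (op (Over.mk (𝟙 E))))) h
    refine (congrArg (sres (sfree (X₀ := (EtOver.bc hf).obj E) ι) k (comp_bcId hf k)) h').trans ?_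
    have h1 : (SheafOfModules.unitToPushforwardObjUnit (sliceRingHom hf E)).val.app (op (Over.mk (𝟙 E)))
        (1 : ((OEtRing Y).over E).obj.obj (op (Over.mk (𝟙 E)))) = (1 : ((OEtRing X).over ((EtOver.bc hf).obj E)).obj.obj
          (op (Over.mk (bcId hf E)))) := map_one ((sliceRingHom hf E).hom.app (op (Over.mk (𝟙 E)))).hom
    refine (congrArg (fun z => sres (sfree (X₀ := (EtOver.bc hf).obj E) ι) k (comp_bcId hf k)
      ((SheafOfModules.ιFree (R := (OEtRing X).over ((EtOver.bc hf).obj E)) i).val.app (op (Over.mk (bcId hf E))) z)) h1).trans ?_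
    exact sres_eval (SheafOfModules.freeSection i) k (comp_bcId hf k)

theorem bijective_tens_sfree {E V : EtOver X} [IsAffine E.obj.left.left] [IsAffine V.obj.left.left]
    (k : E ⟶ X₀) (ι : Type (u + 1)) (g : V ⟶ E) :
    Function.Bijective (tens (LinearMap.id : SSec (sfree (X₀ := X₀) ι) k →ₗ[fn E] SSec (sfree (X₀ := X₀) ι) k) g) :=
  (bijective_tens_id_of_bijective (combBase k ι) fun _ _ g' => bijective_tens_combBase g').1 g

/-- Inverse images of a presentation over the base. -/
theorem exists_pulled_presentation {E : EtOver Y} {P : SliceMod E} {ι κ : Type (u + 1)}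
    (ρ : sfree (X₀ := E) κ ⟶ sfree ι) (π : sfree ι ⟶ P) (w : ρ ≫ π = 0)
    (hc : IsColimit (CokernelCofork.ofπ π w)) :
    ∃ (ρ' : sfree (X₀ := (EtOver.bc hf).obj E) κ ⟶ sfree ι) (π' : sfree ι ⟶ (slicePull hf E).obj P)
      (w' : ρ' ≫ π' = 0), (ShortComplex.mk ρ' π' w').Exact ∧ Epi π' ∧
        (freeIso hf E κ).hom ≫ ρ' = (slicePull hf E).map ρ ≫ (freeIso hf E ι).hom ∧
        (freeIso hf E ι).hom ≫ π' = (slicePull hf E).map π := by
  haveI : (slicePull hf E).IsLeftAdjoint := (slicePullAdj hf E).isLeftAdjoint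
  haveI : (slicePull hf E).PreservesZeroMorphisms := Functor.preservesZeroMorphisms_of_isLeftAdjoint _
  haveI : Epi π := epi_of_isColimit_cofork hc
  have w0 : (slicePull hf E).map ρ ≫ (slicePull hf E).map π = 0 := by
    rw [← Functor.map_comp, w, Functor.map_zero]
  have w' : ((freeIso hf E κ).inv ≫ (slicePull hf E).map ρ ≫ (freeIso hf E ι).hom) ≫
      (freeIso hf E ι).inv ≫ (slicePull hf E).map π = 0 := by
    rw [Category.assoc, Category.assoc, Iso.hom_inv_id_assoc, w0, comp_zero]
  have hc' := CokernelCofork.mapIsColimit _ hc (slicePull hf E)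
  haveI : Epi ((slicePull hf E).map π) := Functor.map_epi _ _
  refine ⟨_, _, w', ?_, epi_comp _ _, Iso.hom_inv_id_assoc _ _, Iso.hom_inv_id_assoc _ _⟩
  refine (ShortComplex.exact_iff_of_iso (?_ : ShortComplex.mk _ _ w0 ≅ ShortComplex.mk _ _ w')).1
    (ShortComplex.exact_of_g_is_cokernel _ hc')
  exact ShortComplex.isoMk (freeIso hf E κ) (freeIso hf E ι) (Iso.refl _) (by simp) (by simp)

/-- Combinations over the base change. -/
theorem combBase_mapRange {E : EtOver Y} [IsAffine E.obj.left.left] {V : EtOver X} [IsAffine V.obj.left.left]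
    (k : V ⟶ (EtOver.bc hf).obj E) {P : SliceMod E} {ι : Type (u + 1)} (π : sfree (X₀ := E) ι ⟶ P)
    (π' : sfree (X₀ := (EtOver.bc hf).obj E) ι ⟶ (slicePull hf E).obj P)
    (e : (freeIso hf E ι).hom ≫ π' = (slicePull hf E).map π) (n : ι →₀ fn E) :
    sMap π' k (combBase k ι (n.mapRange (φk hf k) (map_zero _))) =
      ηSec hf k P (sMap π (𝟙 E) (combBase (𝟙 E) ι n)) := by
  rw [← freeIso_ηSec hf k n, ηSec_natural, ← e]
  exact (RetractFree.sMap_comp _ _ _ _).symm

/-- A base change criterion. -/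
theorem Alg.isBaseChange_of_generators {A B : Type u} [CommRing A] [CommRing B] [Algebra A B]
    {N M ι : Type (u + 1)} [AddCommGroup N] [Module A N] [AddCommGroup M] [Module A M] [Module B M]
    [IsScalarTower A B M] (η : N →ₗ[A] M) (lc : (ι →₀ A) →ₗ[A] N)
    (π : (ι →₀ B) →ₗ[B] M) (hπ : Function.Surjective π) (hlc : Function.Surjective lc)
    (hcomm : ∀ i, π (Finsupp.single i 1) = η (lc (Finsupp.single i 1)))
    (hker : ∀ c, π c = 0 → c ∈ Submodule.span B
      {x : ι →₀ B | ∃ n, lc n = 0 ∧ x = n.mapRange (algebraMap A B) (map_zero _)}) :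
    IsBaseChange B η := by
  classical
  let t : B ⊗[A] N →ₗ[B] M := (LinearMap.liftBaseChangeEquiv B) η
  let h : (ι →₀ B) →ₗ[B] B ⊗[A] N :=
    Finsupp.linearCombination B fun i => (1 : B) ⊗ₜ[A] lc (Finsupp.single i 1)
  have hh : ∀ n : ι →₀ A, h (n.mapRange (algebraMap A B) (map_zero _)) = (1 : B) ⊗ₜ[A] lc n := fun n => by
    induction n using Finsupp.induction_linear with
    | zero => simp
    | add a b ha hb => rw [Finsupp.mapRange_add (map_add _), map_add, ha, hb, map_add, tmul_add]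
    | single i a =>
      rw [Finsupp.mapRange_single, Finsupp.linearCombination_single, algebraMap_smul, ← tmul_smul, ← map_smul,
        Finsupp.smul_single, smul_eq_mul, mul_one]
  have ht : t ∘ₗ h = π := Finsupp.lhom_ext fun i b => by
    rw [LinearMap.comp_apply, Finsupp.linearCombination_single, map_smul,
      show Finsupp.single i b = b • Finsupp.single i (1 : B) by rw [Finsupp.smul_single, smul_eq_mul, mul_one],
      map_smul, hcomm]
    simp [t]
  have hsurj : Function.Surjective h := fun z => by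
    induction z using TensorProduct.induction_on with
    | zero => exact ⟨0, map_zero _⟩
    | tmul b n =>
      obtain ⟨m, rfl⟩ := hlc n
      exact ⟨b • m.mapRange (algebraMap A B) (map_zero _), by rw [map_smul, hh, smul_tmul', smul_eq_mul, mul_one]⟩
    | add x y hx hy =>
      obtain ⟨a, rfl⟩ := hx
      obtain ⟨b, rfl⟩ := hy
      exact ⟨a + b, map_add _ _ _⟩
  have hinj : Function.Injective t := by
    rw [injective_iff_map_eq_zero]
    intro z hz
    obtain ⟨c, rfl⟩ := hsurj z
    refine Submodule.span_le (p := LinearMap.ker h).2 ?_ (hker c (by rw [← ht]; exact hz))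
    rintro _ ⟨n, hn, rfl⟩
    exact (hh n).trans (by rw [hn, tmul_zero])
  exact IsBaseChange.of_equiv (LinearEquiv.ofBijective t ⟨hinj, fun m => by
    obtain ⟨c, rfl⟩ := hπ m
    exact ⟨h c, LinearMap.congr_fun ht c⟩⟩) fun n => by simp [t]

/-- An epimorphism is the cokernel of anything covering its kernel. -/
theorem nonempty_isColimit {E : EtOver Y} {A B C : SliceMod E} (π : B ⟶ C) [Epi π]
    (γ : A ⟶ kernel π) [Epi γ] (w : (γ ≫ kernel.ι π) ≫ π = 0) :
    Nonempty (IsColimit (CokernelCofork.ofπ π w)) := by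
  have hl : kernel.lift π (γ ≫ kernel.ι π) w = γ := (cancel_mono (kernel.ι π)).1 (kernel.lift_ι _ _ _)
  have he : Epi (kernel.lift π (γ ≫ kernel.ι π) w) := hl.symm ▸ inferInstance
  exact ⟨((ShortComplex.mk _ π w).exact_iff_epi_kernel_lift.2 he).gIsCokernel⟩

theorem mem_span_of_image {E : EtOver Y} [IsAffine E.obj.left.left] {V : EtOver X} [IsAffine V.obj.left.left]
    (k : V ⟶ (EtOver.bc hf).obj E) {P : SliceMod E} {ι κ : Type (u + 1)}
    (ρ : sfree (X₀ := E) κ ⟶ sfree ι) (π : sfree ι ⟶ P) (w : ρ ≫ π = 0)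
    (ρ' : sfree (X₀ := (EtOver.bc hf).obj E) κ ⟶ sfree ι)
    (eρ : (freeIso hf E κ).hom ≫ ρ' = (slicePull hf E).map ρ ≫ (freeIso hf E ι).hom)
    (lc : (ι →₀ fn E) →ₗ[fn E] SSec P (𝟙 E)) (hπ : ∀ n, sMap π (𝟙 E) (combBase (𝟙 E) ι n) = lc n)
    (d : κ →₀ fn V) :
    ∃ x ∈ Submodule.span (fn V) {x : ι →₀ fn V | ∃ n, lc n = 0 ∧ x = n.mapRange (φk hf k) (map_zero _)},
      sMap ρ' k (combBase k κ d) = combBase k ι x := by
  induction d using Finsupp.induction_linear with
  | zero => exact ⟨0, zero_mem _, by simp⟩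
  | add a b ha hb' =>
    obtain ⟨x, hx, ex⟩ := ha
    obtain ⟨y, hy, ey⟩ := hb'
    exact ⟨x + y, add_mem hx hy, by rw [map_add, map_add, map_add, ex, ey]⟩
  | single j b =>
    obtain ⟨n, hn⟩ := (RetractFree.bijective_combBase (𝟙 E) ι).2
      (sMap ρ (𝟙 E) (combBase (𝟙 E) κ (Finsupp.single j 1)))
    have h0 : lc n = 0 :=
      (hπ n).symm.trans ((congrArg (sMap π (𝟙 E)) hn).trans (sMap_comp_zero ρ π w _ _))
    refine ⟨b • n.mapRange (φk hf k) (map_zero _),
      Submodule.smul_mem _ b (Submodule.subset_span ⟨n, h0, rfl⟩), ?_⟩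
    rw [show Finsupp.single j b = b • Finsupp.single j (1 : fn V) by
      rw [Finsupp.smul_single, smul_eq_mul, mul_one], map_smul, map_smul, map_smul]
    refine congrArg (b • ·) ?_
    have h1 : (Finsupp.single j (1 : fn V)) = (Finsupp.single j (1 : fn E)).mapRange (φk hf k) (map_zero _) := by
      rw [Finsupp.mapRange_single, map_one]
    rw [h1, ← freeIso_ηSec hf k, ← freeIso_ηSec hf k n]
    refine (RetractFree.sMap_comp _ _ _ _).symm.trans ?_
    rw [eρ]
    refine (RetractFree.sMap_comp _ _ _ _).trans (congrArg _ ?_)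
    exact (ηSec_natural hf k _ _).symm.trans (congrArg _ hn.symm)

/-- Sections of the slice inverse image of a presented module form a base change. -/
theorem isBaseChange_of_presentation {E : EtOver Y} [IsAffine E.obj.left.left] {V : EtOver X}
    [IsAffine V.obj.left.left] (k : V ⟶ (EtOver.bc hf).obj E) {P : SliceMod E} {ι κ : Type (u + 1)}
    (ρ : sfree (X₀ := E) κ ⟶ sfree ι) (π : sfree ι ⟶ P) (w : ρ ≫ π = 0)
    (hc : IsColimit (CokernelCofork.ofπ π w))
    (lc : (ι →₀ fn E) →ₗ[fn E] SSec P (𝟙 E)) (hπ : ∀ n, sMap π (𝟙 E) (combBase (𝟙 E) ι n) = lc n)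
    (hlc : Function.Surjective lc) [Algebra (fn E) (fn V)] (halg : algebraMap (fn E) (fn V) = φk hf k)
    [Module (fn E) (SSec ((slicePull hf E).obj P) k)]
    [IsScalarTower (fn E) (fn V) (SSec ((slicePull hf E).obj P) k)]
    (η : SSec P (𝟙 E) →ₗ[fn E] SSec ((slicePull hf E).obj P) k) (hη : ∀ m, η m = ηSec hf k P m) :
    IsBaseChange (fn V) η := by
  obtain ⟨ρ', π', w', hEx, _, eρ, eπ⟩ := exists_pulled_presentation hf ρ π w hc
  obtain ⟨hsurj, hker⟩ := exact_sMap (f := k) ρ' π' w' hEx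
    (fun _ _ g => (bijective_tens_sfree k _ g).2) (fun _ _ g => bijective_tens_sfree k _ g)
  refine Alg.isBaseChange_of_generators η lc ((sMap π' k).comp (combBase k ι))
    (hsurj.comp (RetractFree.bijective_combBase k ι).2) hlc (fun i => ?_) (fun c hc' => ?_)
  · have h := combBase_mapRange hf k π π' eπ (Finsupp.single i 1)
    rw [Finsupp.mapRange_single, map_one, hπ] at h
    exact h.trans (hη _).symm
  · obtain ⟨p, hp⟩ := hker (combBase k ι c) hc'
    obtain ⟨d, rfl⟩ := (RetractFree.bijective_combBase k κ).2 p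
    obtain ⟨x, hx, ex⟩ := mem_span_of_image hf k ρ π w ρ' eρ lc hπ d
    simp only [halg]
    exact (RetractFree.injective_combBase k ι (ex.symm.trans hp)) ▸ hx

set_option maxHeartbeats 1000000 in
/-- Sections of the slice inverse image form a base change. -/
theorem isBaseChange_slicePull {E : EtOver Y} [IsAffine E.obj.left.left] {V : EtOver X} [IsAffine V.obj.left.left]
    (k : V ⟶ (EtOver.bc hf).obj E) (P : SliceMod E)
    (hb : ∀ ⦃W : EtOver Y⦄ [IsAffine W.obj.left.left] (g : W ⟶ E),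
      Function.Bijective (tens (LinearMap.id : SSec P (𝟙 E) →ₗ[fn E] SSec P (𝟙 E)) g)) :
    letI := (φk hf k).toAlgebra
    letI := Module.compHom (SSec ((slicePull hf E).obj P) k) (φk hf k)
    haveI : IsScalarTower (fn E) (fn V) (SSec ((slicePull hf E).obj P) k) :=
      IsScalarTower.of_algebraMap_smul fun _ _ => rfl
    IsBaseChange (fn V) ({ toFun := ηSec hf k P, map_add' := map_add _, map_smul' := ηSec_smul hf k P } :
      SSec P (𝟙 E) →ₗ[fn E] SSec ((slicePull hf E).obj P) k) := by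
  letI := (φk hf k).toAlgebra
  letI := Module.compHom (SSec ((slicePull hf E).obj P) k) (φk hf k)
  haveI : IsScalarTower (fn E) (fn V) (SSec ((slicePull hf E).obj P) k) :=
    IsScalarTower.of_algebraMap_smul fun _ _ => rfl
  haveI : Epi (genMap P) := epi_genMap fun _ _ g => (hb g).2
  haveI : Epi (genMap (kernel (genMap P))) := epi_genMap fun _ _ g =>
    surjective_tens_kernel (genMap P) (combBase (𝟙 E) _) g (bijective_tens_combBase g).2 (hb g).1
  have w : (genMap (kernel (genMap P)) ≫ kernel.ι (genMap P)) ≫ genMap P = 0 := by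
    rw [Category.assoc, kernel.condition, comp_zero]
  have hc := (nonempty_isColimit _ _ w).some
  exact isBaseChange_of_presentation (ι := SSec P (𝟙 E)) (κ := SSec (kernel (genMap P)) (𝟙 E)) hf k
    (genMap (kernel (genMap P)) ≫ kernel.ι (genMap P)) (genMap P) w hc (Finsupp.linearCombination (fn E) id)
    (sMap_genMap_combBase P) (fun m => ⟨Finsupp.single m 1, by simp⟩) rfl _ fun _ => rfl

end Groth.Agent.Lib.EtMod.PullSec
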