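import Groth.Agent.Lib.EtMod.WeakAssAlg
import Groth.Agent.Lib.EtMod.PushWeakAss
import Mathlib.RingTheory.Ideal.GoingUp
import Mathlib.RingTheory.LocalRing.Module

/-!
# Weakly associated primes along finite flat base change
-/

universe u w

set_option linter.style.haveILetI false

open TensorProduct IsLocalRing

namespace Groth.Agent.Lib.EtMod.WeakAssAlg

variable {A B : Type u} [CommRing A] [CommRing B] [Algebra A B] [Module.Flat A B]
  {N : Type w} [AddCommGroup N] [Module A N] {M : Type w} [AddCommGroup M] [Module A M] [Module B M]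
  [IsScalarTower A B M]

/-- Annihilators commute with flat base change. -/
theorem ann_baseChange {f : N →ₗ[A] M} (hf : IsBaseChange B f) (n : N) :
    Ann (A := B) (f n) = (Ann (A := A) n).map (algebraMap A B) := by
  refine le_antisymm (fun b hb => ?_) (Ideal.map_le_iff_le_comap.2 fun a ha => ?_)
  swap
  · rw [Ideal.mem_comap, mem_Ann, algebraMap_smul, ← map_smul, mem_Ann.1 ha, map_zero]
  let I := Ann (A := A) n
  let j : (A ⧸ I) →ₗ[A] N := I.liftQ (LinearMap.toSpanSingleton A N n) le_rfl
  have hj : Function.Injective j := LinearMap.ker_eq_bot.1 (Submodule.ker_liftQ_eq_bot _ _ _ le_rfl)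
  have h0 : b ⊗ₜ[A] n = 0 := hf.equiv.injective (by rw [IsBaseChange.equiv_tmul, map_zero]; exact hb)
  have h1 : b ⊗ₜ[A] (Submodule.Quotient.mk (1 : A) : A ⧸ I) = 0 :=
    Module.Flat.lTensor_preserves_injective_linearMap (M := B) j hj (by
      rw [LinearMap.lTensor_tmul, map_zero]
      change b ⊗ₜ[A] ((1 : A) • n) = 0
      rw [one_smul]
      exact h0)
  have h2 := congrArg (TensorProduct.tensorQuotEquivQuotSMul B I) h1
  replace h2 : TensorProduct.tensorQuotEquivQuotSMul B I (b ⊗ₜ[A] Ideal.Quotient.mk I 1) = 0 := h2.trans (map_zero _)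
  rw [TensorProduct.tensorQuotEquivQuotSMul_tmul_mk, one_smul, Submodule.Quotient.mk_eq_zero,
    Ideal.smul_top_eq_map] at h2
  exact h2

variable [Module.Finite A B]

/-- Weakly associated primes correspond along finite flat base change. -/
theorem isWA_iff_of_finite_flat {f : N →ₗ[A] M} (hf : IsBaseChange B f) (q : Ideal B) [q.IsPrime] :
    IsWA M q ↔ IsWA N (q.comap (algebraMap A B)) := by
  let p := q.comap (algebraMap A B)
  haveI hp : p.IsPrime := inferInstanceAs (q.comap _).IsPrime
  constructor
  · rintro ⟨y, hy⟩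
    obtain ⟨b, hb⟩ := exists_colon_minimalPrimes (algebraMap A B)
      (RingHom.finite_algebraMap.2 inferInstance) _ hy
    have h1 : IsWA (A := A) M p := by
      refine ⟨b • y, ?_⟩
      have := hb (Ann (b • y)) fun x => by rw [mem_Ann, mem_Ann, mul_smul]
      have e : (Ann (A := B) (b • y)).comap (algebraMap A B) = Ann (A := A) (b • y) :=
        Ideal.ext fun a => by rw [Ideal.mem_comap, mem_Ann, mem_Ann, algebraMap_smul]
      rwa [e] at this
    let Ap := Localization.AtPrime p
    haveI := isLocalizedModule_mk (N := N) p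
    haveI := isLocalizedModule_mk (N := M) p
    rw [isWA_iff p (TensorProduct.mk A Ap M 1)] at h1
    rw [isWA_iff p (TensorProduct.mk A Ap N 1)]
    obtain ⟨z, hz, hk⟩ := h1
    haveI : Module.Free Ap (Ap ⊗[A] B) := Module.free_of_flat_of_isLocalRing
    let e : Ap ⊗[A] M ≃ₗ[Ap] _ :=
      (TensorProduct.AlgebraTensorModule.congr (LinearEquiv.refl Ap Ap) (hf.equiv.restrictScalars A).symm).trans
        ((TensorProduct.AlgebraTensorModule.distribBaseChange A Ap B N).trans
          (TensorProduct.equivFinsuppOfBasisLeft (Module.Free.chooseBasis Ap (Ap ⊗[A] B))))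
    obtain ⟨i, hi⟩ : ∃ i, e z i ≠ 0 := by
      by_contra h
      push Not at h
      exact hz (e.map_eq_zero_iff.1 (Finsupp.ext h))
    exact ⟨e z i, hi, hk.map_linear (((Finsupp.lapply i).comp e.toLinearMap).restrictScalars A)⟩
  · rintro ⟨n, hn⟩
    refine ⟨f n, ⟨inferInstance, ?_⟩, fun r hr hrq => ?_⟩
    · rw [ann_baseChange hf, Ideal.map_le_iff_le_comap]
      exact hn.1.2
    · haveI : r.IsPrime := hr.1
      have hI : Ann (A := A) n ≤ r.comap (algebraMap A B) := by
        rw [← Ideal.map_le_iff_le_comap, ← ann_baseChange hf]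
        exact hr.2
      have hp' : p ≤ r.comap (algebraMap A B) :=
        hn.2 ⟨inferInstance, hI⟩ (Ideal.comap_mono hrq)
      by_contra hne
      have hlt := Ideal.IsIntegral.comap_lt_comap (A := B) (R := A) (lt_of_le_not_ge hrq hne)
      exact hlt.not_ge hp'

end Groth.Agent.Lib.EtMod.WeakAssAlg
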