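import Groth.Agent.Lib.EtMod.PullSec
import Groth.Agent.Lib.EtMod.WeakAssFiniteFlat
import Groth.Agent.Lib.SourceDescent.Scheme
import Groth.Agent.Lib.AlgSpMor.LocP

/-!
# Weakly associated points of inverse images along finite flat morphisms
-/

universe u

set_option backward.isDefEq.respectTransparency false
set_option linter.style.haveILetI false

open CategoryTheory CategoryTheory.Limits AlgebraicGeometry Opposite AlgSp
open Groth.Agent.H8.SlicePull Groth.Agent.Lib.EtMod.WeakAssAlg Groth.Agent.Lib.AlgSpMor.LocP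
open Groth.Agent.Lib

namespace Groth.Agent.Lib.EtMod.PullSec

variable {S : Scheme.{u}} {X Y : Sp S} {f : X ⟶ Y} (hf : Representable f)
  [(SheafOfModules.pushforward.{u + 1} (bcRingHom hf)).IsRightAdjoint]

/-- Sections of an inverse image over affine objects over a base change form a base change. -/
theorem exists_isBaseChange_pull {G : ModEt Y} (hG : IsCart G) (E : EtOver Y) [IsAffine E.obj.left.left]
    {V : EtOver X} [IsAffine V.obj.left.left] (k : V ⟶ (EtOver.bc hf).obj E) :
    letI := (φk hf k).toAlgebra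
    letI := Module.compHom (sectModEt ((pullModEt hf).obj G) V) (φk hf k)
    haveI : IsScalarTower (fn E) (fn V) (sectModEt ((pullModEt hf).obj G) V) :=
      IsScalarTower.of_algebraMap_smul fun _ _ => rfl
    ∃ l : sectModEt G E →ₗ[fn E] sectModEt ((pullModEt hf).obj G) V, IsBaseChange (fn V) l := by
  letI := (φk hf k).toAlgebra
  letI := Module.compHom (sectModEt ((pullModEt hf).obj G) V) (φk hf k)
  haveI : IsScalarTower (fn E) (fn V) (sectModEt ((pullModEt hf).obj G) V) :=
    IsScalarTower.of_algebraMap_smul fun _ _ => rfl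
  let P : SliceMod E := (SheafOfModules.overFunctor (OEtRing Y) E).obj G
  letI := Module.compHom (SSec ((slicePull hf E).obj P) k) (φk hf k)
  haveI : IsScalarTower (fn E) (fn V) (SSec ((slicePull hf E).obj P) k) :=
    IsScalarTower.of_algebraMap_smul fun _ _ => rfl
  have h := isBaseChange_slicePull hf k P fun _ _ g => bijective_tens_of_isCart hG g
  obtain ⟨e, -⟩ : ∃ e : SSec ((slicePull hf E).obj P) k ≃ₗ[fn V]
      sectModEt ((pullModEt hf).obj G) V, True := by
    obtain ⟨g, hg⟩ : ∃ g : (slicePull hf E).obj P ⟶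
        (SheafOfModules.overFunctor (OEtRing X) ((EtOver.bc hf).obj E)).obj ((pullModEt hf).obj G), IsIso g :=
      ⟨(overPullIso hf E).inv.app G, inferInstance⟩
    refine ⟨LinearEquiv.ofLinearMap (sMap g k) (sMap (inv g) k) ?_ ?_, trivial⟩
    · exact LinearMap.ext fun x => (RetractFree.sMap_comp (inv g) g k x).symm.trans
        (congrArg (fun χ => sMap χ k x) (IsIso.inv_hom_id g))
    · exact LinearMap.ext fun x => (RetractFree.sMap_comp g (inv g) k x).symm.trans
        (congrArg (fun χ => sMap χ k x) (IsIso.hom_inv_id g))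
  let l₀ : SSec P (𝟙 E) →ₗ[fn E] SSec ((slicePull hf E).obj P) k :=
    { toFun := ηSec hf k P, map_add' := map_add _, map_smul' := ηSec_smul hf k P }
  exact ⟨(e.toLinearMap.restrictScalars (fn E)).comp l₀,
    IsBaseChange.of_equiv (h.equiv.trans e) fun n => congrArg e ((h.equiv_tmul 1 n).trans (one_smul _ _))⟩

/-- Weakly associated points of an inverse image along a finite flat morphism. -/
theorem mem_weakAssEt_pull_iff (hY : IsAlgSpace Y) (hfin : IsFiniteMor f) (hflat : LocP @Flat f)
    {G : ModEt Y} (hG : IsCart G) (hG' : IsCart ((pullModEt hf).obj G)) (x : Points X) :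
    x ∈ WeakAssEt ((pullModEt hf).obj G) ↔ Points.map f x ∈ WeakAssEt G := by
  obtain ⟨E, hE, u, hu⟩ := exists_affine_point hY (Points.map f x)
  haveI := isAffine_bcE hf (isAffineMor_of_isFiniteMor hfin) E
  obtain ⟨w, hw, hwu⟩ := exists_point_bcE hf E u x hu.symm
  rw [← hw, mem_weakAssEt_iff hG', hw, ← hu, mem_weakAssEt_iff hG, isWeakAssOn_iff, isWeakAssOn_iff,
    ← hwu, ← primeAtPt_comap]
  have hk : φk hf (𝟙 (bcE hf E)) = πfn hf E :=
    RingHom.ext fun a => fnMap_id_apply _ _
  obtain ⟨l, hl⟩ := exists_isBaseChange_pull hf hG E (𝟙 (bcE hf E))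
  letI := (φk hf (𝟙 (bcE hf E))).toAlgebra
  letI := Module.compHom (sectModEt ((pullModEt hf).obj G) (bcE hf E)) (φk hf (𝟙 (bcE hf E)))
  haveI : IsScalarTower (fn E) (fn (bcE hf E)) (sectModEt ((pullModEt hf).obj G) (bcE hf E)) :=
    IsScalarTower.of_algebraMap_smul fun _ _ => rfl
  haveI : Module.Finite (fn E) (fn (bcE hf E)) := by
    change (φk hf (𝟙 (bcE hf E))).Finite
    rw [hk]
    exact finite_πfn hf hfin E
  haveI : Module.Flat (fn E) (fn (bcE hf E)) := by
    change (φk hf (𝟙 (bcE hf E))).Flat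
    rw [hk]
    have h1 : Flat (bcP hf E) := AlgSpace.repWith_property (repWith_of_locP SourceDescent.Scheme.flat hY hf hflat)
      (hf.isPullback E.obj.hom)
    exact (HasRingHomProperty.iff_of_isAffine (P := @Flat)).1 h1
  have h := isWA_iff_of_finite_flat hl (primeAtPt (bcE hf E).obj.left.left w)
  rw [RingHom.algebraMap_toAlgebra, hk] at h
  exact h

end Groth.Agent.Lib.EtMod.PullSec
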