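import Groth.Agent.Lib.EtMod.RSec
import Groth.Agent.Lib.EtMod.Present
import Groth.Agent.Lib.AlgSpMor.Sep
import Groth.Agent.Lib.AlgSpMor.Perm
import Groth.Agent.Lib.AlgSpMor.QC

/-!
# Direct images along quasi-compact quasi-separated representable morphisms
-/

universe u

set_option backward.isDefEq.respectTransparency false

open CategoryTheory CategoryTheory.Limits AlgebraicGeometry Opposite AlgSp

namespace Groth.Agent.Lib.EtMod

variable {S : Scheme.{u}} {X Y : Sp S} {f : X ⟶ Y} (hf : Representable f) {M : ModEt X}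

theorem quasiSeparated_bcP (hqs : IsQuasiSeparatedMor f) (E : EtOver Y) : QuasiSeparated (bcP hf E) :=
  (isQuasiSeparatedMor_yon_map_iff (hf.snd E.obj.hom)).1
    (Groth.Agent.Lib.AlgSpMor.Sep.repWith_diagonal_baseChange (EtOver.isPullback_bcObj hf E) hqs)

theorem compactSpace_bcE (hqc : IsQuasiCompactMor f) (E : EtOver Y) [IsAffine E.obj.left.left] :
    CompactSpace (bcE hf E).obj.left.left := by
  have h := hqc (IsAlgSpace.yon_obj E.obj.left) Groth.Agent.Lib.AlgSpMor.QC.isQuasiCompactSp_yon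
    E.obj.hom _ _ (EtOver.isPullback_bcObj hf E)
  have := (Groth.Agent.Lib.AlgSpMor.QC.isQuasiCompactSp_iff (IsAlgSpace.yon_obj (bcE hf E).obj.left)).1 h
  exact (Points.schemeHomeo (bcE hf E).obj.left).symm.compactSpace

/-- A quasi-compact object of the site has a finite covering by affine objects. -/
theorem exists_finite_affine_cover (D : EtOver X) [CompactSpace D.obj.left.left] :
    ∃ (ι : Type) (_ : Finite ι) (W : ι → EtOver X) (j : ∀ i, W i ⟶ D),
      (∀ i, IsAffine (W i).obj.left.left) ∧ ∀ x : D.obj.left.left, ∃ i, x ∈ Set.range (j i).hom.left.left := by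
  obtain ⟨ι, W, j, hW, hj⟩ := exists_affine_cover_obj D
  have hopen : ∀ i, IsOpen (Set.range (j i).hom.left.left) := fun i => by
    have := EtOver.etale_left (j i)
    exact (j i).hom.left.left.isOpenMap.isOpen_range
  obtain ⟨t, ht⟩ := isCompact_univ.elim_finite_subcover (fun i => Set.range (j i).hom.left.left) hopen
    fun x _ => Set.mem_iUnion.2 (hj x)
  let e := t.equivFin.symm
  refine ⟨Fin t.card, inferInstance, fun k => W (e k).1, fun k => j (e k).1, fun k => hW _, fun x => ?_⟩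
  obtain ⟨i, hi, hxi⟩ := Set.mem_iUnion₂.1 (ht (Set.mem_univ x))
  obtain ⟨k, hk⟩ := e.surjective ⟨i, hi⟩
  obtain rfl : i = (e k).1 := (congrArg Subtype.val hk).symm
  exact ⟨k, hxi⟩

variable {E V : EtOver Y}

/-- The functions downstairs acting on a piece of the base change. -/
noncomputable abbrev pieceMap {U : EtOver X} (j : U ⟶ bcE hf E) : fn E →+* fn U :=
  (fnMap j).comp (πfn hf E)

theorem pieceMap_res {U Z : EtOver X} {j : U ⟶ bcE hf E} {j' : Z ⟶ bcE hf E} (z : Z ⟶ U)
    (h : z ≫ j = j') (a : fn E) : fnMap z (pieceMap hf j a) = pieceMap hf j' a := by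
  rw [← h]
  exact (fnMap_comp_apply z j _).symm

theorem isPullback_piece (g : V ⟶ E) {U : EtOver X} (j : U ⟶ bcE hf E) :
    IsPullback (EtOver.pullbackSnd ((EtOver.bc hf).map g) j).hom.left.left
      ((EtOver.pullbackFst ((EtOver.bc hf).map g) j).hom.left.left ≫ bcP hf V)
      (j.hom.left.left ≫ bcP hf E) g.hom.left.left :=
  (isPullback_left ((EtOver.bc hf).map g) j).flip.paste_vert (isPullback_bc hf g)

theorem isAffine_piece (g : V ⟶ E) {U : EtOver X} (j : U ⟶ bcE hf E) [IsAffine E.obj.left.left]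
    [IsAffine V.obj.left.left] [IsAffine U.obj.left.left] :
    IsAffine (EtOver.pullbackObj ((EtOver.bc hf).map g) j).obj.left.left :=
  .of_isPullback (isPullback_piece hf g j)

theorem piece_comm (g : V ⟶ E) {U : EtOver X} (j : U ⟶ bcE hf E) (a : fn E) :
    fnMap (EtOver.pullbackSnd ((EtOver.bc hf).map g) j) (pieceMap hf j a) =
      pieceMap hf (EtOver.pullbackFst ((EtOver.bc hf).map g) j) (fnMap g a) := by
  have h := congrArg (fun k => (Scheme.Hom.appTop k).hom a) (isPullback_piece hf g j).w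
  simp only [Scheme.Hom.comp_appTop, CommRingCat.hom_comp, RingHom.comp_apply] at h
  exact h

/-- The pieces of the base change form base changes. -/
theorem bcProp_piece (hM : IsCart M) (g : V ⟶ E) {U : EtOver X} (j : U ⟶ bcE hf E) [IsAffine E.obj.left.left]
    [IsAffine V.obj.left.left] [IsAffine U.obj.left.left] :
    BCProp (fnMap g) (rsecSemi M (EtOver.pullbackSnd ((EtOver.bc hf).map g) j) (pieceMap hf j)
        (pieceMap hf (EtOver.pullbackFst ((EtOver.bc hf).map g) j)))
      (rsecSemi_smul M _ _ _ (fnMap g) (piece_comm hf g j)) := by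
  have := isAffine_piece hf g j
  refine bcProp_rsecSemi M (hM _) _ _ _ (piece_comm hf g j) ?_
  have h := isPushout_appTop_of_isPullback (isPullback_piece hf g j).flip
  simp only [Scheme.Hom.comp_appTop] at h
  exact h

theorem res_sub_eq {W U : EtOver X} (z : U ⟶ W) (s t : sectModEt M W) :
    res M z (s - t) = res M z s - res M z t :=
  map_sub _ _ _

/-- A map of fibre products over a common base object. -/
theorem exists_pullback_map {W W' U U' : EtOver X} (bg : W' ⟶ W) {c : U ⟶ W} {c' : U' ⟶ W} (a : U' ⟶ U)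
    (h : a ≫ c = c') : ∃ b : EtOver.pullbackObj bg c' ⟶ EtOver.pullbackObj bg c,
      b ≫ EtOver.pullbackFst bg c = EtOver.pullbackFst bg c' ∧
        b ≫ EtOver.pullbackSnd bg c = EtOver.pullbackSnd bg c' ≫ a :=
  ⟨(EtOver.pullbackIsLimit bg c).lift (PullbackCone.mk (EtOver.pullbackFst bg c') (EtOver.pullbackSnd bg c' ≫ a)
      (by rw [EtOver.pullback_condition, Category.assoc, h])),
    (EtOver.pullbackIsLimit bg c).fac _ WalkingCospan.left,
    (EtOver.pullbackIsLimit bg c).fac _ WalkingCospan.right⟩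

/-- The direct image along a quasi-compact quasi-separated morphism is cartesian. -/
theorem bcProp_qcqs (hM : IsCart M) (hqc : IsQuasiCompactMor f) (hqs : IsQuasiSeparatedMor f)
    (g : V ⟶ E) [IsAffine E.obj.left.left] [IsAffine V.obj.left.left]
    (h₀ : ∀ (a : fn E) (s : RSec M (πfn hf E)),
      rsecSemi M ((EtOver.bc hf).map g) (πfn hf E) (πfn hf V) (a • s) =
        fnMap g a • rsecSemi M ((EtOver.bc hf).map g) (πfn hf E) (πfn hf V) s) :
    BCProp (fnMap g) (rsecSemi M ((EtOver.bc hf).map g) (πfn hf E) (πfn hf V)) h₀ := by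
  have := compactSpace_bcE hf hqc E
  obtain ⟨ι, hι, W, j, hW, hj⟩ := exists_finite_affine_cover (bcE hf E)
  have hov : ∀ p : ι × ι, ∃ (κ : Type) (_ : Finite κ) (Z : κ → EtOver X)
      (z : ∀ k, Z k ⟶ EtOver.pullbackObj (j p.1) (j p.2)), (∀ k, IsAffine (Z k).obj.left.left) ∧
        ∀ x, ∃ k, x ∈ Set.range (z k).hom.left.left := fun p => by
    have := hW p.1
    have := hW p.2
    have := quasiSeparated_bcP hf hqs E
    have : QuasiSeparatedSpace (bcE hf E).obj.left.left := quasiSeparatedSpace_of_quasiSeparated (bcP hf E)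
    have : QuasiCompact (j p.2).hom.left.left := inferInstance
    have : QuasiCompact (EtOver.pullbackFst (j p.1) (j p.2)).hom.left.left :=
      MorphismProperty.of_isPullback (isPullback_left (j p.1) (j p.2)).flip this
    have := QuasiCompact.compactSpace_of_compactSpace (EtOver.pullbackFst (j p.1) (j p.2)).hom.left.left
    exact exists_finite_affine_cover _
  choose κ hκ Z z hZ hz using hov
  let K := Σ p : ι × ι, κ p
  have : Finite K := inferInstance
  let a₁ : ∀ q : K, Z q.1 q.2 ⟶ W q.1.1 := fun q => z q.1 q.2 ≫ EtOver.pullbackFst (j q.1.1) (j q.1.2)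
  let a₂ : ∀ q : K, Z q.1 q.2 ⟶ W q.1.2 := fun q => z q.1 q.2 ≫ EtOver.pullbackSnd (j q.1.1) (j q.1.2)
  let o : ∀ q : K, Z q.1 q.2 ⟶ bcE hf E := fun q => a₁ q ≫ j q.1.1
  have ho : ∀ q, a₂ q ≫ j q.1.2 = o q := fun q => by
    simp only [o, a₁, a₂, Category.assoc, EtOver.pullback_condition]
  let bg := (EtOver.bc hf).map g
  have hb₁ : ∀ q : K, ∃ b : EtOver.pullbackObj bg (o q) ⟶ EtOver.pullbackObj bg (j q.1.1),
      b ≫ EtOver.pullbackFst bg (j q.1.1) = EtOver.pullbackFst bg (o q) ∧
        b ≫ EtOver.pullbackSnd bg (j q.1.1) = EtOver.pullbackSnd bg (o q) ≫ a₁ q := fun q =>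
    exists_pullback_map bg (a₁ q) rfl
  have hb₂ : ∀ q : K, ∃ b : EtOver.pullbackObj bg (o q) ⟶ EtOver.pullbackObj bg (j q.1.2),
      b ≫ EtOver.pullbackFst bg (j q.1.2) = EtOver.pullbackFst bg (o q) ∧
        b ≫ EtOver.pullbackSnd bg (j q.1.2) = EtOver.pullbackSnd bg (o q) ≫ a₂ q := fun q =>
    exists_pullback_map bg (a₂ q) (ho q)
  choose b₁ hb₁ hb₁' using hb₁
  choose b₂ hb₂ hb₂' using hb₂
  refine bcProp_of_equalizer (fnMap g) (flat_fnMap g) _ h₀
    (P := fun i => RSec M (pieceMap hf (j i))) (Q := fun i => RSec M (pieceMap hf (EtOver.pullbackFst bg (j i))))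
    (P' := fun q : K => RSec M (pieceMap hf (o q)))
    (Q' := fun q : K => RSec M (pieceMap hf (EtOver.pullbackFst bg (o q))))
    (fun i => rsecSemi M _ _ _) _ (fun i => have := hW i; bcProp_piece hf hM g (j i))
    (fun q => rsecSemi M _ _ _) _ (fun q => have := hZ q.1 q.2; bcProp_piece hf hM g (o q))
    (fun i => rsecRes M (j i) _ _ fun _ => rfl)
    (LinearMap.pi fun q =>
      (rsecRes M (a₁ q) _ _ (pieceMap_res hf (a₁ q) rfl)) ∘ₗ LinearMap.proj q.1.1 -
        (rsecRes M (a₂ q) _ _ (pieceMap_res hf (a₂ q) (ho q))) ∘ₗ LinearMap.proj q.1.2)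
    ?_ ?_ (fun i => rsecRes M (EtOver.pullbackFst bg (j i)) _ _ fun _ => rfl)
    (LinearMap.pi fun q =>
      (rsecRes M (b₁ q) _ _ (pieceMap_res hf (b₁ q) (hb₁ q))) ∘ₗ LinearMap.proj q.1.1 -
        (rsecRes M (b₂ q) _ _ (pieceMap_res hf (b₂ q) (hb₂ q))) ∘ₗ LinearMap.proj q.1.2)
    ?_ ?_ ?_ ?_
  · intro s t hst
    exact eq_of_cover W j hj fun i => congrFun hst i
  · intro x
    refine ⟨fun hx => ?_, ?_⟩
    · obtain ⟨t, ht⟩ := exists_glue W j hj x fun i k => by
        refine eq_of_cover (Z (i, k)) (z (i, k)) (hz (i, k)) fun l => ?_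
        rw [← res_comp_apply, ← res_comp_apply]
        exact sub_eq_zero.1 (congrFun hx ⟨(i, k), l⟩)
      exact ⟨t, funext ht⟩
    · rintro ⟨t, rfl⟩
      exact funext fun q => sub_eq_zero.2 (res_res_eq (M := M) (j q.1.1) (j q.1.2) (a₁ q) (a₂ q) (ho q).symm t)
  · intro s t hst
    refine eq_of_cover _ (fun i => EtOver.pullbackFst bg (j i)) (fun v => ?_) fun i => congrFun hst i
    obtain ⟨i, hi⟩ := hj (bg.hom.left.left v)
    exact ⟨i, exists_pullbackFst_preimage bg (j i) hi⟩
  · exact fun t => funext fun q => sub_eq_zero.2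
      (res_res_eq (M := M) _ _ (b₁ q) (b₂ q) ((hb₁ q).trans (hb₂ q).symm) t)
  · exact fun i p => res_res_eq (M := M) bg (j i) _ _ (EtOver.pullback_condition bg (j i)) p
  · intro x q
    change res M (b₁ q) (res M _ (x q.1.1)) - res M (b₂ q) (res M _ (x q.1.2)) =
      res M _ (res M (a₁ q) (x q.1.1) - res M (a₂ q) (x q.1.2))
    exact (congrArg₂ (· - ·)
      (res_res_eq (M := M) (EtOver.pullbackSnd bg (j q.1.1)) (a₁ q) (b₁ q) (EtOver.pullbackSnd bg (o q))
        (hb₁' q) (x q.1.1))
      (res_res_eq (M := M) (EtOver.pullbackSnd bg (j q.1.2)) (a₂ q) (b₂ q) (EtOver.pullbackSnd bg (o q))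
        (hb₂' q) (x q.1.2))).trans (res_sub_eq _ _ _).symm

theorem bc_semi_smul (g : V ⟶ E) (a : fn E) (s : RSec M (πfn hf E)) :
    rsecSemi M ((EtOver.bc hf).map g) (πfn hf E) (πfn hf V) (a • s) =
      fnMap g a • rsecSemi M ((EtOver.bc hf).map g) (πfn hf E) (πfn hf V) s := by
  refine rsecSemi_smul M _ _ _ (fnMap g) (fun a => ?_) a s
  have h := congrArg (fun k => (Scheme.Hom.appTop k).hom a) (isPullback_bc hf g).w
  simp only [Scheme.Hom.comp_appTop, CommRingCat.hom_comp, RingHom.comp_apply] at h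
  exact h

/-- The base change property for one morphism. -/
theorem isBC_push_qcqs (hM : IsCart M) (hqc : IsQuasiCompactMor f) (hqs : IsQuasiSeparatedMor f) (g : V ⟶ E)
    [IsAffine E.obj.left.left] [IsAffine V.obj.left.left] : IsBC (pushM hf M) g :=
  bcProp_qcqs hf hM hqc hqs g (bc_semi_smul hf g)

/-- Direct images along quasi-compact quasi-separated morphisms preserve quasi-coherence. -/
theorem isCart_push_qcqs (hM : IsCart M) (hqc : IsQuasiCompactMor f) (hqs : IsQuasiSeparatedMor f) :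
    IsCart (pushM hf M) := fun _ _ _ _ g =>
  isBC_push_qcqs hf hM hqc hqs g

end Groth.Agent.Lib.EtMod
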