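import Groth.Agent.Lib.EtMod.Basic

/-!
# Modules on a slice of the small etale site: sections over affine objects and gluing of base changes
-/

universe u

set_option backward.isDefEq.respectTransparency false

open CategoryTheory CategoryTheory.Limits AlgebraicGeometry Opposite AlgSp
open TensorProduct

namespace Groth.Agent.Lib.EtMod

variable {S : Scheme.{u}} {X : Sp S}

/-! ### Functions downstairs, as algebras -/

/-- The functions on the source of a morphism, as an algebra over those on the target. -/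
def Fn {E V : EtOver X} (_g : V ⟶ E) : Type u := fn V

noncomputable instance {E V : EtOver X} (g : V ⟶ E) : CommRing (Fn g) := inferInstanceAs (CommRing (fn V))

noncomputable instance fnAlgebra {E V : EtOver X} (g : V ⟶ E) : Algebra (fn E) (Fn g) :=
  RingHom.toAlgebra (fnMap g)

theorem algebraMap_fn {E V : EtOver X} (g : V ⟶ E) (a : fn E) :
    algebraMap (fn E) (Fn g) a = fnMap g a :=
  rfl

/-- Functions restrict along morphisms over the base. -/
noncomputable def fnHom {E V W : EtOver X} (h : W ⟶ V) {g : V ⟶ E} {g' : W ⟶ E} (e : h ≫ g = g') :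
    Fn g →ₐ[fn E] Fn g' where
  __ := (fnMap h : fn V →+* fn W)
  commutes' a := by
    change fnMap h (fnMap g a) = fnMap g' a
    rw [← fnMap_comp_apply, e]

theorem fnHom_apply {E V W : EtOver X} (h : W ⟶ V) {g : V ⟶ E} {g' : W ⟶ E} (e : h ≫ g = g')
    (b : Fn g) : fnHom h e b = fnMap h b :=
  rfl

theorem flat_fn {E V : EtOver X} (g : V ⟶ E) [IsAffine E.obj.left.left] [IsAffine V.obj.left.left] :
    Module.Flat (fn E) (Fn g) :=
  flat_fnMap g

/-! ### Modules on a slice -/

variable {X₀ : EtOver X}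

/-- A module on the slice over `X₀`. -/
abbrev SliceMod (X₀ : EtOver X) : Type (u + 2) := SheafOfModules.{u + 1} ((OEtRing X).over X₀)

variable (P : SliceMod X₀)

/-- Sections over an object of the slice. -/
abbrev SSec {V : EtOver X} (a : V ⟶ X₀) : Type (u + 1) := P.val.obj (op (Over.mk a))

noncomputable instance sSecModule {V : EtOver X} (a : V ⟶ X₀) : Module (fn V) (SSec P a) :=
  Module.compHom _ (upΓ V : fn V →+* ((OEtRing X).over X₀).obj.obj (op (Over.mk a)))

/-- Restriction on the slice. -/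
noncomputable def sres {V W : EtOver X} (h : W ⟶ V) {a : V ⟶ X₀} {b : W ⟶ X₀} (e : h ≫ a = b) :
    SSec P a →+ SSec P b :=
  (P.val.presheaf.map (Over.homMk h e : Over.mk b ⟶ Over.mk a).op).hom

theorem sres_smul {V W : EtOver X} (h : W ⟶ V) {a : V ⟶ X₀} {b : W ⟶ X₀} (e : h ≫ a = b) (r : fn V)
    (s : SSec P a) : sres P h e (r • s) = fnMap h r • sres P h e s :=
  PresheafOfModules.map_smul P.val (Over.homMk h e : Over.mk b ⟶ Over.mk a).op (upΓ V r) s

theorem sres_comp {V W U : EtOver X} (h : W ⟶ V) (k : U ⟶ W) {a : V ⟶ X₀} {b : W ⟶ X₀} {c : U ⟶ X₀}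
    (e : h ≫ a = b) (e' : k ≫ b = c) (e'' : (k ≫ h) ≫ a = c) (s : SSec P a) :
    sres P k e' (sres P h e s) = sres P (k ≫ h) e'' s := by
  refine ((ConcreteCategory.congr_hom (P.val.presheaf.map_comp
    (Over.homMk h e : Over.mk b ⟶ Over.mk a).op (Over.homMk k e' : Over.mk c ⟶ Over.mk b).op) s).symm.trans ?_)
  rfl

theorem sres_congr {V W : EtOver X} {h h' : W ⟶ V} (hh : h = h') {a : V ⟶ X₀} {b : W ⟶ X₀}
    (e : h ≫ a = b) (e' : h' ≫ a = b) (s : SSec P a) : sres P h e s = sres P h' e' s := by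
  subst hh
  rfl

variable {P}

/-- A morphism on sections. -/
noncomputable def sMap {Q : SliceMod X₀} (φ : P ⟶ Q) {V : EtOver X} (a : V ⟶ X₀) :
    SSec P a →ₗ[fn V] SSec Q a where
  toFun s := φ.val.app (op (Over.mk a)) s
  map_add' := map_add (φ.val.app (op (Over.mk a))).hom
  map_smul' r s := map_smul (φ.val.app (op (Over.mk a))).hom (upΓ V r) s

theorem sMap_sres {Q : SliceMod X₀} (φ : P ⟶ Q) {V W : EtOver X} (h : W ⟶ V) {a : V ⟶ X₀} {b : W ⟶ X₀}
    (e : h ≫ a = b) (s : SSec P a) : sMap φ b (sres P h e s) = sres Q h e (sMap φ a s) :=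
  PresheafOfModules.naturality_apply φ.val (Over.homMk h e : Over.mk b ⟶ Over.mk a).op s

theorem sres_self {V : EtOver X} {a : V ⟶ X₀} (e : 𝟙 V ≫ a = a) (s : SSec P a) : sres P (𝟙 V) e s = s :=
  ConcreteCategory.congr_hom (P.val.presheaf.map_id (op (Over.mk a))) s

variable (P)

/-- Sections over `V`, seen from the affine base `E`. -/
def Sec {E V : EtOver X} (f : E ⟶ X₀) (g : V ⟶ E) : Type (u + 1) := SSec P (g ≫ f)

variable {E : EtOver X} (f : E ⟶ X₀)

noncomputable instance {V : EtOver X} (g : V ⟶ E) : AddCommGroup (Sec P f g) :=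
  inferInstanceAs (AddCommGroup (SSec P (g ≫ f)))

noncomputable instance secFnModule {V : EtOver X} (g : V ⟶ E) : Module (Fn g) (Sec P f g) :=
  inferInstanceAs (Module (fn V) (SSec P (g ≫ f)))

noncomputable instance secBaseModule {V : EtOver X} (g : V ⟶ E) : Module (fn E) (Sec P f g) :=
  Module.compHom _ (algebraMap (fn E) (Fn g))

instance {V : EtOver X} (g : V ⟶ E) : IsScalarTower (fn E) (Fn g) (Sec P f g) :=
  IsScalarTower.of_algebraMap_smul fun _ _ => rfl

/-- Restriction from the base. -/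
noncomputable def resL {V : EtOver X} (g : V ⟶ E) : SSec P f →ₗ[fn E] Sec P f g where
  toFun s := sres P g rfl s
  map_add' := map_add _
  map_smul' a s := sres_smul P g rfl a s

theorem eq_assoc {V W : EtOver X} (h : W ⟶ V) {g : V ⟶ E} {g' : W ⟶ E} (e : h ≫ g = g') :
    h ≫ g ≫ f = g' ≫ f := by
  rw [← Category.assoc, e]

/-- Restriction between objects over the base. -/
noncomputable def secHom {V W : EtOver X} (h : W ⟶ V) {g : V ⟶ E} {g' : W ⟶ E} (e : h ≫ g = g') :
    Sec P f g →ₗ[fn E] Sec P f g' where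
  toFun s := sres P h (eq_assoc f h e) s
  map_add' := map_add (sres P h (eq_assoc f h e))
  map_smul' a s := by
    change sres P h (eq_assoc f h e) (fnMap g a • (show SSec P (g ≫ f) from s)) = _
    rw [sres_smul, ← fnMap_comp_apply, e]
    rfl

theorem secHom_smul {V W : EtOver X} (h : W ⟶ V) {g : V ⟶ E} {g' : W ⟶ E} (e : h ≫ g = g') (b : Fn g)
    (s : Sec P f g) : secHom P f h e (b • s) = fnHom h e b • secHom P f h e s :=
  sres_smul P h (eq_assoc f h e) b s

theorem secHom_resL {V W : EtOver X} (h : W ⟶ V) {g : V ⟶ E} {g' : W ⟶ E} (e : h ≫ g = g')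
    (s : SSec P f) : secHom P f h e (resL P f g s) = resL P f g' s :=
  (sres_comp P g h rfl _ (by rw [e]) s).trans (sres_congr P e _ _ s)

theorem secHom_secHom {V W U : EtOver X} (h : W ⟶ V) (k : U ⟶ W) {g : V ⟶ E} {g' : W ⟶ E} {g'' : U ⟶ E}
    (e : h ≫ g = g') (e' : k ≫ g' = g'') (e'' : (k ≫ h) ≫ g = g'') (s : Sec P f g) :
    secHom P f k e' (secHom P f h e s) = secHom P f (k ≫ h) e'' s :=
  sres_comp P h k _ _ _ s

theorem secHom_congr {V W : EtOver X} {h h' : W ⟶ V} (hh : h = h') {g : V ⟶ E} {g' : W ⟶ E}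
    (e : h ≫ g = g') (e' : h' ≫ g = g') (s : Sec P f g) : secHom P f h e s = secHom P f h' e' s :=
  sres_congr P hh _ _ s

/-- Sections agree when they agree on a covering. -/
theorem sec_ext {V : EtOver X} {g : V ⟶ E} {R : Sieve V} (hR : R ∈ etTop X V) {s t : Sec P f g}
    (h : ∀ ⦃W : EtOver X⦄ (k : W ⟶ V), R k → secHom P f k rfl s = secHom P f k rfl t) : s = t := by
  let Y : Over X₀ := Over.mk (g ≫ f)
  refine SubSheaf.sections_ext P (X := Y) (S := (Sieve.overEquiv Y).symm R)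
    ((GrothendieckTopology.mem_over_iff _ _).2 ((OrderIso.apply_symm_apply (Sieve.overEquiv Y) R).symm ▸ hR)) ?_
  intro W k hk
  obtain ⟨W₀, w, rfl⟩ := W.mk_surjective
  have hk' : R k.left := (Sieve.overEquiv_symm_iff R k).1 hk
  have key : ∀ {W₀ : EtOver X} (k₀ : W₀ ⟶ V) (w : W₀ ⟶ X₀) (hw : k₀ ≫ g ≫ f = w), R k₀ →
      sres P k₀ hw s = sres P k₀ hw t := fun k₀ w hw hk₀ => by
    obtain rfl : w = (k₀ ≫ g) ≫ f := by rw [Category.assoc]; exact hw.symm
    exact h k₀ hk₀
  exact key k.left w (Over.w k) hk'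

variable {P f}
variable {N : Type (u + 1)} [AddCommGroup N] [Module (fn E) N] (θ : N →ₗ[fn E] SSec P f)

/-- The comparison from the base change of a module mapping to the sections over the base. -/
noncomputable def tens {V : EtOver X} (g : V ⟶ E) : Fn g ⊗[fn E] N →ₗ[Fn g] Sec P f g :=
  LinearMap.liftBaseChange (Fn g) ((resL P f g).comp θ)

theorem tens_tmul {V : EtOver X} (g : V ⟶ E) (b : Fn g) (n : N) :
    tens θ g (b ⊗ₜ n) = b • resL P f g (θ n) :=
  LinearMap.liftBaseChange_tmul _ _ _ _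

theorem tens_rTensor {V W : EtOver X} (h : W ⟶ V) {g : V ⟶ E} {g' : W ⟶ E} (e : h ≫ g = g')
    (z : Fn g ⊗[fn E] N) :
    tens θ g' ((fnHom h e).toLinearMap.rTensor N z) = secHom P f h e (tens θ g z) := by
  induction z using TensorProduct.induction_on with
  | zero => simp
  | tmul b n => simp [tens_tmul, secHom_smul, secHom_resL]
  | add x y hx hy => simp only [map_add, hx, hy]

theorem bijective_productMap_pullback {V : EtOver X} {V₁ V₂ : EtOver X} (k₁ : V₁ ⟶ V) (k₂ : V₂ ⟶ V)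
    [IsAffine V.obj.left.left] [IsAffine V₁.obj.left.left] [IsAffine V₂.obj.left.left] :
    Function.Bijective (Algebra.TensorProduct.productMap
      (fnHom (EtOver.pullbackFst k₁ k₂) (rfl : EtOver.pullbackFst k₁ k₂ ≫ k₁ = _))
      (fnHom (EtOver.pullbackSnd k₁ k₂) (EtOver.pullback_condition k₁ k₂).symm)) := by
  let C := Fn (EtOver.pullbackFst k₁ k₂ ≫ k₁)
  letI : Algebra (Fn k₁) C := (fnHom (EtOver.pullbackFst k₁ k₂) rfl).toRingHom.toAlgebra
  letI : Algebra (Fn k₂) C :=
    (fnHom (EtOver.pullbackSnd k₁ k₂) (EtOver.pullback_condition k₁ k₂).symm).toRingHom.toAlgebra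
  haveI : IsScalarTower (fn V) (Fn k₁) C :=
    .of_algebraMap_eq fun a => (AlgHom.commutes (fnHom (EtOver.pullbackFst k₁ k₂) rfl) a).symm
  haveI : IsScalarTower (fn V) (Fn k₂) C := .of_algebraMap_eq fun a => (AlgHom.commutes
    (fnHom (EtOver.pullbackSnd k₁ k₂) (EtOver.pullback_condition k₁ k₂).symm) a).symm
  have hpo : Algebra.IsPushout (fn V) (Fn k₁) (Fn k₂) C :=
    CommRingCat.isPushout_iff_isPushout.1 (isPushout_appTop_of_isPullback (isPullback_left k₁ k₂))
  refine ((congrArg Function.Bijective ?_).mp hpo.out.equiv.bijective)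
  funext z
  induction z using TensorProduct.induction_on with
  | zero => simp
  | tmul a b =>
    rw [IsBaseChange.equiv_tmul, Algebra.TensorProduct.productMap_apply_tmul]
    exact Algebra.smul_def a _
  | add x y hx hy => simp only [map_add, hx, hy]

/-- A base change comparison that is locally injective and locally surjective on affine objects is
bijective on affine objects. -/
theorem bijective_tens
    (hinj : ∀ ⦃V : EtOver X⦄ [IsAffine V.obj.left.left] (g : V ⟶ E) (z : Fn g ⊗[fn E] N),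
      tens θ g z = 0 → ∃ R ∈ etTop X V, ∀ ⦃W : EtOver X⦄ [IsAffine W.obj.left.left] (h : W ⟶ V),
        R h → (fnHom h (rfl : h ≫ g = h ≫ g)).toLinearMap.rTensor N z = 0)
    (hsurj : ∀ ⦃V : EtOver X⦄ [IsAffine V.obj.left.left] (g : V ⟶ E) (m : Sec P f g),
      ∃ R ∈ etTop X V, ∀ ⦃W : EtOver X⦄ [IsAffine W.obj.left.left] (h : W ⟶ V),
        R h → ∃ z, tens θ (h ≫ g) z = secHom P f h rfl m)
    ⦃V : EtOver X⦄ [IsAffine V.obj.left.left] (g : V ⟶ E) : Function.Bijective (tens θ g) := by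
  have inj : ∀ ⦃V : EtOver X⦄ [IsAffine V.obj.left.left] (g : V ⟶ E), Function.Injective (tens θ g) := by
    intro V _ g
    rw [injective_iff_map_eq_zero]
    intro z hz
    obtain ⟨R, hR, hz'⟩ := hinj g z hz
    obtain ⟨C, hC⟩ := exists_affCover hR
    letI := fun k => (fnHom (C.g k) (rfl : C.g k ≫ g = C.g k ≫ g)).toRingHom.toAlgebra
    haveI : ∀ k, IsScalarTower (fn E) (Fn g) (Fn (C.g k ≫ g)) := fun k =>
      .of_algebraMap_eq fun a => (AlgHom.commutes (fnHom (C.g k) rfl) a).symm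
    have hB : Alg.IsFFFamily (A := Fn g) fun k => Fn (C.g k ≫ g) :=
      ⟨fun k => flat_fnMap (C.g k), C.covers⟩
    exact hB.eq_zero' fun k => hz' (C.g k) (hC k)
  refine ⟨inj g, fun m => ?_⟩
  obtain ⟨R, hR, hm⟩ := hsurj g m
  obtain ⟨C, hC⟩ := exists_affCover hR
  choose z hz using fun k => hm (C.g k) (hC k)
  let O := fun k l => EtOver.pullbackObj (C.g k) (C.g l)
  let o : ∀ k l, O k l ⟶ E := fun k l => (EtOver.pullbackFst (C.g k) (C.g l) ≫ C.g k) ≫ g
  have e₁ : ∀ k l, EtOver.pullbackFst (C.g k) (C.g l) ≫ C.g k ≫ g = o k l := fun k l =>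
    (Category.assoc _ _ _).symm
  have e₂ : ∀ k l, EtOver.pullbackSnd (C.g k) (C.g l) ≫ C.g l ≫ g = o k l := fun k l => by
    change _ = (EtOver.pullbackFst (C.g k) (C.g l) ≫ C.g k) ≫ g
    rw [EtOver.pullback_condition, Category.assoc]
  letI aB := fun k => (fnHom (C.g k) (rfl : C.g k ≫ g = C.g k ≫ g)).toRingHom.toAlgebra
  haveI : ∀ k, IsScalarTower (fn E) (Fn g) (Fn (C.g k ≫ g)) := fun k =>
    .of_algebraMap_eq fun a => (AlgHom.commutes (fnHom (C.g k) rfl) a).symm
  letI aC := fun k l => (fnHom (EtOver.pullbackFst (C.g k) (C.g l) ≫ C.g k)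
    (rfl : (EtOver.pullbackFst (C.g k) (C.g l) ≫ C.g k) ≫ g = o k l)).toRingHom.toAlgebra
  haveI : ∀ k l, IsScalarTower (fn E) (Fn g) (Fn (o k l)) := fun k l =>
    .of_algebraMap_eq fun a => (AlgHom.commutes (fnHom (EtOver.pullbackFst (C.g k) (C.g l) ≫ C.g k)
      (rfl : (EtOver.pullbackFst (C.g k) (C.g l) ≫ C.g k) ≫ g = o k l)) a).symm
  have hB : Alg.IsFFFamily (A := Fn g) fun k => Fn (C.g k ≫ g) :=
    ⟨fun k => flat_fnMap (C.g k), C.covers⟩
  let i₁ : ∀ k l, Fn (C.g k ≫ g) →ₐ[Fn g] Fn (o k l) := fun k l =>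
    { (fnHom (EtOver.pullbackFst (C.g k) (C.g l)) (e₁ k l)).toRingHom with
      commutes' := fun b => (fnMap_comp_apply _ (C.g k) b).symm }
  let i₂ : ∀ k l, Fn (C.g l ≫ g) →ₐ[Fn g] Fn (o k l) := fun k l =>
    { (fnHom (EtOver.pullbackSnd (C.g k) (C.g l)) (e₂ k l)).toRingHom with
      commutes' := fun b => ((congrArg (fun t => fnMap t b)
        (EtOver.pullback_condition (C.g k) (C.g l))).trans (fnMap_comp_apply _ (C.g l) b)).symm }
  obtain ⟨n, hn⟩ := hB.exists_glue' i₁ i₂
    (fun k l => bijective_productMap_pullback (C.g k) (C.g l)) z (fun k l => by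
      refine inj (o k l) ?_
      have t₁ := tens_rTensor θ (EtOver.pullbackFst (C.g k) (C.g l)) (e₁ k l) (z k)
      have t₂ := tens_rTensor θ (EtOver.pullbackSnd (C.g k) (C.g l)) (e₂ k l) (z l)
      have u₁ := t₁.trans ((congrArg _ (hz k)).trans (secHom_secHom P f (C.g k) _ rfl (e₁ k l)
        ((Category.assoc _ _ _).trans (e₁ k l)) m))
      have u₂ := t₂.trans ((congrArg _ (hz l)).trans (secHom_secHom P f (C.g l) _ rfl (e₂ k l)
        ((Category.assoc _ _ _).trans (e₂ k l)) m))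
      exact u₁.trans ((secHom_congr P f (EtOver.pullback_condition (C.g k) (C.g l)) _ _ m).trans u₂.symm))
  refine ⟨n, sec_ext P f (ofArrows_mem_etTop C.V C.g C.cov) fun W w hw => ?_⟩
  obtain ⟨_, a, _, ⟨k⟩, rfl⟩ := hw
  have h : secHom P f (C.g k) (rfl : C.g k ≫ g = C.g k ≫ g) (tens θ g n) =
      secHom P f (C.g k) rfl m := by
    rw [← tens_rTensor, ← hz k]
    exact congrArg (tens θ _) (hn k)
  rw [← secHom_secHom P f (C.g k) a rfl (Category.assoc _ _ _).symm rfl,
    ← secHom_secHom P f (C.g k) a rfl (Category.assoc _ _ _).symm rfl, h]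

end Groth.Agent.Lib.EtMod
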