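import Groth.Agent.Lib.EtMod.Exact

/-!
# Quasi-coherent submodules cut out by annihilation
-/

universe u w

set_option backward.isDefEq.respectTransparency false
set_option linter.style.haveILetI false

open CategoryTheory CategoryTheory.Limits AlgebraicGeometry Opposite AlgSp
open TensorProduct

namespace Groth.Agent.Lib.EtMod

section Alg

variable {A B : Type u} [CommRing A] [CommRing B] [Algebra A B] [Module.Flat A B]
  {P₀ P₁ P₂ Q₀ Q₁ : Type w} [AddCommGroup P₀] [AddCommGroup P₁] [AddCommGroup P₂]
  [Module A P₀] [Module A P₁] [Module A P₂]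
  [AddCommGroup Q₀] [AddCommGroup Q₁] [Module A Q₀] [Module A Q₁] [Module B Q₀] [Module B Q₁]
  [IsScalarTower A B Q₀] [IsScalarTower A B Q₁]

/-- Flat base change of a kernel, with the kernel upstairs described through the comparison. -/
theorem Alg.isBaseChange_ker {f₀ : P₀ →ₗ[A] Q₀} {f₁ : P₁ →ₗ[A] Q₁} (h₁ : IsBaseChange B f₁)
    {r : P₀ →ₗ[A] P₁} {d : P₁ →ₗ[A] P₂} (hr : Function.Injective r) (hex : Function.Exact r d)
    {s : Q₀ →ₗ[B] Q₁} (hs : Function.Injective s)
    (hker : ∀ q : Q₀, d.lTensor B (h₁.equiv.symm (s q)) = 0) (c : ∀ p, s (f₀ p) = f₁ (r p)) :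
    IsBaseChange B f₀ := by
  let Φ₀ : B ⊗[A] P₀ →ₗ[B] Q₀ := LinearMap.liftBaseChange B f₀
  have e₁ : ∀ x, s (Φ₀ x) = h₁.equiv (r.lTensor B x) := fun x => by
    induction x using TensorProduct.induction_on with
    | zero => simp
    | tmul b p => simp [Φ₀, IsBaseChange.equiv_tmul, c]
    | add x y hx hy => simp only [map_add, hx, hy]
  have hinj : Function.Injective Φ₀ := fun x y h => by
    refine Module.Flat.lTensor_preserves_injective_linearMap r hr ?_
    refine h₁.equiv.injective ?_
    rw [← e₁, ← e₁, h]
  have hsurj : Function.Surjective Φ₀ := fun q => by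
    obtain ⟨y, hy⟩ := (Module.Flat.lTensor_exact B hex _).1 (hker q)
    exact ⟨y, hs (by rw [e₁, hy, LinearEquiv.apply_symm_apply])⟩
  exact IsBaseChange.of_equiv (LinearEquiv.ofBijective Φ₀ ⟨hinj, hsurj⟩) fun p =>
    (LinearMap.liftBaseChange_tmul B f₀ 1 p).trans (one_smul B _)

end Alg

variable {S : Scheme.{u}} {X : Sp S}

/-- Restriction between affine objects carries the ideals to generators. -/
theorem mem_map_ideal {I : IdealEt X} (hI : I.IsQCoh) {E W : EtOver X} (hE : IsAffine E.obj.left.left)
    (hW : IsAffine W.obj.left.left) (g : W ⟶ E) {a : fn W} (ha : a ∈ I.ideal W hW) :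
    a ∈ (I.ideal E hE).map (fnMap g) :=
  hI g hE hW ha

theorem smul_eq_zero_of_mem_map {M : ModEt X} {E W : EtOver X} (g : W ⟶ E) {J : Ideal (fn E)}
    {x : sectModEt M W} (h : ∀ a ∈ J, fnMap g a • x = 0) {b : fn W} (hb : b ∈ J.map (fnMap g)) :
    b • x = 0 := by
  induction hb using Submodule.span_induction with
  | mem y hy => obtain ⟨a, ha, rfl⟩ := hy; exact h a ha
  | zero => exact zero_smul _ _
  | add y z _ _ hy hz => rw [add_smul, hy, hz, add_zero]
  | smul c y _ hy => rw [smul_eq_mul, mul_smul, hy, smul_zero]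

/-- The sections killed on every affine object by an ideal. -/
def annSub (I : IdealEt X) (F : ModEt X) : F.val.Submodule where
  obj V :=
    { carrier := {s | ∀ (W : EtOver X) (hW : IsAffine W.obj.left.left) (k : W ⟶ V.unop),
        ∀ a ∈ I.ideal W hW, a • res F k s = 0}
      add_mem' := fun {s t} hs ht W hW k a ha => by
        change a • res F k ((s : sectModEt F V.unop) + t) = 0
        rw [map_add, smul_add, hs W hW k a ha, ht W hW k a ha, add_zero]
      zero_mem' := fun W hW k a _ => by
        change a • res F k (0 : sectModEt F V.unop) = 0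
        rw [map_zero, smul_zero]
      smul_mem' := fun r s hs W hW k a ha => by
        let r' : fn V.unop := r.down
        let s' : sectModEt F V.unop := s
        change a • res F k (r' • s') = 0
        rw [res_smul, smul_comm, hs W hW k a ha, smul_zero] }
  map {V V'} g := fun s hs W hW k a ha => by
    have h := hs W hW (k ≫ g.unop) a ha
    rw [res_comp_apply] at h
    exact h

theorem mem_annSub_iff {I : IdealEt X} (hI : I.IsQCoh) {F : ModEt X} (E : EtOver X)
    (hE : IsAffine E.obj.left.left) (s : sectModEt F E) :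
    s ∈ (annSub I F).obj (op E) ↔ ∀ a ∈ I.ideal E hE, a • s = 0 := by
  refine ⟨fun h a ha => ?_, fun h W hW k a ha => ?_⟩
  · have := h E hE (𝟙 E) a ha
    rwa [res_id_apply] at this
  · exact smul_eq_zero_of_mem_map k (fun b hb => by rw [← res_smul, h b hb, map_zero])
      (mem_map_ideal hI hE hW k ha)

/-- Being killed by an ideal is local. -/
theorem mem_annSub_of_closure {I : IdealEt X} {F : ModEt X} {V : EtOver X} {s : sectModEt F V}
    (hs : s ∈ (SubSheaf.closure (annSub I F)).obj (op V)) : s ∈ (annSub I F).obj (op V) := by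
  intro W hW k a ha
  have hR : Sieve.pullback k (SubSheaf.memSieve (annSub I F) (X := V) s) ∈ etTop X W :=
    (etTop X).pullback_stable k hs
  obtain ⟨C, hC⟩ := exists_affCover hR
  refine eq_of_cover C.V C.g C.cov fun j => ?_
  rw [res_smul, map_zero, ← res_comp_apply]
  have h := hC j (C.V j) (C.aff j) (𝟙 _) (fnMap (C.g j) a)
    (I.map_le (C.g j) hW (C.aff j) (Ideal.mem_map_of_mem _ ha))
  change fnMap (C.g j) a • res F (𝟙 _) (res F (C.g j ≫ k) s) = 0 at h
  rwa [res_id_apply] at h

/-- The sections annihilated by a quasi-coherent ideal of finite type. -/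
theorem exists_annihilated {I : IdealEt X} (hI : I.IsQCoh)
    (hft : ∀ (E : EtOver X) (hE : IsAffine E.obj.left.left), (I.ideal E hE).FG) {F : ModEt X} (hF : IsCart F) :
    IsCart (SubSheaf.closureSheaf (annSub I F)) ∧
      ∀ (E : EtOver X) (hE : IsAffine E.obj.left.left),
        Set.range (secMap (SubSheaf.closureι (annSub I F)) E) =
          {s : sectModEt F E | ∀ a ∈ I.ideal E hE, a • s = 0} := by
  let ι := SubSheaf.closureι (annSub I F)
  have hrange : ∀ (E : EtOver X) (hE : IsAffine E.obj.left.left) (s : sectModEt F E),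
      s ∈ Set.range (secMap ι E) ↔ ∀ a ∈ I.ideal E hE, a • s = 0 := fun E hE s => by
    rw [← mem_annSub_iff hI E hE]
    exact ⟨fun ⟨x, hx⟩ => hx ▸ mem_annSub_of_closure x.2,
      fun h => ⟨⟨s, SubSheaf.le_closure (annSub I F) (op E) h⟩, rfl⟩⟩
  refine ⟨?_, fun E hE => Set.ext (hrange E hE)⟩
  intro E V hE hV g
  haveI := flat_fn g
  classical
  obtain ⟨G, hG⟩ := hft E hE
  let d : sectModEt F E →ₗ[fn E] (G → sectModEt F E) := LinearMap.pi fun a => (a : fn E) • LinearMap.id
  have hinjE : ∀ E, Function.Injective (secMap ι E) := fun E a b h => Subtype.ext h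
  have hex : Function.Exact (secMap ι E) d := fun s => by
    refine Iff.trans ?_ (hrange E hE s).symm
    refine ⟨fun h a ha => ?_, fun h => funext fun a => h a.1 ?_⟩
    · rw [← hG] at ha
      induction ha using Submodule.span_induction with
      | mem y hy => exact congrFun h ⟨y, hy⟩
      | zero => exact zero_smul _ _
      | add y z _ _ hy hz => rw [add_smul, hy, hz, add_zero]
      | smul c y _ hy => rw [smul_eq_mul, mul_smul, hy, smul_zero]
    · rw [← hG]
      exact Submodule.subset_span a.2
  have h₁ : IsBaseChange (Fn g) (mResL F g) := hF g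
  have hzero : ∀ (a : fn E), a ∈ I.ideal E hE → ∀ q : sectModEt (SubSheaf.closureSheaf (annSub I F)) V,
      a • (h₁.equiv.symm (show MSec F g from secMap ι V q)) = 0 := fun a ha q => by
    have h : fnMap g a • secMap ι V q = 0 :=
      (hrange V hV _).1 ⟨q, rfl⟩ _ (I.map_le g hE hV (Ideal.mem_map_of_mem _ ha))
    have h' : a • (show MSec F g from secMap ι V q) = 0 := h
    refine (LinearMap.map_smul_of_tower h₁.equiv.symm.toLinearMap a _).symm.trans ?_
    exact (congrArg h₁.equiv.symm.toLinearMap h').trans (map_zero _)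
  have key : IsBaseChange (Fn g) (mResL (SubSheaf.closureSheaf (annSub I F)) g) :=
    Alg.isBaseChange_ker (B := Fn g) (f₀ := mResL (SubSheaf.closureSheaf (annSub I F)) g) h₁
      (r := secMap ι E) (d := d) (hinjE E) hex (s := mSecMap ι g) (hinjE V)
      (fun q => by
        refine (TensorProduct.piRight (fn E) (fn E) (Fn g) fun _ : G => sectModEt F E).injective ?_
        rw [map_zero]
        funext a
        have hpi : ∀ z, TensorProduct.piRight (fn E) (fn E) (Fn g) (fun _ : G => sectModEt F E)
            (d.lTensor (Fn g) z) a = (a : fn E) • z := fun z => by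
          induction z using TensorProduct.induction_on with
          | zero => simp
          | tmul b n => simp [d, TensorProduct.tmul_smul]
          | add x y hx hy => simp only [map_add, Pi.add_apply, hx, hy, smul_add]
        rw [hpi]
        exact hzero _ (hG ▸ Submodule.subset_span a.2) q)
      (fun p => secMap_res ι g p)
  exact key

end Groth.Agent.Lib.EtMod
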